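import Cfsg.Agent.Lib.HNxyz.PairedOrbit

/-!
# Three generators and the relations between them

The letters 0, …, 5 are x, x⁻¹, y, y⁻¹, z, z⁻¹. The certificates read a letter as the inverse of
its element, so that a word that is trivial as a product fixes all points.
-/

set_option autoImplicit false

namespace CfsgLib.HNxyz

open CfsgLib.PresCert

variable {M N : Type*} [Group M] [Group N]

/-- The element of a letter. -/
def elt (a b c : M) : ℕ → M
  | 0 => a
  | 1 => a⁻¹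
  | 2 => b
  | 3 => b⁻¹
  | 4 => c
  | 5 => c⁻¹
  | _ => 1

/-- The product of a word. -/
def evalW (e : ℕ → M) (w : List ℕ) : M := (w.map e).prod

/-- The acting element of a letter. -/
def gen3 (a b c : M) (i : ℕ) : M := (elt a b c i)⁻¹

/-- The ten relators in x, y, z. -/
def xyzRels : List (List ℕ) :=
  [
    [2, 2, 2, 2, 2, 2],
        [0, 0, 2, 0, 0, 3],
        [1, 3, 0, 2, 1, 3, 0, 2, 1, 3, 0, 2],
        [1, 2, 2, 0, 2, 2, 2, 1, 2, 2, 0, 2, 2, 2, 1, 2, 2, 0, 2, 2, 2],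
        [0, 2, 0, 2, 0, 2, 0, 2, 0, 2, 0, 2, 0, 2, 0, 2],
        [0, 2, 0, 2, 2, 2, 0, 2, 0, 2, 2, 2, 0, 2, 0, 2, 2, 2, 0, 2, 0, 2, 2, 2],
        [4, 4],
        [4, 0, 4, 0],
        [5, 2, 1, 3, 3, 1, 3, 1, 3, 4, 2, 0, 2, 0, 2, 2, 0, 3, 1, 1],
        [4, 3, 1, 3, 1, 3, 3, 3, 4, 2, 2, 2, 0, 2, 0, 2, 0, 3, 1, 3, 1, 3, 3, 3, 4, 2, 2, 2, 0, 2, 0, 2, 0, 3, 1, 3, 1, 3, 3, 3, 4, 2, 2, 2, 0, 2, 0, 2, 0]
  ]

/-- The relations hold. -/
def XYZRels (a b c : M) : Prop := ∀ w ∈ xyzRels, evalW (elt a b c) w = 1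

theorem evalW_nil (e : ℕ → M) : evalW e [] = 1 := rfl

theorem evalW_cons (e : ℕ → M) (g : ℕ) (w : List ℕ) : evalW e (g :: w) = e g * evalW e w := by
  simp [evalW]

theorem act_gen3 (a b c : M) : ∀ w : List ℕ, act (gen3 a b c) w = (evalW (elt a b c) w)⁻¹
  | [] => by simp [act_nil, evalW_nil]
  | g :: w => by rw [act_cons, act_gen3 a b c w, evalW_cons, mul_inv_rev, gen3]

theorem elt_map (f : M →* N) (a b c : M) (i : ℕ) : f (elt a b c i) = elt (f a) (f b) (f c) i := by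
  rcases i with _ | _ | _ | _ | _ | _ | i <;> simp [elt]

theorem map_evalW (f : M →* N) (a b c : M) (w : List ℕ) :
    f (evalW (elt a b c) w) = evalW (elt (f a) (f b) (f c)) w := by
  induction w with
  | nil => simp [evalW_nil]
  | cons g w ih => rw [evalW_cons, evalW_cons, map_mul, ih, elt_map]

theorem XYZRels.map {a b c : M} (h : XYZRels a b c) (f : M →* N) : XYZRels (f a) (f b) (f c) :=
  fun w hw => by rw [← map_evalW, h w hw, map_one]

theorem gen3_partner (a b c : M) : ∀ i, i < 6 → gen3 a b c i * gen3 a b c (partner i) = 1 := by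
  intro i hi
  interval_cases i <;> simp [gen3, elt, partner]

theorem act_mem_closure (a b c : M) {w : List ℕ} {S : Set M} (h : ∀ g ∈ w, elt a b c g ∈ Subgroup.closure S) :
    act (gen3 a b c) w ∈ Subgroup.closure S := by
  rw [act_gen3]
  refine inv_mem (Subgroup.list_prod_mem _ fun m hm => ?_)
  obtain ⟨g, hg, rfl⟩ := List.mem_map.1 hm
  exact h g hg

end CfsgLib.HNxyz
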