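import Mathlib.Data.List.Basic

/-!
# Eight matrices of size 133 modulo eleven by sparse rows (generated)
-/

set_option autoImplicit false
set_option maxRecDepth 100000

namespace CfsgLib.HNxyz

/-- Rows of a matrix. -/
def matX0 : List (List (ℕ × ℕ)) :=
  [[(28,1)],
   [(29,1)],
   [(30,1)],
   [(31,1)],
   [(32,1)],
   [(33,1)],
   [(34,1)],
   [(35,1)],
   [(36,1)],
   [(37,1)],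
   [(38,1)],
   [(39,1)],
   [(40,1)],
   [(41,1)],
   [(42,1)],
   [(43,1)],
   [(44,1)],
   [(45,1)],
   [(46,1)]]

/-- Rows of a matrix. -/
def matX1 : List (List (ℕ × ℕ)) :=
  [[(47,1)],
   [(48,1)],
   [(49,1)],
   [(50,1)],
   [(51,1)],
   [(52,1)],
   [(53,1)],
   [(54,1)],
   [(55,1)],
   [(0,1)],
   [(1,1)],
   [(2,1)],
   [(3,1)],
   [(4,1)],
   [(5,1)],
   [(6,1)],
   [(7,1)],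
   [(8,1)],
   [(9,1)]]

/-- Rows of a matrix. -/
def matX2 : List (List (ℕ × ℕ)) :=
  [[(10,1)],
   [(11,1)],
   [(12,1)],
   [(13,1)],
   [(14,1)],
   [(15,1)],
   [(16,1)],
   [(17,1)],
   [(18,1)],
   [(19,1)],
   [(20,1)],
   [(21,1)],
   [(22,1)],
   [(23,1)],
   [(24,1)],
   [(25,1)],
   [(26,1)],
   [(27,1)],
   [(56,2),(1,2),(0,7),(0,9),(0,5),(0,4),(1,4),(0,10),(1,4),(1,9),(0,5),(0,1),(0,5),(0,5),(0,4)]]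

/-- Rows of a matrix. -/
def matX3 : List (List (ℕ × ℕ)) :=
  [[(61,5),(3,5),(0,1),(3,5),(0,6),(0,5),(0,5)],
   [(56,2),(1,2),(0,2),(0,4),(0,10),(0,4),(1,4),(0,5),(1,4),(1,4),(0,5),(0,6),(0,10),(0,5),(0,9)],
   [(56,7),(1,2),(0,2),(0,4),(0,5),(0,4),(1,9),(0,5),(1,9),(1,4),(0,10),(0,1),(0,5),(0,5),(0,4)],
   [(56,5),(4,5),(2,6),(2,6),(2,5),(0,6),(0,5),(1,6)],
   [(58,5),(6,5),(1,6),(1,6),(0,5),(0,6),(0,5)],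
   [(61,5),(0,6),(2,5),(1,6),(1,6),(0,5),(2,5),(0,6)],
   [(56,7),(1,7),(0,7),(0,4),(0,5),(0,4),(1,4),(0,5),(1,4),(0,1),(0,4),(0,5),(0,6),(0,5),(0,5),(0,4)],
   [(59,5),(0,6),(0,5),(3,5),(3,6),(1,6),(0,5),(1,6)],
   [(56,5),(3,6),(0,5),(3,5),(1,6),(3,6),(1,5)],
   [(56,7),(0,1),(0,7),(0,7),(0,4),(0,5),(0,4),(1,4),(0,5),(1,4),(1,4),(0,5),(0,6),(0,5),(0,5),(0,4)],
   [(59,5),(0,6),(1,6),(4,6),(2,5),(0,6),(0,5),(0,5)],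
   [(61,5),(1,1),(1,5),(4,5),(0,6),(0,5),(0,5)],
   [(56,5),(5,6),(1,6),(0,5),(3,6),(1,6),(0,5),(0,5)],
   [(59,5),(1,5),(2,6),(4,6),(0,5),(0,6),(1,5)],
   [(56,2),(1,7),(0,2),(0,4),(0,5),(0,9),(1,4),(0,5),(1,4),(1,4),(0,5),(0,1),(0,5),(0,10),(0,4)],
   [(58,5),(2,5),(0,6),(8,6),(0,5),(0,5),(0,6)],
   [(60,6),(3,6),(0,5),(4,5),(1,5),(0,5),(0,6)],
   [(58,5),(1,6),(0,5),(0,6),(1,6),(0,5),(4,5),(0,6)],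
   [(56,7),(1,7),(0,7),(0,4),(0,5),(0,4),(1,4),(0,5),(1,4),(1,4),(0,5),(0,6),(0,5),(0,5),(0,4),(1,1)]]

/-- Rows of a matrix. -/
def matX4 : List (List (ℕ × ℕ)) :=
  [[(61,5),(3,5),(4,5),(0,6),(0,5),(0,5),(1,1)],
   [(105,1)],
   [(106,1)],
   [(107,1)],
   [(108,1)],
   [(109,1)],
   [(110,1)],
   [(111,1)],
   [(112,1)],
   [(113,1)],
   [(114,1)],
   [(115,1)],
   [(116,1)],
   [(117,1)],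
   [(118,1)],
   [(119,1)],
   [(120,1)],
   [(121,1)],
   [(122,1)]]

/-- Rows of a matrix. -/
def matX5 : List (List (ℕ × ℕ)) :=
  [[(123,1)],
   [(124,1)],
   [(125,1)],
   [(126,1)],
   [(127,1)],
   [(128,1)],
   [(129,1)],
   [(130,1)],
   [(131,1)],
   [(132,1)],
   [(77,10)],
   [(78,10)],
   [(79,10)],
   [(80,10)],
   [(81,10)],
   [(82,10)],
   [(83,10)],
   [(84,10)],
   [(85,10)]]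

/-- Rows of a matrix. -/
def matX6 : List (List (ℕ × ℕ)) :=
  [[(86,10)],
   [(87,10)],
   [(88,10)],
   [(89,10)],
   [(90,10)],
   [(91,10)],
   [(92,10)],
   [(93,10)],
   [(94,10)],
   [(95,10)],
   [(96,10)],
   [(97,10)],
   [(98,10)],
   [(99,10)],
   [(100,10)],
   [(101,10)],
   [(102,10)],
   [(103,10)],
   [(104,10)]]

/-- The matrix of a letter. -/
def matX : List (List (ℕ × ℕ)) := matX0 ++ matX1 ++ matX2 ++ matX3 ++ matX4 ++ matX5 ++ matX6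

/-- Rows of a matrix. -/
def matXi0 : List (List (ℕ × ℕ)) :=
  [[(28,1)],
   [(29,1)],
   [(30,1)],
   [(31,1)],
   [(32,1)],
   [(33,1)],
   [(34,1)],
   [(35,1)],
   [(36,1)],
   [(37,1)],
   [(38,1)],
   [(39,1)],
   [(40,1)],
   [(41,1)],
   [(42,1)],
   [(43,1)],
   [(44,1)],
   [(45,1)],
   [(46,1)]]

/-- Rows of a matrix. -/
def matXi1 : List (List (ℕ × ℕ)) :=
  [[(47,1)],
   [(48,1)],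
   [(49,1)],
   [(50,1)],
   [(51,1)],
   [(52,1)],
   [(53,1)],
   [(54,1)],
   [(55,1)],
   [(0,1)],
   [(1,1)],
   [(2,1)],
   [(3,1)],
   [(4,1)],
   [(5,1)],
   [(6,1)],
   [(7,1)],
   [(8,1)],
   [(9,1)]]

/-- Rows of a matrix. -/
def matXi2 : List (List (ℕ × ℕ)) :=
  [[(10,1)],
   [(11,1)],
   [(12,1)],
   [(13,1)],
   [(14,1)],
   [(15,1)],
   [(16,1)],
   [(17,1)],
   [(18,1)],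
   [(19,1)],
   [(20,1)],
   [(21,1)],
   [(22,1)],
   [(23,1)],
   [(24,1)],
   [(25,1)],
   [(26,1)],
   [(27,1)],
   [(56,2),(1,2),(0,7),(0,9),(0,5),(0,4),(1,4),(0,10),(1,4),(1,9),(0,5),(0,1),(0,5),(0,5),(0,4)]]

/-- Rows of a matrix. -/
def matXi3 : List (List (ℕ × ℕ)) :=
  [[(61,5),(3,5),(0,1),(3,5),(0,6),(0,5),(0,5)],
   [(56,2),(1,2),(0,2),(0,4),(0,10),(0,4),(1,4),(0,5),(1,4),(1,4),(0,5),(0,6),(0,10),(0,5),(0,9)],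
   [(56,7),(1,2),(0,2),(0,4),(0,5),(0,4),(1,9),(0,5),(1,9),(1,4),(0,10),(0,1),(0,5),(0,5),(0,4)],
   [(56,5),(4,5),(2,6),(2,6),(2,5),(0,6),(0,5),(1,6)],
   [(58,5),(6,5),(1,6),(1,6),(0,5),(0,6),(0,5)],
   [(61,5),(0,6),(2,5),(1,6),(1,6),(0,5),(2,5),(0,6)],
   [(56,7),(1,7),(0,7),(0,4),(0,5),(0,4),(1,4),(0,5),(1,4),(0,1),(0,4),(0,5),(0,6),(0,5),(0,5),(0,4)],
   [(59,5),(0,6),(0,5),(3,5),(3,6),(1,6),(0,5),(1,6)],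
   [(56,5),(3,6),(0,5),(3,5),(1,6),(3,6),(1,5)],
   [(56,7),(0,1),(0,7),(0,7),(0,4),(0,5),(0,4),(1,4),(0,5),(1,4),(1,4),(0,5),(0,6),(0,5),(0,5),(0,4)],
   [(59,5),(0,6),(1,6),(4,6),(2,5),(0,6),(0,5),(0,5)],
   [(61,5),(1,1),(1,5),(4,5),(0,6),(0,5),(0,5)],
   [(56,5),(5,6),(1,6),(0,5),(3,6),(1,6),(0,5),(0,5)],
   [(59,5),(1,5),(2,6),(4,6),(0,5),(0,6),(1,5)],
   [(56,2),(1,7),(0,2),(0,4),(0,5),(0,9),(1,4),(0,5),(1,4),(1,4),(0,5),(0,1),(0,5),(0,10),(0,4)],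
   [(58,5),(2,5),(0,6),(8,6),(0,5),(0,5),(0,6)],
   [(60,6),(3,6),(0,5),(4,5),(1,5),(0,5),(0,6)],
   [(58,5),(1,6),(0,5),(0,6),(1,6),(0,5),(4,5),(0,6)],
   [(56,7),(1,7),(0,7),(0,4),(0,5),(0,4),(1,4),(0,5),(1,4),(1,4),(0,5),(0,6),(0,5),(0,5),(0,4),(1,1)]]

/-- Rows of a matrix. -/
def matXi4 : List (List (ℕ × ℕ)) :=
  [[(61,5),(3,5),(4,5),(0,6),(0,5),(0,5),(1,1)],
   [(105,10)],
   [(106,10)],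
   [(107,10)],
   [(108,10)],
   [(109,10)],
   [(110,10)],
   [(111,10)],
   [(112,10)],
   [(113,10)],
   [(114,10)],
   [(115,10)],
   [(116,10)],
   [(117,10)],
   [(118,10)],
   [(119,10)],
   [(120,10)],
   [(121,10)],
   [(122,10)]]

/-- Rows of a matrix. -/
def matXi5 : List (List (ℕ × ℕ)) :=
  [[(123,10)],
   [(124,10)],
   [(125,10)],
   [(126,10)],
   [(127,10)],
   [(128,10)],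
   [(129,10)],
   [(130,10)],
   [(131,10)],
   [(132,10)],
   [(77,1)],
   [(78,1)],
   [(79,1)],
   [(80,1)],
   [(81,1)],
   [(82,1)],
   [(83,1)],
   [(84,1)],
   [(85,1)]]

/-- Rows of a matrix. -/
def matXi6 : List (List (ℕ × ℕ)) :=
  [[(86,1)],
   [(87,1)],
   [(88,1)],
   [(89,1)],
   [(90,1)],
   [(91,1)],
   [(92,1)],
   [(93,1)],
   [(94,1)],
   [(95,1)],
   [(96,1)],
   [(97,1)],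
   [(98,1)],
   [(99,1)],
   [(100,1)],
   [(101,1)],
   [(102,1)],
   [(103,1)],
   [(104,1)]]

/-- The matrix of a letter. -/
def matXi : List (List (ℕ × ℕ)) := matXi0 ++ matXi1 ++ matXi2 ++ matXi3 ++ matXi4 ++ matXi5 ++ matXi6

/-- Rows of a matrix. -/
def matY0 : List (List (ℕ × ℕ)) :=
  [[(2,1),(2,8),(3,8),(1,10)],
   [(2,10),(0,9),(1,6),(3,7),(1,1),(1,2)],
   [(2,10),(0,7),(1,6),(3,7),(1,3),(0,10),(0,2)],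
   [(2,9),(0,7),(1,1),(1,1),(1,3),(1,3),(0,10),(0,2)],
   [(2,10),(0,8),(1,2),(3,4),(1,2),(1,1)],
   [(5,7),(3,8),(3,10),(7,1),(0,10)],
   [(3,9),(1,10),(5,2),(4,1),(5,10)],
   [(2,9),(0,7),(1,1),(3,3),(1,4),(0,10),(0,1),(8,10),(3,1)],
   [(2,9),(0,7),(1,8),(5,4),(0,10),(0,2),(5,1),(2,10)],
   [(2,9),(0,8),(1,1),(3,3),(1,3),(1,1),(3,1),(4,10)],
   [(2,10),(0,10),(1,6),(3,7),(1,1),(10,10),(4,1)],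
   [(2,9),(0,6),(1,4),(3,7),(1,4),(0,10),(0,2),(8,10),(1,1)],
   [(2,10),(0,8),(1,6),(3,7),(1,2),(1,1),(6,1),(1,10)],
   [(2,10),(0,7),(1,5),(3,7),(1,3),(0,10),(0,2),(1,1),(6,10)],
   [(0,1),(1,2),(0,5),(1,3),(3,1),(1,7),(0,1),(0,9),(8,1)],
   [(2,1),(0,4),(1,2),(2,1),(2,8),(0,1),(0,9),(8,1)],
   [(2,2),(0,6),(0,1),(0,7),(3,4),(1,6),(0,1),(0,9),(8,1)],
   [(2,1),(0,2),(1,5),(3,4),(1,10),(1,10),(8,1)],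
   [(2,1),(0,3),(1,2),(5,9),(0,1),(0,10),(8,1)]]

/-- Rows of a matrix. -/
def matY1 : List (List (ℕ × ℕ)) :=
  [[(1,1),(0,3),(0,6),(1,1),(3,8),(1,6),(0,1),(0,8),(8,1)],
   [(3,2),(1,8),(0,1),(2,7),(1,10),(10,1)],
   [(2,1),(0,2),(1,9),(3,8),(1,9),(10,1)],
   [(2,2),(0,3),(1,6),(3,4),(1,8),(0,1),(0,10),(8,1)],
   [(2,1),(0,1),(1,1),(4,1),(0,10),(10,1)],
   [(2,1),(0,2),(1,1),(5,10),(1,10),(11,1)],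
   [(2,1),(0,3),(1,5),(3,4),(1,9),(0,1),(0,10),(0,1)],
   [(3,1),(1,8),(3,7),(8,1)],
   [(5,4),(3,4),(13,1)],
   [(28,10),(1,1),(0,8),(2,4),(0,6),(4,8),(6,1),(2,3),(0,3),(0,4)],
   [(28,1),(1,10),(0,8),(2,5),(0,8),(4,7),(8,2),(0,4),(0,3),(0,2)],
   [(28,3),(1,10),(0,8),(2,5),(0,10),(4,7),(0,9),(4,10),(2,2),(0,5),(0,3),(0,1)],
   [(28,3),(1,9),(0,5),(2,9),(0,7),(4,3),(0,9),(4,10),(2,2),(0,9),(0,8),(0,4)],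
   [(28,2),(1,10),(0,4),(2,8),(0,6),(4,4),(0,10),(7,1),(0,9),(0,7),(0,5)],
   [(31,7),(0,10),(1,3),(0,8),(4,8),(8,10),(0,4),(0,5),(0,3)],
   [(28,2),(3,10),(2,2),(7,1),(6,1),(1,9)],
   [(28,4),(0,1),(0,9),(0,4),(0,10),(1,8),(0,9),(4,3),(0,9),(4,10),(2,1),(0,10),(0,8),(0,4)],
   [(28,4),(1,9),(0,1),(0,10),(1,2),(0,4),(5,9),(4,10),(1,1),(0,2),(0,2),(1,7)],
   [(28,3),(1,9),(0,4),(0,10),(1,8),(0,7),(3,1),(0,3),(0,10),(7,1),(0,9),(0,8),(0,4)]]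

/-- Rows of a matrix. -/
def matY2 : List (List (ℕ × ℕ)) :=
  [[(28,1),(1,10),(0,8),(0,10),(1,4),(0,9),(4,7),(9,5),(0,4),(0,2)],
   [(28,4),(1,9),(0,8),(0,10),(1,5),(0,1),(4,7),(0,9),(4,10),(2,2),(0,6),(0,4),(0,10),(2,1)],
   [(28,2),(1,10),(0,8),(0,10),(1,5),(0,10),(4,7),(0,10),(7,1),(0,5),(0,4),(0,1)],
   [(28,3),(1,10),(0,8),(0,10),(1,5),(3,1),(1,7),(0,9),(4,10),(2,2),(0,6),(0,4)],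
   [(28,7),(1,2),(0,10),(0,1),(1,9),(0,6),(4,1),(0,2),(3,1),(0,1),(2,9),(0,8),(0,10),(0,4)],
   [(28,8),(1,1),(0,10),(0,1),(1,9),(0,8),(5,2),(4,1),(2,9),(0,9),(1,3)],
   [(28,6),(1,2),(0,3),(0,1),(1,6),(0,9),(4,4),(0,2),(4,1),(2,9),(0,4),(0,7),(0,1)],
   [(28,10),(1,1),(0,3),(0,1),(1,6),(0,2),(4,4),(8,10),(0,6),(0,7),(0,9),(1,1)],
   [(28,9),(1,1),(1,1),(1,10),(0,8),(5,1),(4,1),(2,10),(0,9),(0,10),(0,3)],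
   [(28,6),(1,3),(0,6),(0,1),(1,1),(0,2),(4,8),(0,2),(4,1),(2,8),(0,1),(0,3),(0,9)],
   [(28,10),(2,7),(0,1),(1,3),(0,6),(0,1),(3,7),(9,3),(0,3),(0,5)],
   [(28,9),(1,1),(0,7),(0,1),(1,3),(0,5),(4,8),(9,2),(0,3),(0,6)],
   [(28,8),(1,2),(0,3),(0,1),(0,1),(0,6),(5,4),(0,1),(4,1),(2,10),(0,5),(0,7),(0,10)],
   [(28,10),(1,1),(1,1),(2,10),(8,1),(5,10),(0,10),(0,1)],
   [(28,10),(1,1),(3,10),(0,10),(13,10),(0,10),(1,1),(0,1)],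
   [(28,9),(1,1),(0,3),(2,6),(0,2),(4,4),(0,1),(4,1),(2,10),(0,6),(0,7),(0,9)],
   [(31,7),(2,3),(0,7),(1,1),(2,7),(9,3),(0,4),(0,4)],
   [(31,4),(2,7),(0,4),(4,4),(1,1),(7,7),(0,7),(0,7)],
   [(56,4),(1,4),(0,9),(0,2),(0,2),(0,2),(0,4),(1,2),(1,2),(0,7),(0,7),(1,4),(0,7),(1,7),(0,4),(0,7)]]

/-- Rows of a matrix. -/
def matY3 : List (List (ℕ × ℕ)) :=
  [[(58,6),(1,5),(2,6),(3,5),(6,5),(0,6)],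
   [(56,4),(1,9),(0,4),(0,7),(0,7),(0,7),(0,4),(1,2),(1,2),(0,2),(0,7),(1,4),(0,2),(1,7),(0,4),(0,2)],
   [(56,9),(1,4),(0,4),(0,2),(0,7),(0,2),(0,4),(1,7),(1,7),(0,2),(0,7),(1,4),(0,7),(1,2),(0,4),(0,2)],
   [(56,6),(1,6),(1,5),(4,5),(3,5),(1,6)],
   [(56,6),(1,6),(0,6),(1,5),(10,5),(1,5)],
   [(56,6),(2,6),(7,5),(1,5),(5,6),(0,5)],
   [(56,4),(1,4),(0,4),(0,2),(0,2),(0,7),(0,9),(1,7),(1,7),(0,7),(0,2),(1,4),(0,2),(1,7),(0,4),(0,2)],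
   [(59,6),(0,5),(7,5),(2,6),(0,5),(2,6)],
   [(56,6),(5,5),(0,6),(1,5),(6,5),(2,6)],
   [(56,4),(1,4),(0,4),(0,7),(0,7),(0,2),(0,4),(1,7),(1,2),(0,7),(0,2),(1,9),(0,2),(1,2),(0,4),(0,7)],
   [(56,6),(4,5),(1,6),(3,5),(0,5),(2,6)],
   [(58,6),(2,5),(0,5),(8,6),(3,6),(0,5)],
   [(59,6),(3,6),(1,5),(5,6),(2,5),(1,5)],
   [(58,6),(0,6),(2,5),(0,6),(4,5),(0,5)],
   [(56,4),(1,4),(0,4),(0,7),(0,2),(0,7),(0,4),(1,2),(1,7),(0,2),(0,2),(1,4),(0,7),(1,2),(0,9),(0,7)],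
   [(73,1)],
   [(57,1)],
   [(64,1)],
   [(56,4),(1,4),(0,4),(0,7),(0,7),(0,7),(0,4),(1,7),(0,1),(0,7),(0,7),(0,7),(1,4),(0,7),(1,7),(0,4),(0,7)]]

/-- Rows of a matrix. -/
def matY4 : List (List (ℕ × ℕ)) :=
  [[(70,1)],
   [(79,1),(2,8),(3,8),(1,10)],
   [(79,10),(0,9),(1,6),(3,7),(1,1),(1,2)],
   [(79,10),(0,7),(1,6),(3,7),(1,3),(0,10),(0,2)],
   [(79,9),(0,7),(1,1),(1,1),(1,3),(1,3),(0,10),(0,2)],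
   [(79,10),(0,8),(1,2),(3,4),(1,2),(1,1)],
   [(82,7),(3,8),(3,10),(7,1),(0,10)],
   [(80,9),(1,10),(5,2),(4,1),(5,10)],
   [(79,9),(0,7),(1,1),(3,3),(1,4),(0,10),(0,1),(8,10),(3,1)],
   [(79,9),(0,7),(1,8),(5,4),(0,10),(0,2),(5,1),(2,10)],
   [(79,9),(0,8),(1,1),(3,3),(1,3),(1,1),(3,1),(4,10)],
   [(79,10),(0,10),(1,6),(3,7),(1,1),(10,10),(4,1)],
   [(79,9),(0,6),(1,4),(3,7),(1,4),(0,10),(0,2),(8,10),(1,1)],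
   [(79,10),(0,8),(1,6),(3,7),(1,2),(1,1),(6,1),(1,10)],
   [(79,10),(0,7),(1,5),(3,7),(1,3),(0,10),(0,2),(1,1),(6,10)],
   [(77,1),(1,2),(0,5),(1,3),(3,1),(1,7),(0,1),(0,9),(8,1)],
   [(79,1),(0,4),(1,2),(2,1),(2,8),(0,1),(0,9),(8,1)],
   [(79,2),(0,6),(0,1),(0,7),(3,4),(1,6),(0,1),(0,9),(8,1)],
   [(79,1),(0,2),(1,5),(3,4),(1,10),(1,10),(8,1)]]

/-- Rows of a matrix. -/
def matY5 : List (List (ℕ × ℕ)) :=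
  [[(79,1),(0,3),(1,2),(5,9),(0,1),(0,10),(8,1)],
   [(78,1),(0,3),(0,6),(1,1),(3,8),(1,6),(0,1),(0,8),(8,1)],
   [(80,2),(1,8),(0,1),(2,7),(1,10),(10,1)],
   [(79,1),(0,2),(1,9),(3,8),(1,9),(10,1)],
   [(79,2),(0,3),(1,6),(3,4),(1,8),(0,1),(0,10),(8,1)],
   [(79,1),(0,1),(1,1),(4,1),(0,10),(10,1)],
   [(79,1),(0,2),(1,1),(5,10),(1,10),(11,1)],
   [(79,1),(0,3),(1,5),(3,4),(1,9),(0,1),(0,10),(0,1)],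
   [(80,1),(1,8),(3,7),(8,1)],
   [(82,4),(3,4),(13,1)],
   [(105,10),(1,1),(0,8),(2,4),(0,6),(4,8),(6,1),(2,3),(0,3),(0,4)],
   [(105,1),(1,10),(0,8),(2,5),(0,8),(4,7),(8,2),(0,4),(0,3),(0,2)],
   [(105,3),(1,10),(0,8),(2,5),(0,10),(4,7),(0,9),(4,10),(2,2),(0,5),(0,3),(0,1)],
   [(105,3),(1,9),(0,5),(2,9),(0,7),(4,3),(0,9),(4,10),(2,2),(0,9),(0,8),(0,4)],
   [(105,2),(1,10),(0,4),(2,8),(0,6),(4,4),(0,10),(7,1),(0,9),(0,7),(0,5)],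
   [(108,7),(0,10),(1,3),(0,8),(4,8),(8,10),(0,4),(0,5),(0,3)],
   [(105,2),(3,10),(2,2),(7,1),(6,1),(1,9)],
   [(105,4),(0,1),(0,9),(0,4),(0,10),(1,8),(0,9),(4,3),(0,9),(4,10),(2,1),(0,10),(0,8),(0,4)],
   [(105,4),(1,9),(0,1),(0,10),(1,2),(0,4),(5,9),(4,10),(1,1),(0,2),(0,2),(1,7)]]

/-- Rows of a matrix. -/
def matY6 : List (List (ℕ × ℕ)) :=
  [[(105,3),(1,9),(0,4),(0,10),(1,8),(0,7),(3,1),(0,3),(0,10),(7,1),(0,9),(0,8),(0,4)],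
   [(105,1),(1,10),(0,8),(0,10),(1,4),(0,9),(4,7),(9,5),(0,4),(0,2)],
   [(105,4),(1,9),(0,8),(0,10),(1,5),(0,1),(4,7),(0,9),(4,10),(2,2),(0,6),(0,4),(0,10),(2,1)],
   [(105,2),(1,10),(0,8),(0,10),(1,5),(0,10),(4,7),(0,10),(7,1),(0,5),(0,4),(0,1)],
   [(105,3),(1,10),(0,8),(0,10),(1,5),(3,1),(1,7),(0,9),(4,10),(2,2),(0,6),(0,4)],
   [(105,7),(1,2),(0,10),(0,1),(1,9),(0,6),(4,1),(0,2),(3,1),(0,1),(2,9),(0,8),(0,10),(0,4)],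
   [(105,8),(1,1),(0,10),(0,1),(1,9),(0,8),(5,2),(4,1),(2,9),(0,9),(1,3)],
   [(105,6),(1,2),(0,3),(0,1),(1,6),(0,9),(4,4),(0,2),(4,1),(2,9),(0,4),(0,7),(0,1)],
   [(105,10),(1,1),(0,3),(0,1),(1,6),(0,2),(4,4),(8,10),(0,6),(0,7),(0,9),(1,1)],
   [(105,9),(1,1),(1,1),(1,10),(0,8),(5,1),(4,1),(2,10),(0,9),(0,10),(0,3)],
   [(105,6),(1,3),(0,6),(0,1),(1,1),(0,2),(4,8),(0,2),(4,1),(2,8),(0,1),(0,3),(0,9)],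
   [(105,10),(2,7),(0,1),(1,3),(0,6),(0,1),(3,7),(9,3),(0,3),(0,5)],
   [(105,9),(1,1),(0,7),(0,1),(1,3),(0,5),(4,8),(9,2),(0,3),(0,6)],
   [(105,8),(1,2),(0,3),(0,1),(0,1),(0,6),(5,4),(0,1),(4,1),(2,10),(0,5),(0,7),(0,10)],
   [(105,10),(1,1),(1,1),(2,10),(8,1),(5,10),(0,10),(0,1)],
   [(105,10),(1,1),(3,10),(0,10),(13,10),(0,10),(1,1),(0,1)],
   [(105,9),(1,1),(0,3),(2,6),(0,2),(4,4),(0,1),(4,1),(2,10),(0,6),(0,7),(0,9)],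
   [(108,7),(2,3),(0,7),(1,1),(2,7),(9,3),(0,4),(0,4)],
   [(108,4),(2,7),(0,4),(4,4),(1,1),(7,7),(0,7),(0,7)]]

/-- The matrix of a letter. -/
def matY : List (List (ℕ × ℕ)) := matY0 ++ matY1 ++ matY2 ++ matY3 ++ matY4 ++ matY5 ++ matY6

/-- Rows of a matrix. -/
def matYi0 : List (List (ℕ × ℕ)) :=
  [[(0,10),(1,8),(11,1),(2,7),(0,10),(2,7),(0,8)],
   [(0,1),(0,2),(0,7),(14,9),(1,1),(1,6),(0,6)],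
   [(0,3),(0,2),(0,7),(1,10),(12,10),(0,1),(2,5),(0,6)],
   [(0,3),(0,2),(0,3),(1,10),(12,6),(0,2),(2,2),(0,1)],
   [(0,2),(0,1),(0,4),(13,1),(0,5),(0,1),(2,2),(0,2)],
   [(1,10),(0,8),(14,6),(0,1),(2,8),(0,7)],
   [(0,2),(17,1),(1,1),(0,10),(0,10)],
   [(0,4),(0,1),(0,3),(0,1),(0,10),(12,5),(0,3),(2,2),(0,1)],
   [(0,4),(0,2),(2,10),(10,1),(1,2),(0,2),(2,9),(0,8)],
   [(0,3),(0,1),(0,3),(14,5),(0,2),(2,3),(0,1)],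
   [(0,1),(1,7),(14,7),(0,1),(2,7),(0,6),(0,1)],
   [(0,4),(0,2),(0,7),(1,10),(12,10),(0,3),(2,5),(0,4)],
   [(0,2),(0,1),(0,7),(14,8),(0,2),(2,6),(0,6)],
   [(0,3),(0,2),(0,7),(1,10),(12,9),(0,2),(2,6),(0,5)],
   [(0,7),(0,9),(0,1),(1,1),(12,9),(0,8),(2,2),(0,3),(2,1)],
   [(0,8),(0,9),(2,1),(8,1),(3,9),(0,10),(2,2),(0,2)],
   [(0,6),(0,9),(0,4),(1,1),(1,1),(10,1),(0,8),(2,7),(0,7)],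
   [(0,10),(0,10),(0,4),(6,1),(7,3),(0,10),(2,5),(0,5)],
   [(0,9),(0,10),(2,1),(12,10),(0,9),(2,1),(0,2),(3,1)]]

/-- Rows of a matrix. -/
def matYi1 : List (List (ℕ × ℕ)) :=
  [[(0,6),(0,8),(0,8),(1,1),(3,1),(8,4),(0,8),(2,10),(0,1)],
   [(0,10),(1,7),(9,1),(4,8),(0,10),(2,8),(0,8)],
   [(0,9),(1,8),(2,1),(11,7),(0,10),(2,8),(0,9)],
   [(0,8),(0,10),(0,4),(1,1),(12,3),(0,9),(2,5),(0,6)],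
   [(0,10),(17,10),(3,1),(4,1)],
   [(0,10),(0,10),(9,1),(5,10),(3,1),(0,1)],
   [(0,9),(0,10),(0,4),(1,1),(12,2),(0,10),(2,5),(0,5),(1,1)],
   [(2,7),(4,1),(9,7),(3,8),(0,8)],
   [(2,4),(7,1),(6,4),(3,4),(0,4)],
   [(33,4),(4,3),(1,10),(2,3),(2,8),(0,7),(1,10),(3,4)],
   [(29,2),(3,5),(1,1),(2,3),(1,1),(2,4),(2,8),(0,9),(5,2)],
   [(29,2),(2,10),(0,5),(4,3),(1,3),(2,5),(0,9),(1,8),(0,10),(1,1),(3,1)],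
   [(29,2),(2,10),(0,9),(4,8),(1,3),(2,9),(0,9),(1,5),(0,6),(1,2),(3,4)],
   [(29,1),(3,8),(4,7),(1,2),(2,9),(0,10),(1,4),(0,5),(1,1),(3,5)],
   [(29,10),(1,10),(1,3),(4,5),(4,4),(2,7),(0,6),(1,1),(0,1),(2,3)],
   [(31,10),(8,2),(2,1),(5,1),(3,9)],
   [(29,1),(1,10),(0,10),(0,8),(4,8),(1,4),(2,10),(0,9),(1,4),(0,5),(1,3),(3,4)],
   [(29,2),(1,10),(0,10),(0,2),(6,4),(2,2),(0,9),(1,1),(0,2),(0,1),(0,2),(3,7)],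
   [(29,1),(1,10),(1,8),(4,8),(1,3),(2,9),(0,10),(1,4),(0,5),(1,2),(3,4),(0,1)]]

/-- Rows of a matrix. -/
def matYi2 : List (List (ℕ × ℕ)) :=
  [[(31,10),(1,4),(4,4),(1,1),(0,1),(1,5),(2,8),(0,7),(1,1),(3,2)],
   [(29,2),(1,10),(0,10),(0,5),(3,1),(0,4),(1,4),(2,6),(0,9),(1,8),(0,10),(1,3),(3,10)],
   [(29,1),(1,10),(1,5),(4,4),(1,2),(2,5),(0,10),(1,8),(0,8),(1,2),(3,1)],
   [(29,2),(1,10),(0,10),(0,5),(4,4),(1,3),(2,6),(0,9),(1,8),(0,9),(1,2)],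
   [(29,9),(0,10),(0,1),(0,1),(0,9),(4,10),(1,7),(2,8),(0,2),(1,10),(0,9),(1,8),(3,4),(1,1)],
   [(29,9),(0,10),(0,1),(0,1),(0,9),(0,1),(5,8),(2,9),(0,2),(1,10),(0,9),(1,10),(3,3)],
   [(29,9),(0,10),(0,1),(0,1),(0,6),(4,7),(1,6),(2,4),(0,2),(1,3),(0,1),(1,8),(1,1),(1,1)],
   [(29,10),(0,10),(0,1),(1,6),(4,7),(1,10),(1,1),(0,6),(2,3),(0,3),(1,10),(3,9)],
   [(29,10),(0,10),(0,1),(0,1),(0,10),(4,10),(1,9),(2,9),(0,1),(2,10),(1,9),(3,3)],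
   [(28,1),(0,8),(0,10),(0,1),(0,1),(0,1),(4,3),(1,6),(2,1),(0,2),(1,6),(0,4),(1,8),(3,9)],
   [(30,10),(0,1),(1,3),(2,1),(1,3),(1,10),(2,3),(2,7),(0,8),(1,10),(3,5)],
   [(30,10),(0,1),(1,3),(4,3),(1,9),(2,2),(2,7),(0,7),(1,10),(3,6)],
   [(29,10),(0,10),(0,1),(0,1),(0,6),(4,7),(1,8),(2,5),(0,1),(1,3),(0,3),(1,9),(3,10)],
   [(30,10),(0,1),(6,10),(1,10),(2,10),(5,10),(3,1)],
   [(29,10),(0,10),(2,10),(6,10),(2,10),(3,10),(5,1)],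
   [(29,10),(0,10),(1,1),(0,6),(4,7),(1,9),(2,6),(0,1),(1,3),(0,2),(1,10),(2,1),(0,9)],
   [(30,10),(2,3),(4,4),(4,3),(1,1),(0,7),(0,7),(5,4)],
   [(30,10),(2,7),(4,7),(0,1),(3,7),(2,4),(0,4),(5,7)],
   [(56,4),(0,7),(0,4),(0,9),(0,2),(0,2),(0,2),(0,4),(0,7),(0,2),(0,4),(0,2),(0,7),(0,7),(0,7),(0,4)]]

/-- Rows of a matrix. -/
def matYi3 : List (List (ℕ × ℕ)) :=
  [[(73,1)],
   [(56,4),(0,2),(0,9),(0,4),(0,2),(0,2),(0,7),(0,4),(0,7),(0,7),(0,4),(0,7),(0,2),(0,7),(0,2),(0,4)],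
   [(56,9),(0,7),(0,4),(0,4),(0,7),(0,2),(0,2),(0,4),(0,2),(0,7),(0,4),(0,7),(0,7),(0,2),(0,2),(0,4)],
   [(56,6),(0,5),(1,6),(0,5),(2,6),(0,5)],
   [(56,6),(4,5),(1,6),(3,5),(0,5),(2,6)],
   [(56,6),(2,6),(5,5),(0,6),(1,5),(1,5)],
   [(56,4),(0,2),(0,4),(0,4),(0,7),(0,7),(0,7),(0,9),(0,7),(0,2),(0,4),(0,2),(0,7),(0,2),(0,2),(0,4)],
   [(74,1)],
   [(56,6),(1,6),(1,5),(4,5),(3,5),(1,6)],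
   [(56,4),(0,7),(0,4),(0,4),(0,7),(0,7),(0,7),(0,4),(0,7),(0,7),(0,4),(0,7),(0,7),(0,7),(0,7),(0,4),(3,1)],
   [(56,6),(0,5),(0,6),(3,5),(3,6),(0,5)],
   [(58,6),(0,6),(4,5),(2,5),(2,5),(0,6)],
   [(60,5),(1,5),(0,6),(2,6),(3,5),(0,6)],
   [(76,1)],
   [(56,4),(0,7),(0,4),(0,4),(0,2),(0,7),(0,7),(0,4),(0,2),(0,7),(0,9),(0,2),(0,2),(0,2),(0,7),(0,4)],
   [(58,6),(2,5),(1,6),(0,5),(0,5),(0,6)],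
   [(72,1)],
   [(57,5),(1,6),(1,5),(4,6),(2,5),(1,6)],
   [(56,4),(0,2),(0,4),(0,4),(0,7),(0,7),(0,2),(0,4),(0,2),(0,2),(0,4),(0,7),(0,2),(0,7),(0,7),(0,9)]]

/-- Rows of a matrix. -/
def matYi4 : List (List (ℕ × ℕ)) :=
  [[(58,6),(0,6),(2,5),(0,6),(4,5),(0,5)],
   [(77,10),(1,8),(11,1),(2,7),(0,10),(2,7),(0,8)],
   [(77,1),(0,2),(0,7),(14,9),(1,1),(1,6),(0,6)],
   [(77,3),(0,2),(0,7),(1,10),(12,10),(0,1),(2,5),(0,6)],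
   [(77,3),(0,2),(0,3),(1,10),(12,6),(0,2),(2,2),(0,1)],
   [(77,2),(0,1),(0,4),(13,1),(0,5),(0,1),(2,2),(0,2)],
   [(78,10),(0,8),(14,6),(0,1),(2,8),(0,7)],
   [(77,2),(17,1),(1,1),(0,10),(0,10)],
   [(77,4),(0,1),(0,3),(0,1),(0,10),(12,5),(0,3),(2,2),(0,1)],
   [(77,4),(0,2),(2,10),(10,1),(1,2),(0,2),(2,9),(0,8)],
   [(77,3),(0,1),(0,3),(14,5),(0,2),(2,3),(0,1)],
   [(77,1),(1,7),(14,7),(0,1),(2,7),(0,6),(0,1)],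
   [(77,4),(0,2),(0,7),(1,10),(12,10),(0,3),(2,5),(0,4)],
   [(77,2),(0,1),(0,7),(14,8),(0,2),(2,6),(0,6)],
   [(77,3),(0,2),(0,7),(1,10),(12,9),(0,2),(2,6),(0,5)],
   [(77,7),(0,9),(0,1),(1,1),(12,9),(0,8),(2,2),(0,3),(2,1)],
   [(77,8),(0,9),(2,1),(8,1),(3,9),(0,10),(2,2),(0,2)],
   [(77,6),(0,9),(0,4),(1,1),(1,1),(10,1),(0,8),(2,7),(0,7)],
   [(77,10),(0,10),(0,4),(6,1),(7,3),(0,10),(2,5),(0,5)]]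

/-- Rows of a matrix. -/
def matYi5 : List (List (ℕ × ℕ)) :=
  [[(77,9),(0,10),(2,1),(12,10),(0,9),(2,1),(0,2),(3,1)],
   [(77,6),(0,8),(0,8),(1,1),(3,1),(8,4),(0,8),(2,10),(0,1)],
   [(77,10),(1,7),(9,1),(4,8),(0,10),(2,8),(0,8)],
   [(77,9),(1,8),(2,1),(11,7),(0,10),(2,8),(0,9)],
   [(77,8),(0,10),(0,4),(1,1),(12,3),(0,9),(2,5),(0,6)],
   [(77,10),(17,10),(3,1),(4,1)],
   [(77,10),(0,10),(9,1),(5,10),(3,1),(0,1)],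
   [(77,9),(0,10),(0,4),(1,1),(12,2),(0,10),(2,5),(0,5),(1,1)],
   [(79,7),(4,1),(9,7),(3,8),(0,8)],
   [(79,4),(7,1),(6,4),(3,4),(0,4)],
   [(110,4),(4,3),(1,10),(2,3),(2,8),(0,7),(1,10),(3,4)],
   [(106,2),(3,5),(1,1),(2,3),(1,1),(2,4),(2,8),(0,9),(5,2)],
   [(106,2),(2,10),(0,5),(4,3),(1,3),(2,5),(0,9),(1,8),(0,10),(1,1),(3,1)],
   [(106,2),(2,10),(0,9),(4,8),(1,3),(2,9),(0,9),(1,5),(0,6),(1,2),(3,4)],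
   [(106,1),(3,8),(4,7),(1,2),(2,9),(0,10),(1,4),(0,5),(1,1),(3,5)],
   [(106,10),(1,10),(1,3),(4,5),(4,4),(2,7),(0,6),(1,1),(0,1),(2,3)],
   [(108,10),(8,2),(2,1),(5,1),(3,9)],
   [(106,1),(1,10),(0,10),(0,8),(4,8),(1,4),(2,10),(0,9),(1,4),(0,5),(1,3),(3,4)],
   [(106,2),(1,10),(0,10),(0,2),(6,4),(2,2),(0,9),(1,1),(0,2),(0,1),(0,2),(3,7)]]

/-- Rows of a matrix. -/
def matYi6 : List (List (ℕ × ℕ)) :=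
  [[(106,1),(1,10),(1,8),(4,8),(1,3),(2,9),(0,10),(1,4),(0,5),(1,2),(3,4),(0,1)],
   [(108,10),(1,4),(4,4),(1,1),(0,1),(1,5),(2,8),(0,7),(1,1),(3,2)],
   [(106,2),(1,10),(0,10),(0,5),(3,1),(0,4),(1,4),(2,6),(0,9),(1,8),(0,10),(1,3),(3,10)],
   [(106,1),(1,10),(1,5),(4,4),(1,2),(2,5),(0,10),(1,8),(0,8),(1,2),(3,1)],
   [(106,2),(1,10),(0,10),(0,5),(4,4),(1,3),(2,6),(0,9),(1,8),(0,9),(1,2)],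
   [(106,9),(0,10),(0,1),(0,1),(0,9),(4,10),(1,7),(2,8),(0,2),(1,10),(0,9),(1,8),(3,4),(1,1)],
   [(106,9),(0,10),(0,1),(0,1),(0,9),(0,1),(5,8),(2,9),(0,2),(1,10),(0,9),(1,10),(3,3)],
   [(106,9),(0,10),(0,1),(0,1),(0,6),(4,7),(1,6),(2,4),(0,2),(1,3),(0,1),(1,8),(1,1),(1,1)],
   [(106,10),(0,10),(0,1),(1,6),(4,7),(1,10),(1,1),(0,6),(2,3),(0,3),(1,10),(3,9)],
   [(106,10),(0,10),(0,1),(0,1),(0,10),(4,10),(1,9),(2,9),(0,1),(2,10),(1,9),(3,3)],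
   [(105,1),(0,8),(0,10),(0,1),(0,1),(0,1),(4,3),(1,6),(2,1),(0,2),(1,6),(0,4),(1,8),(3,9)],
   [(107,10),(0,1),(1,3),(2,1),(1,3),(1,10),(2,3),(2,7),(0,8),(1,10),(3,5)],
   [(107,10),(0,1),(1,3),(4,3),(1,9),(2,2),(2,7),(0,7),(1,10),(3,6)],
   [(106,10),(0,10),(0,1),(0,1),(0,6),(4,7),(1,8),(2,5),(0,1),(1,3),(0,3),(1,9),(3,10)],
   [(107,10),(0,1),(6,10),(1,10),(2,10),(5,10),(3,1)],
   [(106,10),(0,10),(2,10),(6,10),(2,10),(3,10),(5,1)],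
   [(106,10),(0,10),(1,1),(0,6),(4,7),(1,9),(2,6),(0,1),(1,3),(0,2),(1,10),(2,1),(0,9)],
   [(107,10),(2,3),(4,4),(4,3),(1,1),(0,7),(0,7),(5,4)],
   [(107,10),(2,7),(4,7),(0,1),(3,7),(2,4),(0,4),(5,7)]]

/-- The matrix of a letter. -/
def matYi : List (List (ℕ × ℕ)) := matYi0 ++ matYi1 ++ matYi2 ++ matYi3 ++ matYi4 ++ matYi5 ++ matYi6

/-- Rows of a matrix. -/
def matZ0 : List (List (ℕ × ℕ)) :=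
  [[(4,6),(0,6),(2,6),(0,8),(1,8),(1,8),(0,6),(1,8),(0,8),(2,8),(0,6),(0,8),(5,4),(1,1),(1,3),(0,3),(0,6),(0,6),(0,3),(0,3),(0,6),(0,3),(0,6),(0,6),(0,5),(0,8),(0,10),(0,5),(0,8),(0,8),(0,5),(0,5),(0,5),(0,8),(0,8),(0,8),(0,8),(1,8),(0,5),(0,8),(0,8),(1,3),(0,3),(0,6),(2,6),(0,3),(0,5),(0,3),(1,8)],
   [(4,8),(0,8),(2,8),(0,10),(1,4),(1,10),(0,8),(1,10),(0,10),(2,4),(0,8),(0,4),(5,5),(1,10),(1,1),(0,7),(0,8),(0,8),(0,7),(0,9),(0,8),(0,7),(0,8),(0,1),(0,3),(0,4),(0,6),(0,3),(0,4),(0,4),(0,3),(0,3),(0,3),(0,4),(0,10),(0,10),(0,10),(1,4),(0,3),(0,10),(0,4),(1,1),(0,1),(0,8),(2,8),(0,7),(0,3),(0,7),(1,10)],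
   [(4,8),(0,8),(2,8),(0,1),(1,2),(1,1),(0,8),(1,1),(0,1),(2,2),(0,8),(0,2),(5,5),(0,10),(0,10),(1,10),(0,9),(0,8),(0,8),(0,9),(1,8),(0,9),(0,8),(0,5),(0,3),(0,2),(0,6),(0,3),(0,2),(0,2),(0,3),(0,3),(0,3),(0,2),(0,1),(0,1),(0,1),(1,2),(0,3),(0,1),(0,2),(1,10),(0,10),(0,8),(2,8),(0,9),(0,3),(0,9),(1,1)],
   [(4,5),(0,5),(2,5),(0,7),(1,10),(1,7),(0,5),(1,7),(0,7),(2,10),(0,5),(0,10),(5,9),(0,10),(0,9),(0,1),(0,4),(0,1),(0,5),(0,5),(0,1),(0,3),(0,5),(0,1),(0,5),(1,6),(0,10),(0,1),(0,6),(0,10),(0,10),(0,6),(0,6),(0,6),(0,10),(0,7),(0,7),(0,7),(1,10),(0,6),(0,7),(0,10),(1,4),(0,4),(0,5),(2,5),(0,1),(0,6),(0,1),(1,7)],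
   [(4,3),(0,3),(2,3),(0,7),(1,1),(1,7),(0,3),(1,7),(0,7),(2,1),(0,3),(0,1),(5,8),(1,10),(1,4),(0,10),(0,3),(0,3),(0,10),(1,3),(0,10),(0,3),(0,8),(0,8),(0,1),(0,4),(0,9),(0,1),(0,1),(0,8),(0,8),(0,8),(0,1),(0,7),(0,7),(0,7),(1,1),(0,8),(0,7),(0,1),(1,4),(0,4),(0,3),(2,3),(0,10),(0,8),(0,10),(1,7)],
   [(4,6),(0,6),(2,6),(0,6),(1,10),(1,6),(0,6),(1,6),(0,6),(2,10),(0,6),(0,10),(5,3),(3,5),(0,1),(0,6),(0,6),(0,1),(1,6),(0,1),(0,6),(0,4),(0,5),(0,10),(0,9),(0,5),(0,10),(0,10),(0,5),(0,5),(0,6),(0,10),(0,6),(0,6),(0,6),(1,10),(0,5),(0,6),(0,10),(1,5),(0,5),(0,6),(2,6),(0,1),(0,5),(0,1),(1,6)],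
   [(3,9),(2,5),(2,2),(3,2),(3,2),(2,9),(0,9),(5,2),(2,2),(0,2),(0,9),(1,9),(1,2),(1,9),(2,1),(1,9),(3,9),(1,2),(2,2),(1,2),(0,9),(0,9),(1,2),(3,9),(0,9),(3,2),(0,2),(6,2),(0,9)],
   [(0,9),(0,9),(2,5),(0,5),(1,5),(0,5),(0,7),(1,1),(1,7),(0,3),(1,5),(0,7),(2,1),(0,5),(0,10),(4,2),(0,8),(0,10),(0,9),(1,4),(0,1),(0,5),(0,3),(0,10),(1,5),(0,10),(0,3),(0,9),(0,8),(0,1),(0,1),(0,6),(0,10),(0,1),(0,6),(0,6),(0,6),(0,10),(0,7),(0,5),(0,7),(0,9),(0,1),(0,8),(0,7),(0,10),(1,6),(0,4),(0,5),(2,3),(0,10),(0,6),(0,1),(1,5),(3,2),(0,9)],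
   [(9,4),(1,7),(1,4),(2,4),(0,4),(2,7),(1,7),(5,2),(0,10),(0,9),(1,7),(0,4),(2,4),(0,6),(1,4),(1,7),(1,7),(0,10),(1,7),(0,7),(0,1),(2,7),(0,4),(0,4),(0,4),(1,7),(1,4),(0,7),(1,7),(0,7),(4,4),(1,4),(1,4)],
   [(4,5),(0,5),(2,5),(0,5),(1,1),(1,5),(0,5),(1,5),(0,5),(2,1),(0,5),(0,1),(5,8),(1,9),(1,6),(0,10),(0,5),(0,5),(0,10),(1,5),(0,10),(0,5),(0,9),(0,6),(0,1),(0,1),(0,6),(0,1),(0,1),(0,6),(0,6),(0,6),(0,1),(0,5),(0,5),(0,5),(1,1),(0,6),(0,5),(0,1),(1,6),(0,6),(0,5),(2,5),(0,10),(0,6),(0,10),(1,5)],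
   [(2,9),(1,8),(0,8),(2,8),(0,8),(0,5),(0,8),(1,8),(0,8),(1,8),(0,6),(2,8),(0,6),(0,6),(4,2),(0,4),(1,10),(1,5),(0,5),(0,6),(0,8),(0,3),(0,3),(0,6),(0,3),(0,8),(0,7),(0,3),(0,8),(0,6),(0,3),(0,6),(0,8),(0,3),(0,5),(0,3),(0,6),(0,6),(0,8),(0,6),(0,9),(0,8),(0,3),(0,6),(0,6),(1,3),(0,5),(0,6),(2,8),(0,3),(0,5),(0,5),(1,8),(3,2),(0,9)],
   [(4,8),(0,8),(2,8),(0,1),(1,2),(1,1),(0,8),(1,1),(0,1),(2,2),(0,8),(0,2),(5,5),(0,10),(0,9),(1,10),(0,9),(0,8),(0,8),(0,9),(1,8),(0,10),(0,8),(0,5),(0,3),(0,2),(0,6),(0,3),(0,2),(0,2),(0,3),(0,3),(0,3),(0,2),(0,1),(0,1),(0,1),(1,2),(0,3),(0,1),(0,2),(1,10),(0,10),(0,8),(2,8),(0,9),(0,3),(0,9),(1,1)],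
   [(4,8),(0,8),(2,8),(0,10),(1,6),(0,5),(0,10),(0,6),(1,10),(0,8),(2,4),(0,8),(0,6),(4,2),(0,7),(0,2),(0,10),(1,3),(0,5),(0,8),(0,6),(0,7),(0,6),(0,8),(0,5),(0,6),(0,10),(0,5),(0,4),(0,6),(0,3),(0,6),(0,4),(0,3),(0,3),(0,3),(0,6),(0,8),(0,10),(0,8),(0,9),(0,4),(0,5),(0,8),(0,6),(1,1),(0,3),(0,8),(2,6),(0,7),(0,3),(0,5),(1,10),(3,2),(0,9)],
   [(4,8),(0,8),(2,8),(0,10),(1,4),(1,10),(0,8),(1,10),(0,10),(2,4),(0,8),(0,4),(5,5),(0,10),(0,10),(1,1),(0,7),(0,8),(0,8),(0,7),(0,9),(0,8),(0,7),(0,8),(0,2),(0,3),(0,4),(0,6),(0,3),(0,4),(0,4),(0,3),(0,3),(0,3),(0,4),(0,10),(0,10),(0,10),(1,4),(0,3),(0,10),(0,4),(1,1),(0,1),(0,8),(2,8),(0,7),(0,3),(0,7),(1,10)],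
   [(4,9),(0,9),(2,9),(0,7),(1,4),(1,7),(0,9),(1,7),(0,7),(2,4),(0,9),(0,4),(4,9),(0,7),(0,1),(0,2),(1,4),(0,7),(2,7),(0,5),(0,9),(0,7),(0,9),(0,2),(0,3),(0,6),(0,1),(0,2),(0,6),(0,4),(0,2),(0,2),(0,2),(0,4),(0,7),(0,7),(0,9),(0,2),(0,4),(0,2),(0,7),(0,4),(1,4),(0,4),(0,9),(2,9),(0,7),(0,2),(0,7),(1,7),(3,9),(0,2)],
   [(0,9),(1,9),(5,9),(0,7),(1,4),(1,5),(1,5),(0,7),(0,7),(2,4),(1,4),(5,7),(0,1),(0,1),(1,4),(0,7),(1,2),(0,7),(0,5),(1,7),(0,9),(0,2),(1,4),(0,9),(1,6),(0,4),(0,2),(2,2),(0,5),(0,7),(0,9),(1,4),(1,7),(0,4),(0,7),(0,4),(0,4),(4,7),(1,7),(1,7)],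
   [(4,3),(0,3),(2,3),(0,8),(1,9),(1,8),(0,3),(1,8),(0,8),(2,9),(0,3),(0,9),(4,9),(0,4),(0,1),(0,2),(1,3),(0,2),(0,5),(0,5),(0,2),(1,3),(0,2),(0,3),(0,3),(0,8),(1,3),(0,8),(1,9),(0,8),(0,8),(0,8),(0,9),(0,8),(0,8),(0,10),(0,2),(0,9),(0,8),(0,8),(0,9),(1,3),(0,3),(0,3),(2,3),(0,2),(0,8),(0,2),(1,8),(3,9),(0,2)],
   [(4,3),(0,3),(2,3),(0,1),(1,5),(1,1),(0,3),(1,1),(0,1),(2,5),(0,3),(0,5),(4,9),(0,4),(1,1),(2,6),(0,5),(0,5),(0,6),(0,5),(0,3),(0,6),(0,3),(0,10),(0,8),(0,7),(0,3),(0,8),(0,7),(0,5),(0,8),(0,8),(0,8),(0,5),(0,1),(0,1),(0,3),(0,2),(0,5),(0,8),(0,1),(0,5),(1,10),(0,10),(0,3),(2,3),(0,6),(0,8),(0,6),(1,1),(3,9),(0,2)],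
   [(5,9),(3,9),(3,7),(2,9),(0,9),(0,5),(1,2),(1,2),(5,8),(0,3),(0,1),(1,2),(0,9),(0,2),(1,9),(0,8),(0,9),(2,5),(1,4),(0,9),(1,2),(3,2),(0,2),(0,7),(0,9),(2,2),(1,9),(0,2),(1,2),(0,2),(1,7),(2,9),(1,9),(1,9)]]

/-- Rows of a matrix. -/
def matZ1 : List (List (ℕ × ℕ)) :=
  [[(1,9),(1,9),(0,6),(0,6),(2,4),(2,1),(1,2),(0,6),(1,2),(0,2),(1,5),(0,3),(0,6),(0,3),(5,10),(0,1),(0,3),(0,2),(0,9),(0,8),(0,6),(0,8),(0,8),(0,5),(0,6),(0,10),(0,4),(0,5),(0,5),(0,5),(0,8),(0,5),(0,3),(0,1),(0,7),(0,5),(0,5),(0,3),(0,2),(1,2),(1,3),(0,5),(0,2),(0,3),(1,9),(0,9),(0,6),(1,7),(0,6),(0,8),(0,5),(0,8),(1,2)],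
   [(4,8),(0,8),(2,8),(0,6),(1,6),(1,6),(0,8),(1,6),(0,6),(2,6),(0,8),(0,6),(4,9),(0,1),(3,5),(0,5),(0,10),(0,10),(0,6),(0,5),(0,8),(0,5),(0,8),(0,6),(0,3),(0,8),(0,4),(0,3),(0,8),(0,6),(0,3),(0,3),(0,3),(0,6),(0,6),(0,6),(0,8),(0,2),(0,6),(0,3),(0,6),(0,6),(1,5),(0,5),(0,8),(2,8),(0,5),(0,3),(0,5),(1,6),(3,9),(0,2)],
   [(4,6),(0,6),(2,6),(0,6),(1,8),(1,6),(0,6),(1,6),(0,6),(2,8),(0,6),(0,8),(4,9),(0,1),(1,1),(1,5),(0,3),(0,8),(0,8),(0,3),(0,3),(0,6),(0,3),(0,6),(0,3),(0,5),(0,10),(0,7),(0,5),(0,10),(0,8),(0,5),(0,6),(0,5),(0,8),(0,6),(0,6),(0,8),(0,2),(0,8),(0,5),(0,6),(0,8),(1,5),(0,5),(0,6),(2,6),(0,3),(0,5),(0,3),(1,6),(3,9),(0,2)],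
   [(4,3),(0,3),(2,3),(0,1),(1,5),(1,1),(0,3),(1,1),(0,1),(2,5),(0,3),(0,5),(4,9),(0,4),(0,1),(0,2),(1,10),(0,7),(0,5),(0,5),(0,6),(0,5),(0,3),(0,6),(0,3),(0,9),(0,8),(0,7),(0,3),(0,8),(0,7),(0,5),(0,8),(0,8),(0,8),(0,5),(0,1),(0,1),(0,3),(0,2),(0,5),(0,8),(0,1),(0,5),(1,10),(0,10),(0,3),(2,3),(0,6),(0,8),(0,6),(1,1),(3,9),(0,2)],
   [(5,9),(3,9),(13,5),(6,3),(3,2),(3,9),(2,8),(2,9),(1,2),(3,2),(0,9),(1,9),(16,7)],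
   [(1,9),(2,9),(4,9),(1,2),(1,9),(2,9),(0,9),(2,2),(1,2),(1,5),(3,8),(1,3),(1,2),(0,9),(0,2),(0,2),(0,9),(0,8),(0,9),(0,9),(0,9),(0,8),(1,2),(0,9),(0,2),(0,2),(0,2),(3,2),(0,7),(0,7),(2,2),(1,9),(0,2),(1,2),(0,2),(4,9),(1,9),(1,9),(0,7)],
   [(2,9),(0,9),(0,3),(0,3),(2,3),(0,1),(1,7),(1,1),(0,3),(1,1),(0,1),(2,7),(0,3),(0,7),(2,5),(2,4),(0,3),(0,1),(0,2),(0,10),(0,4),(0,3),(0,3),(0,4),(0,5),(0,3),(0,4),(0,3),(0,7),(0,8),(0,9),(0,5),(0,8),(0,9),(0,5),(0,8),(0,8),(0,8),(0,5),(0,10),(0,10),(0,3),(1,7),(0,8),(0,1),(0,7),(1,10),(0,10),(0,3),(2,3),(0,4),(0,8),(0,4),(1,1),(1,7)],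
   [(0,9),(3,6),(0,8),(2,8),(0,6),(1,8),(1,6),(0,8),(1,6),(0,6),(2,8),(0,8),(0,8),(3,5),(1,1),(3,5),(0,3),(0,10),(0,10),(0,3),(0,5),(0,6),(0,3),(0,6),(0,4),(0,3),(0,10),(0,4),(0,5),(0,10),(0,6),(0,3),(0,3),(0,3),(0,6),(0,6),(0,6),(0,6),(1,8),(0,3),(0,6),(0,8),(1,5),(0,5),(0,8),(2,8),(0,3),(0,3),(0,3),(1,6),(2,7)],
   [(4,3),(0,3),(2,3),(0,3),(1,3),(1,3),(0,3),(1,3),(0,3),(2,3),(0,3),(0,3),(4,9),(0,5),(3,8),(0,8),(0,5),(0,5),(0,8),(0,8),(0,3),(0,8),(0,3),(0,2),(0,8),(0,5),(0,2),(0,8),(0,5),(0,3),(0,8),(0,8),(0,8),(0,3),(0,3),(0,3),(0,5),(0,3),(0,3),(0,8),(0,3),(0,3),(1,8),(0,8),(0,3),(2,3),(0,8),(0,8),(0,8),(1,3),(3,9),(0,2)],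
   [(0,4),(1,1),(1,3),(0,3),(0,6),(0,6),(0,3),(0,3),(0,6),(0,3),(0,6),(0,6),(0,5),(0,8),(0,10),(0,5),(0,8),(0,8),(0,5),(0,5),(0,5),(0,8),(0,8),(0,8),(0,8),(5,6),(0,6),(2,6),(0,8),(1,8),(1,8),(0,6),(1,8),(0,8),(2,8),(0,6),(0,8),(5,5),(0,6),(0,5),(0,5),(0,3),(0,6),(0,6),(0,5),(0,3),(0,3),(0,5),(0,6),(0,6),(0,6),(0,3),(0,5),(0,3),(0,3),(0,3)],
   [(0,5),(1,10),(1,1),(0,7),(0,8),(0,8),(0,7),(0,9),(0,8),(0,7),(0,8),(0,1),(0,3),(0,4),(0,6),(0,3),(0,4),(0,4),(0,3),(0,3),(0,3),(0,4),(0,10),(0,10),(0,10),(5,8),(0,8),(2,8),(0,10),(1,4),(1,10),(0,8),(1,10),(0,10),(2,4),(0,8),(0,4),(5,3),(0,8),(0,3),(0,3),(0,7),(0,8),(0,8),(0,3),(0,7),(0,7),(0,3),(0,8),(0,8),(0,8),(0,7),(0,3),(0,1),(0,1),(0,1)],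
   [(0,5),(0,10),(0,10),(1,10),(0,9),(0,8),(0,8),(0,9),(1,8),(0,9),(0,8),(0,5),(0,3),(0,2),(0,6),(0,3),(0,2),(0,2),(0,3),(0,3),(0,3),(0,2),(0,1),(0,1),(0,1),(5,8),(0,8),(2,8),(0,1),(1,2),(1,1),(0,8),(1,1),(0,1),(2,2),(0,8),(0,2),(5,3),(0,8),(0,3),(0,3),(0,9),(0,8),(0,8),(0,3),(0,9),(0,9),(0,3),(0,8),(0,8),(0,8),(0,9),(0,3),(0,10),(0,10),(0,10)],
   [(0,9),(0,10),(0,9),(0,1),(0,4),(0,1),(0,5),(0,5),(0,1),(0,3),(0,5),(0,1),(0,5),(1,6),(0,10),(0,1),(0,6),(0,10),(0,10),(0,6),(0,6),(0,6),(0,10),(0,7),(0,7),(0,7),(5,5),(0,5),(2,5),(0,7),(1,10),(1,7),(0,5),(1,7),(0,7),(2,10),(0,5),(0,10),(5,6),(0,5),(0,6),(0,6),(0,1),(0,5),(0,5),(0,6),(0,1),(0,1),(0,6),(0,5),(0,5),(0,5),(0,1),(0,6),(0,4),(0,4),(0,4)],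
   [(0,8),(1,10),(1,4),(0,10),(0,3),(0,3),(0,10),(1,3),(0,10),(0,3),(0,8),(0,8),(0,1),(0,4),(0,9),(0,1),(0,1),(0,8),(0,8),(0,8),(0,1),(0,7),(0,7),(0,7),(5,3),(0,3),(2,3),(0,7),(1,1),(1,7),(0,3),(1,7),(0,7),(2,1),(0,3),(0,1),(5,8),(0,3),(0,8),(0,8),(0,10),(0,3),(0,3),(0,8),(0,10),(0,10),(0,8),(0,3),(0,3),(0,3),(0,10),(0,8),(0,4),(0,4),(0,4)],
   [(0,3),(3,5),(0,1),(0,6),(0,6),(0,1),(1,6),(0,1),(0,6),(0,4),(0,5),(0,10),(0,9),(0,5),(0,10),(0,10),(0,5),(0,5),(0,6),(0,10),(0,6),(0,6),(0,6),(5,6),(0,6),(2,6),(0,6),(1,10),(1,6),(0,6),(1,6),(0,6),(2,10),(0,6),(0,10),(5,5),(0,6),(0,5),(0,5),(0,1),(0,6),(0,6),(0,5),(0,1),(0,1),(0,5),(0,6),(0,6),(0,6),(0,1),(0,5),(0,5),(0,5),(0,5)],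
   [(2,2),(0,2),(0,9),(1,9),(1,2),(1,9),(2,1),(1,9),(3,9),(1,2),(2,2),(1,2),(0,9),(3,9),(2,5),(2,2),(3,2),(3,2),(2,9),(0,9),(5,2),(4,2),(2,2),(1,2),(2,9),(3,9),(1,9),(0,9),(0,2)],
   [(0,8),(0,10),(0,9),(1,4),(0,1),(0,5),(0,3),(0,10),(1,5),(0,10),(0,3),(0,9),(0,8),(0,1),(0,1),(0,6),(0,10),(0,1),(0,6),(0,6),(0,6),(0,10),(0,7),(0,5),(0,7),(0,9),(0,9),(0,9),(2,5),(0,5),(1,5),(0,5),(0,7),(1,1),(1,7),(0,3),(1,5),(0,7),(2,1),(0,5),(0,10),(4,2),(0,6),(0,3),(0,6),(0,6),(0,10),(0,5),(0,5),(0,6),(0,1),(0,10),(0,8),(0,5),(0,5),(0,5),(0,1),(0,6),(0,4),(0,6),(0,4),(0,9),(0,2)],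
   [(0,2),(0,10),(0,9),(1,7),(0,4),(2,4),(0,6),(1,4),(1,7),(1,7),(0,10),(1,7),(0,7),(0,1),(2,7),(0,4),(0,4),(0,4),(10,4),(1,7),(1,4),(2,4),(0,4),(2,7),(1,7),(9,4),(3,4),(0,4),(4,4),(1,7),(0,7),(0,7)],
   [(0,8),(1,9),(1,6),(0,10),(0,5),(0,5),(0,10),(1,5),(0,10),(0,5),(0,9),(0,6),(0,1),(0,1),(0,6),(0,1),(0,1),(0,6),(0,6),(0,6),(0,1),(0,5),(0,5),(0,5),(5,5),(0,5),(2,5),(0,5),(1,1),(1,5),(0,5),(1,5),(0,5),(2,1),(0,5),(0,1),(5,6),(0,5),(0,6),(0,6),(0,10),(0,5),(0,5),(0,6),(0,10),(0,10),(0,6),(0,5),(0,5),(0,5),(0,10),(0,6),(0,6),(0,6),(0,6)]]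

/-- Rows of a matrix. -/
def matZ2 : List (List (ℕ × ℕ)) :=
  [[(0,4),(1,10),(1,5),(0,5),(0,6),(0,8),(0,3),(0,3),(0,6),(0,3),(0,8),(0,7),(0,3),(0,8),(0,6),(0,3),(0,6),(0,8),(0,3),(0,5),(0,3),(0,6),(0,6),(0,8),(0,6),(0,9),(2,9),(1,8),(0,8),(2,8),(0,8),(0,5),(0,8),(1,8),(0,8),(1,8),(0,6),(2,8),(0,6),(0,6),(4,2),(0,3),(0,8),(0,3),(0,3),(0,3),(0,8),(0,8),(0,5),(0,5),(0,3),(0,3),(0,8),(0,6),(0,8),(0,5),(0,3),(0,5),(0,3),(0,5),(0,9),(0,2)],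
   [(0,5),(0,10),(0,9),(1,10),(0,9),(0,8),(0,8),(0,9),(1,8),(0,10),(0,8),(0,5),(0,3),(0,2),(0,6),(0,3),(0,2),(0,2),(0,3),(0,3),(0,3),(0,2),(0,1),(0,1),(0,1),(5,8),(0,8),(2,8),(0,1),(1,2),(1,1),(0,8),(1,1),(0,1),(2,2),(0,8),(0,2),(5,3),(0,8),(0,3),(0,3),(0,9),(0,8),(0,8),(0,3),(0,9),(0,9),(0,3),(0,8),(0,8),(0,8),(0,9),(0,3),(0,10),(0,10),(0,10)],
   [(0,7),(0,2),(0,10),(1,3),(0,5),(0,8),(0,6),(0,7),(0,6),(0,8),(0,5),(0,6),(0,10),(0,5),(0,4),(0,6),(0,3),(0,6),(0,4),(0,3),(0,3),(0,3),(0,6),(0,8),(0,10),(0,8),(0,9),(4,8),(0,8),(2,8),(0,10),(1,6),(0,5),(0,10),(0,6),(1,10),(0,8),(2,4),(0,8),(0,6),(4,2),(0,3),(0,6),(0,3),(0,3),(0,7),(0,8),(0,8),(0,3),(0,5),(0,7),(0,5),(0,8),(0,8),(0,8),(0,5),(0,3),(0,3),(0,1),(0,3),(0,9),(0,2)],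
   [(0,5),(0,10),(0,10),(1,1),(0,7),(0,8),(0,8),(0,7),(0,9),(0,8),(0,7),(0,8),(0,2),(0,3),(0,4),(0,6),(0,3),(0,4),(0,4),(0,3),(0,3),(0,3),(0,4),(0,10),(0,10),(0,10),(5,8),(0,8),(2,8),(0,10),(1,4),(1,10),(0,8),(1,10),(0,10),(2,4),(0,8),(0,4),(5,3),(0,8),(0,3),(0,3),(0,7),(0,8),(0,8),(0,3),(0,7),(0,7),(0,3),(0,8),(0,8),(0,8),(0,7),(0,3),(0,1),(0,1),(0,1)],
   [(0,7),(0,1),(0,2),(1,4),(0,7),(2,7),(0,5),(0,9),(0,7),(0,9),(0,2),(0,3),(0,6),(0,1),(0,2),(0,6),(0,4),(0,2),(0,2),(0,2),(0,4),(0,7),(0,7),(0,9),(0,2),(4,9),(0,9),(2,9),(0,7),(1,4),(1,7),(0,9),(1,7),(0,7),(2,4),(0,9),(0,4),(4,9),(0,2),(0,9),(0,2),(0,2),(0,5),(1,9),(0,2),(0,5),(0,7),(0,2),(0,9),(0,9),(0,9),(0,7),(1,4),(0,4),(0,2),(0,2),(0,9)],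
   [(0,7),(0,1),(0,1),(1,4),(0,7),(1,2),(0,7),(0,5),(1,7),(0,9),(0,2),(1,4),(0,9),(1,6),(0,4),(0,2),(2,2),(0,5),(0,7),(0,9),(1,9),(1,9),(5,9),(0,7),(1,4),(1,5),(1,5),(0,7),(0,7),(2,4),(1,4),(5,2),(3,7),(0,2),(2,5),(0,7),(1,9),(2,9),(0,9),(0,6),(0,4),(0,2)],
   [(0,4),(0,1),(0,2),(1,3),(0,2),(0,5),(0,5),(0,2),(1,3),(0,2),(0,3),(0,3),(0,8),(1,3),(0,8),(1,9),(0,8),(0,8),(0,8),(0,9),(0,8),(0,8),(0,10),(0,2),(4,3),(0,3),(2,3),(0,8),(1,9),(1,8),(0,3),(1,8),(0,8),(2,9),(0,3),(0,9),(4,9),(0,8),(0,3),(0,8),(0,8),(1,5),(0,3),(0,8),(1,2),(0,8),(0,3),(0,3),(0,3),(0,2),(0,6),(0,3),(0,3),(0,1),(0,2),(0,9)],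
   [(0,4),(1,1),(2,6),(0,5),(0,5),(0,6),(0,5),(0,3),(0,6),(0,3),(0,10),(0,8),(0,7),(0,3),(0,8),(0,7),(0,5),(0,8),(0,8),(0,8),(0,5),(0,1),(0,1),(0,3),(0,2),(4,3),(0,3),(2,3),(0,1),(1,5),(1,1),(0,3),(1,1),(0,1),(2,5),(0,3),(0,5),(4,9),(0,8),(0,3),(0,8),(0,8),(0,4),(0,5),(0,3),(0,8),(0,4),(0,6),(0,8),(0,3),(0,3),(0,3),(0,6),(0,6),(0,10),(0,10),(0,8),(0,2),(0,9)],
   [(0,8),(0,3),(0,1),(1,2),(0,9),(0,2),(1,9),(0,8),(0,9),(2,5),(1,4),(0,9),(1,2),(3,2),(0,2),(0,7),(0,9),(7,9),(3,9),(3,7),(2,9),(0,9),(0,5),(1,2),(1,2),(8,2),(0,7),(0,2),(2,9),(4,9),(0,9),(0,9),(0,4),(0,2)],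
   [(0,10),(0,1),(0,3),(0,2),(0,9),(0,8),(0,6),(0,8),(0,8),(0,5),(0,6),(0,10),(0,4),(0,5),(0,5),(0,5),(0,8),(0,5),(0,3),(0,1),(0,7),(0,5),(0,5),(0,3),(0,2),(1,2),(2,9),(1,9),(0,6),(0,6),(2,4),(2,1),(1,2),(0,6),(1,2),(0,2),(1,5),(0,3),(0,6),(0,3),(5,7),(0,6),(0,5),(0,5),(0,6),(0,8),(0,6),(0,5),(0,8),(0,10),(0,5),(0,4),(0,6),(0,6),(0,8),(0,3),(0,9),(1,9)],
   [(0,1),(3,5),(0,5),(0,10),(0,10),(0,6),(0,5),(0,8),(0,5),(0,8),(0,6),(0,3),(0,8),(0,4),(0,3),(0,8),(0,6),(0,3),(0,3),(0,3),(0,6),(0,6),(0,6),(0,8),(0,2),(4,8),(0,8),(2,8),(0,6),(1,6),(1,6),(0,8),(1,6),(0,6),(2,6),(0,8),(0,6),(4,9),(0,3),(0,8),(0,3),(0,3),(0,3),(0,10),(0,8),(0,3),(0,3),(0,5),(0,3),(0,8),(0,8),(0,8),(0,5),(0,1),(0,5),(0,5),(0,3),(0,2),(0,9)],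
   [(0,1),(1,1),(1,5),(0,3),(0,8),(0,8),(0,3),(0,3),(0,6),(0,3),(0,6),(0,3),(0,5),(0,10),(0,7),(0,5),(0,10),(0,8),(0,5),(0,6),(0,5),(0,8),(0,6),(0,6),(0,8),(0,2),(4,6),(0,6),(2,6),(0,6),(1,8),(1,6),(0,6),(1,6),(0,6),(2,8),(0,6),(0,8),(4,9),(0,5),(0,6),(0,5),(0,5),(0,1),(0,8),(0,6),(0,5),(0,1),(0,3),(0,5),(0,6),(0,6),(0,6),(0,3),(0,3),(0,5),(0,5),(0,3),(0,2),(0,9)],
   [(0,4),(0,1),(0,2),(1,10),(0,7),(0,5),(0,5),(0,6),(0,5),(0,3),(0,6),(0,3),(0,9),(0,8),(0,7),(0,3),(0,8),(0,7),(0,5),(0,8),(0,8),(0,8),(0,5),(0,1),(0,1),(0,3),(0,2),(4,3),(0,3),(2,3),(0,1),(1,5),(1,1),(0,3),(1,1),(0,1),(2,5),(0,3),(0,5),(4,9),(0,8),(0,3),(0,8),(0,8),(0,4),(0,5),(0,3),(0,8),(0,4),(0,6),(0,8),(0,3),(0,3),(0,3),(0,6),(0,6),(0,10),(0,10),(0,8),(0,2),(0,9)],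
   [(2,3),(3,2),(3,9),(2,8),(2,9),(1,2),(3,2),(0,9),(1,9),(7,9),(3,9),(13,5),(7,2),(1,2),(2,9),(4,9),(0,2),(0,9),(1,2)],
   [(0,8),(1,3),(1,2),(0,9),(0,2),(0,2),(0,9),(0,8),(0,9),(0,9),(0,9),(0,8),(1,2),(0,9),(0,2),(0,2),(0,2),(3,2),(0,7),(0,7),(3,9),(2,9),(4,9),(1,2),(1,9),(2,9),(0,9),(2,2),(1,2),(1,5),(5,2),(1,9),(0,2),(0,9),(1,9),(0,9),(4,9),(0,9),(0,4),(0,4)],
   [(0,4),(0,3),(0,1),(0,2),(0,10),(0,4),(0,3),(0,3),(0,4),(0,5),(0,3),(0,4),(0,3),(0,7),(0,8),(0,9),(0,5),(0,8),(0,9),(0,5),(0,8),(0,8),(0,8),(0,5),(0,10),(0,10),(0,3),(3,9),(0,9),(0,3),(0,3),(2,3),(0,1),(1,7),(1,1),(0,3),(1,1),(0,1),(2,7),(0,3),(0,7),(2,5),(2,8),(0,3),(0,8),(0,8),(0,2),(0,3),(0,3),(0,8),(0,2),(0,6),(0,8),(0,3),(0,3),(0,3),(0,6),(0,8),(0,1),(0,1),(0,8)],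
   [(0,1),(3,5),(0,3),(0,10),(0,10),(0,3),(0,5),(0,6),(0,3),(0,6),(0,4),(0,3),(0,10),(0,4),(0,5),(0,10),(0,6),(0,3),(0,3),(0,3),(0,6),(0,6),(0,6),(0,6),(1,9),(3,6),(0,8),(2,8),(0,6),(1,8),(1,6),(0,8),(1,6),(0,6),(2,8),(0,8),(0,8),(3,5),(1,3),(0,8),(0,5),(0,3),(0,1),(0,10),(0,6),(0,3),(0,1),(0,5),(0,3),(0,8),(0,8),(0,8),(0,5),(0,1),(0,5),(0,5),(0,5)],
   [(0,5),(3,8),(0,8),(0,5),(0,5),(0,8),(0,8),(0,3),(0,8),(0,3),(0,2),(0,8),(0,5),(0,2),(0,8),(0,5),(0,3),(0,8),(0,8),(0,8),(0,3),(0,3),(0,3),(0,5),(0,3),(4,3),(0,3),(2,3),(0,3),(1,3),(1,3),(0,3),(1,3),(0,3),(2,3),(0,3),(0,3),(4,9),(0,8),(0,3),(0,8),(0,8),(0,6),(0,5),(0,3),(0,8),(0,6),(0,8),(0,8),(0,3),(0,3),(0,3),(0,8),(0,6),(0,8),(0,8),(0,6),(0,2),(0,9)],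
   [(0,3),(0,3),(0,3),(0,1),(0,3),(0,3),(0,7),(0,2),(0,3),(0,3),(0,2),(0,1),(0,7),(0,3),(1,9),(2,9),(0,9),(0,7),(2,9),(0,9),(0,9),(0,9),(1,7),(0,10),(0,10),(0,10),(2,5),(0,5),(0,4),(0,10),(0,4),(0,10),(0,4),(0,7),(2,5),(0,8),(0,5),(0,10),(0,8),(1,8),(0,4),(0,4),(0,4),(0,5),(1,7),(3,2),(3,2),(0,2),(1,5),(2,2),(1,2),(0,2),(0,2)]]

/-- Rows of a matrix. -/
def matZ3 : List (List (ℕ × ℕ)) :=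
  [[(2,9),(0,9),(2,9),(0,4),(1,9),(0,9),(0,9),(0,4),(0,9),(0,4),(0,9),(2,9),(0,9),(3,9),(0,9),(0,9),(0,9),(1,7),(1,2),(0,2),(2,9),(0,3),(1,2),(0,4),(0,2),(0,9),(0,9),(0,7),(0,9),(0,7),(1,9),(0,4),(3,4),(0,4),(0,4),(0,9),(2,7),(2,2),(3,2),(0,2),(0,5),(3,2),(1,2),(0,2),(0,2)],
   [(0,3),(0,3),(0,1),(0,3),(0,3),(0,3),(0,2),(0,2),(0,3),(0,1),(0,7),(0,3),(0,7),(0,1),(1,9),(1,7),(0,9),(0,9),(3,9),(0,9),(0,9),(0,9),(1,7),(0,10),(0,8),(0,8),(0,4),(1,5),(0,5),(1,8),(0,4),(0,8),(0,4),(0,5),(1,5),(0,5),(0,8),(0,5),(0,4),(0,8),(1,8),(0,4),(0,10),(0,4),(4,7),(1,2),(1,5),(1,2),(0,2),(4,2),(1,2),(0,2),(0,2)],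
   [(0,1),(0,1),(0,1),(0,3),(0,3),(0,3),(0,2),(0,7),(0,3),(0,3),(0,7),(0,1),(0,2),(0,3),(1,9),(2,9),(0,9),(2,7),(0,9),(0,9),(0,9),(0,9),(1,5),(0,8),(0,8),(0,8),(1,4),(0,5),(0,5),(1,10),(0,4),(0,10),(0,4),(0,7),(1,5),(0,5),(0,8),(1,4),(0,8),(1,8),(0,10),(0,4),(0,4),(0,5),(4,7),(0,2),(3,2),(0,2),(3,5),(0,2),(1,2),(0,2),(0,2)],
   [(0,7),(1,7),(5,7),(4,7),(1,10),(12,7),(6,5),(4,6),(0,7),(2,7),(1,5),(1,4),(2,6),(0,6),(1,5),(5,2)],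
   [(2,9),(1,9),(0,9),(0,4),(0,4),(0,9),(1,9),(0,9),(0,9),(2,9),(0,4),(1,9),(0,9),(3,9),(0,9),(0,9),(0,9),(1,9),(0,2),(4,9),(0,9),(1,2),(0,4),(0,2),(0,4),(0,9),(1,9),(0,9),(0,2),(0,9),(0,4),(0,2),(1,2),(0,4),(0,4),(0,9),(0,9),(5,2),(0,7),(2,2),(0,2),(4,2),(0,5),(0,2),(0,2),(0,2)],
   [(0,9),(0,9),(1,9),(0,9),(0,9),(0,9),(0,9),(0,9),(1,4),(0,9),(0,4),(2,9),(1,4),(0,9),(0,9),(3,9),(0,9),(0,9),(0,9),(1,7),(1,2),(0,2),(0,7),(1,9),(0,9),(1,2),(0,4),(0,2),(0,4),(0,9),(1,9),(0,9),(0,2),(0,9),(0,4),(0,2),(1,2),(0,4),(0,9),(0,4),(0,3),(3,5),(1,2),(1,7),(1,2),(0,2),(4,2),(1,2),(0,2),(0,2)],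
   [(0,3),(0,3),(0,1),(0,1),(0,1),(0,1),(0,7),(0,2),(0,1),(0,3),(0,7),(0,3),(0,2),(0,3),(1,9),(2,9),(0,9),(1,7),(1,9),(0,9),(0,9),(0,9),(1,5),(0,8),(0,10),(0,10),(3,5),(1,8),(0,10),(0,8),(0,4),(0,5),(1,5),(0,7),(0,10),(0,5),(0,4),(0,10),(0,4),(0,10),(0,4),(0,4),(0,4),(0,5),(5,2),(2,7),(0,2),(0,2),(2,5),(1,2),(1,2),(0,2),(0,2)],
   [(5,7),(5,7),(1,7),(4,10),(9,7),(0,4),(4,5),(3,6),(0,4),(1,7),(1,5),(0,7),(2,6),(2,4),(1,6),(1,5),(9,2)],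
   [(1,7),(1,7),(4,7),(0,7),(1,7),(7,10),(8,7),(2,4),(3,5),(3,4),(0,6),(0,7),(1,5),(0,7),(2,6),(0,4),(4,6),(11,2)],
   [(0,1),(0,1),(0,3),(0,3),(0,1),(0,1),(0,2),(0,7),(0,1),(0,3),(0,2),(0,3),(0,7),(0,3),(0,7),(0,9),(2,9),(0,9),(3,9),(0,9),(0,9),(0,9),(1,7),(0,10),(0,8),(0,8),(2,5),(2,8),(0,4),(0,8),(0,10),(0,5),(0,4),(0,5),(0,7),(0,10),(0,5),(0,4),(0,10),(1,10),(0,4),(0,4),(0,4),(0,5),(2,5),(2,2),(3,2),(0,2),(0,7),(3,2),(1,2),(0,2),(0,2)],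
   [(0,9),(0,9),(0,9),(1,9),(0,9),(0,4),(0,9),(0,9),(0,9),(0,9),(1,4),(0,9),(1,9),(2,9),(0,9),(0,4),(2,9),(0,9),(0,9),(0,9),(1,7),(5,9),(0,9),(0,7),(1,4),(1,4),(0,7),(1,3),(0,9),(0,2),(0,9),(0,9),(0,2),(1,2),(0,4),(0,4),(0,4),(0,9),(1,5),(3,2),(3,2),(0,2),(1,7),(2,2),(1,2),(0,2),(0,2)],
   [(0,9),(0,9),(4,4),(0,9),(1,9),(0,4),(0,9),(0,9),(0,9),(1,9),(2,9),(0,9),(1,4),(1,9),(0,9),(0,9),(0,9),(1,9),(0,2),(4,3),(0,9),(1,2),(0,9),(0,2),(0,4),(0,9),(1,9),(0,7),(1,9),(0,4),(1,7),(1,4),(0,4),(0,4),(0,9),(5,2),(2,5),(0,2),(0,2),(2,7),(1,2),(1,2),(0,2),(0,2)],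
   [(3,9),(0,9),(0,9),(0,9),(0,4),(0,9),(0,9),(0,4),(1,9),(0,9),(1,9),(2,9),(0,9),(2,4),(0,9),(0,9),(0,9),(0,9),(1,9),(0,2),(0,2),(0,2),(1,7),(0,9),(0,9),(2,4),(1,4),(0,7),(1,9),(0,9),(0,2),(0,3),(0,4),(0,2),(1,2),(0,9),(0,4),(0,4),(0,9),(4,5),(0,2),(3,2),(0,2),(3,7),(0,2),(1,2),(0,2),(0,2)],
   [(5,7),(3,7),(13,10),(6,4),(3,5),(3,6),(2,7),(2,7),(1,5),(3,4),(0,6),(1,6),(16,2)],
   [(0,1),(0,1),(0,3),(0,1),(0,3),(0,3),(0,7),(0,7),(0,3),(0,1),(0,2),(0,3),(0,2),(0,1),(1,9),(0,7),(1,9),(0,9),(3,9),(0,9),(0,9),(0,9),(1,5),(0,8),(0,10),(0,10),(2,5),(0,5),(1,8),(0,4),(0,8),(0,4),(0,5),(1,5),(0,5),(0,8),(0,5),(0,4),(0,8),(1,8),(0,4),(0,4),(0,10),(0,5),(5,2),(0,5),(2,2),(0,2),(4,2),(0,7),(0,2),(0,2),(0,2)],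
   [(1,7),(2,7),(19,10),(3,7),(1,4),(3,5),(0,5),(2,6),(1,6),(3,7),(0,4),(6,6),(0,6),(0,5),(17,2)],
   [(2,7),(0,7),(21,10),(2,7),(0,4),(1,4),(5,4),(3,7),(1,5),(2,5),(0,6),(3,6),(0,6),(0,6),(0,5),(18,2)],
   [(0,7),(3,7),(21,10),(1,7),(5,5),(0,5),(1,4),(0,6),(1,6),(0,7),(1,5),(0,7),(0,4),(0,5),(0,6),(3,6),(22,2)],
   [(0,3),(0,3),(0,3),(0,3),(0,1),(0,1),(0,2),(0,2),(0,1),(0,1),(0,2),(0,1),(0,2),(0,1),(1,9),(2,9),(0,9),(3,9),(0,9),(0,9),(0,9),(0,7),(0,5),(0,8),(0,8),(0,8),(2,5),(0,5),(1,10),(0,4),(0,10),(0,4),(0,7),(1,5),(0,7),(0,10),(0,5),(0,4),(0,10),(1,10),(0,4),(0,4),(0,4),(0,5),(0,4),(4,2),(3,2),(0,2),(4,2),(1,2),(0,2),(0,2),(0,7),(0,5)]]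

/-- Rows of a matrix. -/
def matZ4 : List (List (ℕ × ℕ)) :=
  [[(0,9),(0,9),(0,9),(0,9),(2,9),(0,9),(2,9),(1,9),(2,9),(2,9),(0,9),(3,9),(0,9),(0,9),(0,9),(0,4),(0,9),(0,2),(0,2),(0,2),(2,9),(0,9),(2,4),(1,4),(0,7),(1,9),(0,7),(1,9),(0,4),(3,4),(0,4),(0,4),(0,9),(0,7),(4,2),(3,2),(0,2),(4,2),(1,2),(0,2),(0,2),(0,5),(0,7)],
   [(77,5),(3,2),(0,2),(2,2),(0,10),(1,10),(1,10),(0,2),(1,10),(0,10),(2,10),(0,2),(0,10),(5,1),(1,3),(1,1),(0,1),(0,9),(0,9),(0,1),(0,1),(0,9),(0,1),(0,9),(0,10),(0,9),(0,1),(0,2),(0,9),(0,1),(0,1),(0,9),(0,9),(0,9),(0,1),(0,1),(0,1),(0,1)],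
   [(78,5),(2,10),(0,10),(2,10),(0,7),(1,5),(1,7),(0,10),(1,7),(0,7),(2,5),(0,10),(0,5),(5,4),(1,8),(1,4),(0,6),(0,1),(0,1),(0,6),(0,1),(0,1),(0,6),(0,1),(0,10),(0,1),(0,6),(0,10),(0,1),(0,6),(0,6),(0,1),(0,1),(0,1),(0,6),(0,4),(0,4),(0,4)],
   [(79,5),(1,10),(0,10),(2,10),(0,4),(1,8),(1,4),(0,10),(1,4),(0,4),(2,8),(0,10),(0,8),(5,4),(0,8),(0,8),(1,7),(0,3),(0,1),(0,1),(0,3),(0,9),(0,1),(0,3),(0,1),(0,2),(0,1),(0,3),(0,10),(0,1),(0,3),(0,3),(0,1),(0,1),(0,1),(0,3),(0,7),(0,7),(0,7)],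
   [(80,5),(0,9),(0,9),(2,9),(0,6),(1,7),(1,6),(0,9),(1,6),(0,6),(2,7),(0,9),(0,7),(5,5),(0,8),(0,5),(0,3),(0,5),(0,4),(0,2),(0,2),(0,4),(0,10),(0,2),(0,4),(0,2),(0,1),(0,2),(0,4),(0,9),(0,2),(0,4),(0,4),(0,2),(0,2),(0,2),(0,4),(0,5),(0,5),(0,5)],
   [(81,6),(0,1),(2,1),(0,6),(1,4),(1,6),(0,1),(1,6),(0,6),(2,4),(0,1),(0,4),(5,2),(1,8),(1,5),(0,7),(0,10),(0,10),(0,7),(0,10),(0,10),(0,7),(0,10),(0,1),(0,10),(0,7),(0,9),(0,2),(0,7),(0,7),(0,10),(0,10),(0,10),(0,7),(0,5),(0,5),(0,5)],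
   [(81,2),(0,7),(2,2),(0,2),(1,7),(1,2),(0,2),(1,2),(0,2),(2,7),(0,2),(0,7),(5,9),(3,9),(0,4),(0,9),(0,9),(0,4),(0,1),(0,9),(0,4),(0,9),(0,2),(0,9),(0,4),(0,10),(0,9),(0,4),(0,4),(0,9),(0,9),(0,1),(0,4),(0,9),(0,9),(0,9)],
   [(80,3),(2,3),(2,8),(3,8),(3,8),(2,3),(0,3),(5,8),(2,8),(0,8),(0,3),(1,8),(1,8),(1,8),(2,3),(1,8),(3,8),(1,8),(2,3),(1,3),(0,3)],
   [(77,3),(0,3),(2,9),(0,9),(1,3),(0,9),(0,6),(1,4),(1,6),(0,1),(1,9),(0,6),(2,4),(0,9),(0,7),(4,8),(0,2),(0,8),(0,5),(1,5),(0,4),(0,2),(0,10),(0,7),(0,10),(0,2),(0,7),(0,10),(0,4),(0,10),(0,7),(0,9),(0,2),(0,4),(0,7),(0,2),(0,2),(0,2),(0,4),(0,5),(0,2),(0,5),(0,3)],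
   [(85,5),(0,5),(1,6),(1,5),(2,5),(0,5),(2,6),(1,6),(5,6),(0,8),(0,5),(1,6),(0,5),(2,5),(2,5),(1,3),(1,5),(0,8),(1,5),(0,5),(0,3),(2,5),(0,6),(0,6),(0,6)],
   [(81,9),(0,9),(2,9),(0,3),(1,4),(1,9),(0,9),(1,9),(0,9),(2,4),(0,9),(0,4),(5,2),(1,5),(1,2),(0,7),(0,2),(0,2),(0,7),(0,10),(0,2),(0,7),(0,2),(0,4),(0,2),(0,7),(0,9),(0,2),(0,7),(0,7),(0,2),(0,2),(0,2),(0,7),(0,2),(0,2),(0,2)],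
   [(79,3),(1,10),(0,10),(2,10),(0,10),(0,3),(0,10),(1,10),(0,10),(1,10),(0,2),(2,10),(0,2),(0,2),(4,8),(0,1),(1,8),(1,9),(0,9),(0,9),(0,1),(0,1),(0,1),(0,9),(0,1),(0,1),(0,2),(0,1),(0,1),(0,10),(0,1),(0,9),(0,1),(0,1),(0,9),(0,1),(0,9),(0,9),(0,1),(0,9),(0,3)],
   [(81,10),(0,10),(2,10),(0,4),(1,2),(1,4),(0,10),(1,4),(0,4),(2,8),(0,10),(0,8),(5,4),(0,8),(0,5),(1,7),(0,3),(0,1),(0,1),(0,3),(0,9),(0,1),(0,6),(0,1),(0,2),(0,1),(0,3),(0,10),(0,1),(0,3),(0,3),(0,1),(0,1),(0,1),(0,3),(0,7),(0,7),(0,7)],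
   [(81,10),(0,10),(2,10),(0,7),(1,2),(0,3),(0,7),(0,2),(1,7),(0,10),(2,5),(0,10),(0,2),(4,8),(0,1),(0,8),(0,8),(1,1),(0,9),(0,1),(0,9),(0,6),(0,1),(0,1),(0,9),(0,9),(0,2),(0,9),(0,6),(0,10),(0,1),(0,9),(0,6),(0,1),(0,1),(0,1),(0,9),(0,1),(0,4),(0,1),(0,3)],
   [(81,10),(0,10),(2,10),(0,7),(1,5),(1,1),(0,10),(1,7),(0,7),(2,5),(0,10),(0,5),(5,4),(0,8),(0,8),(1,4),(0,6),(0,1),(0,1),(0,6),(0,1),(0,1),(0,6),(0,1),(0,2),(0,1),(0,6),(0,10),(0,1),(0,6),(0,6),(0,1),(0,1),(0,1),(0,6),(0,4),(0,4),(0,4)],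
   [(81,3),(0,3),(2,3),(0,6),(1,5),(1,6),(0,8),(1,6),(0,6),(2,5),(0,3),(0,5),(4,3),(0,8),(0,3),(0,6),(1,5),(0,6),(2,6),(1,8),(0,6),(0,8),(2,9),(0,3),(0,8),(0,9),(0,6),(0,8),(0,8),(0,8),(0,6),(0,5),(0,5),(0,8),(0,8)],
   [(77,3),(1,3),(5,3),(0,6),(1,5),(1,9),(1,3),(0,6),(0,6),(2,5),(1,5),(5,8),(0,3),(0,3),(1,5),(0,6),(1,3),(0,6),(2,6),(0,8),(2,6),(0,3),(1,9),(0,6),(0,8),(2,3),(0,2),(0,5),(0,8)],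
   [(81,1),(0,1),(2,1),(0,10),(1,3),(1,10),(0,1),(1,4),(0,10),(2,3),(0,1),(0,3),(4,3),(0,10),(0,3),(0,6),(1,1),(0,8),(0,2),(0,2),(0,8),(0,2),(0,10),(0,8),(0,10),(0,9),(0,10),(1,4),(0,10),(1,8),(0,10),(0,10),(0,10),(0,8),(0,1),(0,1),(0,4),(0,8)],
   [(81,1),(0,1),(2,1),(0,4),(1,9),(1,4),(0,1),(1,4),(0,9),(2,9),(0,1),(0,9),(4,3),(0,10),(1,3),(1,10),(0,2),(0,2),(0,2),(0,2),(0,10),(0,10),(0,2),(0,10),(0,1),(0,10),(0,5),(0,4),(0,10),(0,5),(0,2),(0,10),(0,10),(0,10),(0,2),(0,7),(0,7),(0,10),(0,8)]]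

/-- Rows of a matrix. -/
def matZ5 : List (List (ℕ × ℕ)) :=
  [[(82,3),(3,3),(3,6),(2,3),(0,3),(0,3),(1,8),(1,8),(7,3),(1,8),(0,3),(0,3),(1,3),(1,8),(4,6),(0,3),(1,3),(3,8),(0,3),(0,5),(0,8)],
   [(78,3),(1,3),(0,2),(0,2),(2,5),(2,4),(1,8),(0,2),(1,8),(0,8),(1,3),(0,1),(0,2),(0,1),(5,6),(0,3),(0,9),(0,8),(0,3),(0,10),(0,9),(0,1),(0,10),(0,1),(0,9),(0,7),(0,6),(0,10),(0,9),(0,2),(0,5),(0,9),(0,10),(0,7),(0,6),(0,9),(0,9),(0,10),(0,3),(1,3)],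
   [(81,10),(0,10),(2,10),(0,2),(1,2),(1,2),(0,10),(1,2),(0,2),(2,7),(0,10),(0,2),(4,3),(0,1),(3,9),(0,9),(0,4),(0,4),(0,1),(0,9),(0,1),(0,9),(0,1),(0,10),(0,1),(0,1),(0,2),(0,1),(0,1),(0,9),(0,1),(0,1),(0,1),(0,9),(0,9),(0,9),(0,1),(0,8)],
   [(81,2),(0,2),(2,2),(0,2),(1,10),(1,2),(0,2),(1,2),(0,2),(2,10),(0,7),(0,10),(4,3),(0,1),(1,3),(1,9),(0,1),(0,1),(0,1),(0,1),(0,1),(0,9),(0,1),(0,9),(0,10),(0,9),(0,4),(0,2),(0,9),(0,4),(0,1),(0,9),(0,1),(0,9),(0,1),(0,9),(0,9),(0,1),(0,8)],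
   [(81,1),(0,1),(2,1),(0,4),(1,9),(1,4),(0,1),(1,4),(0,4),(2,9),(0,1),(0,3),(4,3),(0,10),(0,3),(0,6),(1,7),(0,5),(0,2),(0,2),(0,2),(0,10),(0,10),(0,2),(0,10),(0,9),(0,10),(0,5),(0,4),(0,10),(0,5),(0,2),(0,10),(0,10),(0,10),(0,2),(0,7),(0,7),(0,10),(0,8)],
   [(82,3),(3,3),(13,3),(10,3),(3,8),(5,3),(1,3),(3,8),(0,8),(1,8)],
   [(78,3),(2,3),(4,3),(1,8),(1,3),(2,3),(0,3),(2,8),(1,8),(1,3),(7,8),(0,3),(0,3),(0,3),(0,3),(1,8),(0,3),(0,8),(2,3),(0,3),(0,8),(0,3),(0,3),(3,3),(0,5),(0,5)],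
   [(79,3),(0,3),(0,1),(0,1),(2,1),(0,4),(1,6),(1,4),(0,1),(1,4),(0,4),(2,6),(0,1),(0,6),(2,3),(2,10),(1,3),(0,8),(0,7),(0,5),(0,10),(0,10),(0,5),(0,10),(0,10),(0,5),(0,10),(0,1),(0,10),(0,8),(0,1),(0,10),(0,8),(0,2),(0,10),(0,10),(0,10),(0,2),(0,4),(0,4),(0,10)],
   [(77,3),(3,2),(0,10),(2,10),(0,2),(1,10),(1,2),(0,10),(1,2),(0,2),(2,10),(0,10),(0,10),(3,3),(1,1),(3,9),(0,1),(0,4),(0,4),(0,1),(0,9),(0,9),(0,1),(0,9),(0,2),(0,1),(0,4),(0,2),(0,9),(0,4),(0,9),(0,1),(0,1),(0,1),(0,9),(0,9),(0,9),(0,9)],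
   [(81,1),(0,1),(2,1),(0,1),(1,1),(1,1),(0,1),(1,1),(0,1),(2,1),(0,1),(0,1),(4,8),(0,2),(3,10),(0,10),(0,2),(0,2),(0,10),(0,10),(0,10),(0,10),(0,10),(0,1),(0,10),(0,2),(0,1),(0,10),(0,2),(0,10),(0,10),(0,10),(0,10),(0,10),(0,10),(0,10),(0,2)],
   [(77,1),(1,3),(1,1),(0,1),(0,9),(0,9),(0,1),(0,1),(0,9),(0,1),(0,9),(0,10),(0,9),(0,1),(0,2),(0,9),(0,1),(0,1),(0,9),(0,9),(0,9),(0,1),(0,1),(0,1),(0,1),(1,6),(3,9),(0,9),(2,9),(0,1),(1,1),(1,1),(0,9),(1,1),(0,1),(2,1),(0,9),(0,1)],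
   [(77,4),(1,8),(1,4),(0,6),(0,1),(0,1),(0,6),(0,1),(0,1),(0,6),(0,1),(0,10),(0,1),(0,6),(0,10),(0,1),(0,6),(0,6),(0,1),(0,1),(0,1),(0,6),(0,4),(0,4),(0,4),(2,6),(2,1),(0,1),(2,1),(0,4),(1,6),(1,4),(0,1),(1,4),(0,4),(2,6),(0,1),(0,6)],
   [(77,4),(0,8),(0,8),(1,7),(0,3),(0,1),(0,1),(0,3),(0,9),(0,1),(0,3),(0,1),(0,2),(0,1),(0,3),(0,10),(0,1),(0,3),(0,3),(0,1),(0,1),(0,1),(0,3),(0,7),(0,7),(0,7),(3,6),(1,1),(0,1),(2,1),(0,7),(1,3),(1,7),(0,1),(1,7),(0,7),(2,3),(0,1),(0,3)],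
   [(77,5),(0,8),(0,5),(0,3),(0,5),(0,4),(0,2),(0,2),(0,4),(0,10),(0,2),(0,4),(0,2),(0,1),(0,2),(0,4),(0,9),(0,2),(0,4),(0,4),(0,2),(0,2),(0,2),(0,4),(0,5),(0,5),(0,5),(4,6),(0,2),(0,2),(2,2),(0,5),(1,4),(1,5),(0,2),(1,5),(0,5),(2,4),(0,2),(0,4)],
   [(77,2),(1,8),(1,5),(0,7),(0,10),(0,10),(0,7),(0,10),(0,10),(0,7),(0,10),(0,1),(0,10),(0,7),(0,9),(0,2),(0,7),(0,7),(0,10),(0,10),(0,10),(0,7),(0,5),(0,5),(0,5),(5,5),(0,10),(2,10),(0,5),(1,7),(1,5),(0,10),(1,5),(0,5),(2,7),(0,10),(0,7)],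
   [(77,9),(3,9),(0,4),(0,9),(0,9),(0,4),(0,1),(0,9),(0,4),(0,9),(0,2),(0,9),(0,4),(0,10),(0,9),(0,4),(0,4),(0,9),(0,9),(0,1),(0,4),(0,9),(0,9),(0,9),(5,9),(0,4),(2,9),(0,9),(1,4),(1,9),(0,9),(1,9),(0,9),(2,4),(0,9),(0,4)],
   [(79,8),(0,8),(0,3),(1,8),(1,8),(1,8),(2,3),(1,8),(3,8),(1,8),(2,3),(1,3),(0,3),(3,8),(2,8),(2,3),(3,3),(3,3),(2,8),(0,8),(5,3)],
   [(77,2),(0,8),(0,5),(1,5),(0,4),(0,2),(0,10),(0,7),(0,10),(0,2),(0,7),(0,10),(0,4),(0,10),(0,7),(0,9),(0,2),(0,4),(0,7),(0,2),(0,2),(0,2),(0,4),(0,5),(0,2),(0,5),(0,3),(0,8),(0,8),(2,2),(0,2),(1,8),(0,2),(0,5),(1,7),(1,5),(0,10),(1,2),(0,5),(2,7),(0,2),(0,4),(4,3)],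
   [(77,6),(0,8),(0,5),(1,6),(0,5),(2,5),(2,5),(1,3),(1,5),(0,8),(1,5),(0,5),(0,3),(2,5),(0,6),(0,6),(0,6),(9,6),(0,6),(1,5),(1,6),(2,6),(0,6),(2,5),(1,5)]]

/-- Rows of a matrix. -/
def matZ6 : List (List (ℕ × ℕ)) :=
  [[(77,2),(1,5),(1,2),(0,7),(0,2),(0,2),(0,7),(0,10),(0,2),(0,7),(0,2),(0,4),(0,2),(0,7),(0,9),(0,2),(0,7),(0,7),(0,2),(0,2),(0,2),(0,7),(0,2),(0,2),(0,2),(5,2),(0,2),(2,2),(0,8),(1,7),(1,2),(0,2),(1,2),(0,2),(2,7),(0,2),(0,7)],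
   [(77,1),(1,8),(1,9),(0,9),(0,9),(0,1),(0,1),(0,1),(0,9),(0,1),(0,1),(0,2),(0,1),(0,1),(0,10),(0,1),(0,9),(0,1),(0,1),(0,9),(0,1),(0,9),(0,9),(0,1),(0,9),(0,3),(2,8),(1,1),(0,1),(2,1),(0,1),(0,8),(0,1),(1,1),(0,1),(1,1),(0,9),(2,1),(0,9),(0,9),(4,3)],
   [(77,4),(0,8),(0,5),(1,7),(0,3),(0,1),(0,1),(0,3),(0,9),(0,1),(0,6),(0,1),(0,2),(0,1),(0,3),(0,10),(0,1),(0,3),(0,3),(0,1),(0,1),(0,1),(0,3),(0,7),(0,7),(0,7),(5,1),(0,1),(2,1),(0,7),(1,9),(1,7),(0,1),(1,7),(0,7),(2,3),(0,1),(0,3)],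
   [(77,1),(0,8),(0,8),(1,1),(0,9),(0,1),(0,9),(0,6),(0,1),(0,1),(0,9),(0,9),(0,2),(0,9),(0,6),(0,10),(0,1),(0,9),(0,6),(0,1),(0,1),(0,1),(0,9),(0,1),(0,4),(0,1),(0,3),(4,1),(0,1),(2,1),(0,4),(1,9),(0,8),(0,4),(0,9),(1,4),(0,1),(2,6),(0,1),(0,9),(4,3)],
   [(77,4),(0,8),(0,8),(1,4),(0,6),(0,1),(0,1),(0,6),(0,1),(0,1),(0,6),(0,1),(0,2),(0,1),(0,6),(0,10),(0,1),(0,6),(0,6),(0,1),(0,1),(0,1),(0,6),(0,4),(0,4),(0,4),(5,1),(0,1),(2,1),(0,4),(1,6),(1,10),(0,1),(1,4),(0,4),(2,6),(0,1),(0,6)],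
   [(77,8),(0,3),(0,6),(1,5),(0,6),(2,6),(1,8),(0,6),(0,8),(2,9),(0,3),(0,8),(0,9),(0,6),(0,8),(0,8),(0,8),(0,6),(0,5),(0,5),(0,8),(0,8),(4,8),(0,8),(2,8),(0,5),(1,6),(1,5),(0,3),(1,5),(0,5),(2,6),(0,8),(0,6),(4,8)],
   [(77,8),(0,3),(0,3),(1,5),(0,6),(1,3),(0,6),(2,6),(0,8),(2,6),(0,3),(1,9),(0,6),(0,8),(2,3),(0,2),(0,5),(0,8),(1,8),(1,8),(5,8),(0,5),(1,6),(1,2),(1,8),(0,5),(0,5),(2,6),(1,6)],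
   [(77,10),(0,3),(0,6),(1,1),(0,8),(0,2),(0,2),(0,8),(0,2),(0,10),(0,8),(0,10),(0,9),(0,10),(1,4),(0,10),(1,8),(0,10),(0,10),(0,10),(0,8),(0,1),(0,1),(0,4),(0,8),(4,10),(0,10),(2,10),(0,1),(1,8),(1,1),(0,10),(1,7),(0,1),(2,8),(0,10),(0,8),(4,8)],
   [(77,10),(1,3),(1,10),(0,2),(0,2),(0,2),(0,2),(0,10),(0,10),(0,2),(0,10),(0,1),(0,10),(0,5),(0,4),(0,10),(0,5),(0,2),(0,10),(0,10),(0,10),(0,2),(0,7),(0,7),(0,10),(0,8),(4,10),(0,10),(2,10),(0,7),(1,2),(1,7),(0,10),(1,7),(0,2),(2,2),(0,10),(0,2),(4,8)],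
   [(79,3),(1,8),(0,3),(0,3),(1,3),(1,8),(4,6),(0,3),(1,3),(3,8),(0,3),(0,5),(0,8),(7,8),(3,8),(3,5),(2,8),(0,8),(0,8),(1,3),(1,3)],
   [(77,6),(0,3),(0,9),(0,8),(0,3),(0,10),(0,9),(0,1),(0,10),(0,1),(0,9),(0,7),(0,6),(0,10),(0,9),(0,2),(0,5),(0,9),(0,10),(0,7),(0,6),(0,9),(0,9),(0,10),(0,3),(1,3),(2,8),(1,8),(0,9),(0,9),(2,6),(2,7),(1,3),(0,9),(1,3),(0,3),(1,8),(0,10),(0,9),(0,10)],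
   [(77,1),(3,9),(0,9),(0,4),(0,4),(0,1),(0,9),(0,1),(0,9),(0,1),(0,10),(0,1),(0,1),(0,2),(0,1),(0,1),(0,9),(0,1),(0,1),(0,1),(0,9),(0,9),(0,9),(0,1),(0,8),(4,1),(0,1),(2,1),(0,9),(1,9),(1,9),(0,1),(1,9),(0,9),(2,4),(0,1),(0,9),(4,8)],
   [(77,1),(1,3),(1,9),(0,1),(0,1),(0,1),(0,1),(0,1),(0,9),(0,1),(0,9),(0,10),(0,9),(0,4),(0,2),(0,9),(0,4),(0,1),(0,9),(0,1),(0,9),(0,1),(0,9),(0,9),(0,1),(0,8),(4,9),(0,9),(2,9),(0,9),(1,1),(1,9),(0,9),(1,9),(0,9),(2,1),(0,4),(0,1),(4,8)],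
   [(77,10),(0,3),(0,6),(1,7),(0,5),(0,2),(0,2),(0,2),(0,10),(0,10),(0,2),(0,10),(0,9),(0,10),(0,5),(0,4),(0,10),(0,5),(0,2),(0,10),(0,10),(0,10),(0,2),(0,7),(0,7),(0,10),(0,8),(4,10),(0,10),(2,10),(0,7),(1,2),(1,7),(0,10),(1,7),(0,7),(2,2),(0,10),(0,8),(4,8)],
   [(83,3),(3,8),(5,3),(1,3),(3,8),(0,8),(1,8),(7,8),(3,8),(13,8)],
   [(81,8),(0,3),(0,3),(0,3),(0,3),(1,8),(0,3),(0,8),(2,3),(0,3),(0,8),(0,3),(0,3),(3,3),(0,5),(0,5),(3,8),(2,8),(4,8),(1,3),(1,8),(2,8),(0,8),(2,3),(1,3),(1,8)],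
   [(77,10),(1,3),(0,8),(0,7),(0,5),(0,10),(0,10),(0,5),(0,10),(0,10),(0,5),(0,10),(0,1),(0,10),(0,8),(0,1),(0,10),(0,8),(0,2),(0,10),(0,10),(0,10),(0,2),(0,4),(0,4),(0,10),(3,8),(0,8),(0,10),(0,10),(2,10),(0,7),(1,5),(1,7),(0,10),(1,7),(0,7),(2,5),(0,10),(0,5),(2,8)],
   [(77,1),(3,9),(0,1),(0,4),(0,4),(0,1),(0,9),(0,9),(0,1),(0,9),(0,2),(0,1),(0,4),(0,2),(0,9),(0,4),(0,9),(0,1),(0,1),(0,1),(0,9),(0,9),(0,9),(0,9),(1,8),(3,9),(0,1),(2,1),(0,9),(1,1),(1,9),(0,1),(1,9),(0,9),(2,1),(0,1),(0,1),(3,8)],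
   [(77,2),(3,10),(0,10),(0,2),(0,2),(0,10),(0,10),(0,10),(0,10),(0,10),(0,1),(0,10),(0,2),(0,1),(0,10),(0,2),(0,10),(0,10),(0,10),(0,10),(0,10),(0,10),(0,10),(0,2),(5,10),(0,10),(2,10),(0,10),(1,10),(1,10),(0,10),(1,10),(0,10),(2,10),(0,10),(0,10),(4,3)]]

/-- The matrix of a letter. -/
def matZ : List (List (ℕ × ℕ)) := matZ0 ++ matZ1 ++ matZ2 ++ matZ3 ++ matZ4 ++ matZ5 ++ matZ6

/-- Rows of a matrix. -/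
def matT0 : List (List (ℕ × ℕ)) :=
  [[(0,7),(76,1)],
   [(1,7),(76,1)],
   [(2,7),(76,1)],
   [(3,7),(76,1)],
   [(4,7),(76,1)],
   [(5,7),(76,1)],
   [(6,7),(76,1)],
   [(7,7),(76,1)],
   [(8,7),(76,1)],
   [(9,7),(76,1)],
   [(10,7),(76,1)],
   [(11,7),(76,1)],
   [(12,7),(76,1)],
   [(13,7),(76,1)],
   [(14,7),(76,1)],
   [(15,7),(76,1)],
   [(16,7),(76,1)],
   [(17,7),(76,1)],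
   [(18,7),(76,1)]]

/-- Rows of a matrix. -/
def matT1 : List (List (ℕ × ℕ)) :=
  [[(19,7),(76,1)],
   [(20,7),(76,1)],
   [(21,7),(76,1)],
   [(22,7),(76,1)],
   [(23,7),(76,1)],
   [(24,7),(76,1)],
   [(25,7),(76,1)],
   [(26,7),(76,1)],
   [(27,7),(76,1)],
   [(28,9),(76,3)],
   [(29,9),(76,3)],
   [(30,9),(76,3)],
   [(31,9),(76,3)],
   [(32,9),(76,3)],
   [(33,9),(76,3)],
   [(34,9),(76,3)],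
   [(35,9),(76,3)],
   [(36,9),(76,3)],
   [(37,9),(76,3)]]

/-- Rows of a matrix. -/
def matT2 : List (List (ℕ × ℕ)) :=
  [[(38,9),(76,3)],
   [(39,9),(76,3)],
   [(40,9),(76,3)],
   [(41,9),(76,3)],
   [(42,9),(76,3)],
   [(43,9),(76,3)],
   [(44,9),(76,3)],
   [(45,9),(76,3)],
   [(46,9),(76,3)],
   [(47,9),(76,3)],
   [(48,9),(76,3)],
   [(49,9),(76,3)],
   [(50,9),(76,3)],
   [(51,9),(76,3)],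
   [(52,9),(76,3)],
   [(53,9),(76,3)],
   [(54,9),(76,3)],
   [(55,9),(76,3)],
   [(56,1)]]

/-- Rows of a matrix. -/
def matT3 : List (List (ℕ × ℕ)) :=
  [[(57,1)],
   [(58,1)],
   [(59,1)],
   [(60,1)],
   [(61,1)],
   [(62,1)],
   [(63,1)],
   [(64,1)],
   [(65,1)],
   [(66,1)],
   [(67,1)],
   [(68,1)],
   [(69,1)],
   [(70,1)],
   [(71,1)],
   [(72,1)],
   [(73,1)],
   [(74,1)],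
   [(75,1)]]

/-- Rows of a matrix. -/
def matT4 : List (List (ℕ × ℕ)) :=
  [[(76,1)],
   [(0,4),(76,7)],
   [(1,4),(76,7)],
   [(2,4),(76,7)],
   [(3,4),(76,7)],
   [(4,4),(76,7)],
   [(5,4),(76,7)],
   [(6,4),(76,7)],
   [(7,4),(76,7)],
   [(8,4),(76,7)],
   [(9,4),(76,7)],
   [(10,4),(76,7)],
   [(11,4),(76,7)],
   [(12,4),(76,7)],
   [(13,4),(76,7)],
   [(14,4),(76,7)],
   [(15,4),(76,7)],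
   [(16,4),(76,7)],
   [(17,4),(76,7)]]

/-- Rows of a matrix. -/
def matT5 : List (List (ℕ × ℕ)) :=
  [[(18,4),(76,7)],
   [(19,4),(76,7)],
   [(20,4),(76,7)],
   [(21,4),(76,7)],
   [(22,4),(76,7)],
   [(23,4),(76,7)],
   [(24,4),(76,7)],
   [(25,4),(76,7)],
   [(26,4),(76,7)],
   [(27,4),(76,7)],
   [(28,1),(76,9)],
   [(29,1),(76,9)],
   [(30,1),(76,9)],
   [(31,1),(76,9)],
   [(32,1),(76,9)],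
   [(33,1),(76,9)],
   [(34,1),(76,9)],
   [(35,1),(76,9)],
   [(36,1),(76,9)]]

/-- Rows of a matrix. -/
def matT6 : List (List (ℕ × ℕ)) :=
  [[(37,1),(76,9)],
   [(38,1),(76,9)],
   [(39,1),(76,9)],
   [(40,1),(76,9)],
   [(41,1),(76,9)],
   [(42,1),(76,9)],
   [(43,1),(76,9)],
   [(44,1),(76,9)],
   [(45,1),(76,9)],
   [(46,1),(76,9)],
   [(47,1),(76,9)],
   [(48,1),(76,9)],
   [(49,1),(76,9)],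
   [(50,1),(76,9)],
   [(51,1),(76,9)],
   [(52,1),(76,9)],
   [(53,1),(76,9)],
   [(54,1),(76,9)],
   [(55,1),(76,9)]]

/-- The matrix of a letter. -/
def matT : List (List (ℕ × ℕ)) := matT0 ++ matT1 ++ matT2 ++ matT3 ++ matT4 ++ matT5 ++ matT6

/-- Rows of a matrix. -/
def matTi0 : List (List (ℕ × ℕ)) :=
  [[(0,7),(76,10)],
   [(1,7),(76,10)],
   [(2,7),(76,10)],
   [(3,7),(76,10)],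
   [(4,7),(76,10)],
   [(5,7),(76,10)],
   [(6,7),(76,10)],
   [(7,7),(76,10)],
   [(8,7),(76,10)],
   [(9,7),(76,10)],
   [(10,7),(76,10)],
   [(11,7),(76,10)],
   [(12,7),(76,10)],
   [(13,7),(76,10)],
   [(14,7),(76,10)],
   [(15,7),(76,10)],
   [(16,7),(76,10)],
   [(17,7),(76,10)],
   [(18,7),(76,10)]]

/-- Rows of a matrix. -/
def matTi1 : List (List (ℕ × ℕ)) :=
  [[(19,7),(76,10)],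
   [(20,7),(76,10)],
   [(21,7),(76,10)],
   [(22,7),(76,10)],
   [(23,7),(76,10)],
   [(24,7),(76,10)],
   [(25,7),(76,10)],
   [(26,7),(76,10)],
   [(27,7),(76,10)],
   [(28,9),(76,8)],
   [(29,9),(76,8)],
   [(30,9),(76,8)],
   [(31,9),(76,8)],
   [(32,9),(76,8)],
   [(33,9),(76,8)],
   [(34,9),(76,8)],
   [(35,9),(76,8)],
   [(36,9),(76,8)],
   [(37,9),(76,8)]]

/-- Rows of a matrix. -/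
def matTi2 : List (List (ℕ × ℕ)) :=
  [[(38,9),(76,8)],
   [(39,9),(76,8)],
   [(40,9),(76,8)],
   [(41,9),(76,8)],
   [(42,9),(76,8)],
   [(43,9),(76,8)],
   [(44,9),(76,8)],
   [(45,9),(76,8)],
   [(46,9),(76,8)],
   [(47,9),(76,8)],
   [(48,9),(76,8)],
   [(49,9),(76,8)],
   [(50,9),(76,8)],
   [(51,9),(76,8)],
   [(52,9),(76,8)],
   [(53,9),(76,8)],
   [(54,9),(76,8)],
   [(55,9),(76,8)],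
   [(56,1)]]

/-- Rows of a matrix. -/
def matTi3 : List (List (ℕ × ℕ)) :=
  [[(57,1)],
   [(58,1)],
   [(59,1)],
   [(60,1)],
   [(61,1)],
   [(62,1)],
   [(63,1)],
   [(64,1)],
   [(65,1)],
   [(66,1)],
   [(67,1)],
   [(68,1)],
   [(69,1)],
   [(70,1)],
   [(71,1)],
   [(72,1)],
   [(73,1)],
   [(74,1)],
   [(75,1)]]

/-- Rows of a matrix. -/
def matTi4 : List (List (ℕ × ℕ)) :=
  [[(76,1)],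
   [(0,7),(76,7)],
   [(1,7),(76,7)],
   [(2,7),(76,7)],
   [(3,7),(76,7)],
   [(4,7),(76,7)],
   [(5,7),(76,7)],
   [(6,7),(76,7)],
   [(7,7),(76,7)],
   [(8,7),(76,7)],
   [(9,7),(76,7)],
   [(10,7),(76,7)],
   [(11,7),(76,7)],
   [(12,7),(76,7)],
   [(13,7),(76,7)],
   [(14,7),(76,7)],
   [(15,7),(76,7)],
   [(16,7),(76,7)],
   [(17,7),(76,7)]]

/-- Rows of a matrix. -/
def matTi5 : List (List (ℕ × ℕ)) :=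
  [[(18,7),(76,7)],
   [(19,7),(76,7)],
   [(20,7),(76,7)],
   [(21,7),(76,7)],
   [(22,7),(76,7)],
   [(23,7),(76,7)],
   [(24,7),(76,7)],
   [(25,7),(76,7)],
   [(26,7),(76,7)],
   [(27,7),(76,7)],
   [(28,10),(76,9)],
   [(29,10),(76,9)],
   [(30,10),(76,9)],
   [(31,10),(76,9)],
   [(32,10),(76,9)],
   [(33,10),(76,9)],
   [(34,10),(76,9)],
   [(35,10),(76,9)],
   [(36,10),(76,9)]]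

/-- Rows of a matrix. -/
def matTi6 : List (List (ℕ × ℕ)) :=
  [[(37,10),(76,9)],
   [(38,10),(76,9)],
   [(39,10),(76,9)],
   [(40,10),(76,9)],
   [(41,10),(76,9)],
   [(42,10),(76,9)],
   [(43,10),(76,9)],
   [(44,10),(76,9)],
   [(45,10),(76,9)],
   [(46,10),(76,9)],
   [(47,10),(76,9)],
   [(48,10),(76,9)],
   [(49,10),(76,9)],
   [(50,10),(76,9)],
   [(51,10),(76,9)],
   [(52,10),(76,9)],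
   [(53,10),(76,9)],
   [(54,10),(76,9)],
   [(55,10),(76,9)]]

/-- The matrix of a letter. -/
def matTi : List (List (ℕ × ℕ)) := matTi0 ++ matTi1 ++ matTi2 ++ matTi3 ++ matTi4 ++ matTi5 ++ matTi6

/-- The matrices by letters. -/
def matGens : List (List (List (ℕ × ℕ))) := [matX, matXi, matY, matYi, matZ, matZ, matT, matTi]

end CfsgLib.HNxyz
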