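import Cfsg.Agent.Lib.HNxyz.ModEleven
import Cfsg.Agent.Lib.HNxyz.MatData

/-!
# The relations between the matrices (generated)
-/

set_option autoImplicit false
set_option maxRecDepth 100000

namespace CfsgLib.HNxyz

open ModEleven

/-- Words to check. -/
def matWords0 : List (List ℕ) := [[2, 2, 2, 2, 2, 2], [0, 0, 2, 0, 0, 3], [1, 3, 0, 2, 1, 3, 0, 2, 1, 3, 0, 2], [1, 2, 2, 0, 2, 2, 2, 1, 2, 2, 0, 2, 2, 2, 1, 2, 2, 0, 2, 2, 2], [0, 2, 0, 2, 0, 2, 0, 2, 0, 2, 0, 2, 0, 2, 0, 2], [0, 2, 0, 2, 2, 2, 0, 2, 0, 2, 2, 2, 0, 2, 0, 2, 2, 2, 0, 2, 0, 2, 2, 2]]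

theorem matWords0_ok : (matWords0.all fun w => (w.all fun g => Nat.blt g 8) && beqL (evalP 133 matGens w) (idP 133)) = true := by
  decide +kernel

/-- Words to check. -/
def matWords1 : List (List ℕ) := [[4, 4], [4, 0, 4, 0], [5, 2, 1, 3, 3, 1, 3, 1, 3, 4, 2, 0, 2, 0, 2, 2, 0, 3, 1, 1]]

theorem matWords1_ok : (matWords1.all fun w => (w.all fun g => Nat.blt g 8) && beqL (evalP 133 matGens w) (idP 133)) = true := by
  decide +kernel

/-- Words to check. -/
def matWords2 : List (List ℕ) := [[4, 3, 1, 3, 1, 3, 3, 3, 4, 2, 2, 2, 0, 2, 0, 2, 0, 3, 1, 3, 1, 3, 3, 3, 4, 2, 2, 2, 0, 2, 0, 2, 0, 3, 1, 3, 1, 3, 3, 3, 4, 2, 2, 2, 0, 2, 0, 2, 0]]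

theorem matWords2_ok : (matWords2.all fun w => (w.all fun g => Nat.blt g 8) && beqL (evalP 133 matGens w) (idP 133)) = true := by
  decide +kernel

/-- Words to check. -/
def matWords3 : List (List ℕ) := [[6, 6, 6, 6, 6], [1, 6, 0, 6, 6], [7, 3, 6, 2], [4, 6, 4, 6, 4, 6], [0, 1], [1, 0], [2, 3], [3, 2], [4, 4], [6, 7], [7, 6]]

theorem matWords3_ok : (matWords3.all fun w => (w.all fun g => Nat.blt g 8) && beqL (evalP 133 matGens w) (idP 133)) = true := by
  decide +kernel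

/-- All checked words. -/
def matWords : List (List ℕ) := matWords0 ++ matWords1 ++ matWords2 ++ matWords3

theorem matGens_ok : ((List.range 8).all fun g => okGen 133 (matGens.getD g [])) = true := by
  decide +kernel

theorem mat_id_ok : beqL (idP 133) ((idL 133).map pk) = true := by
  decide +kernel

theorem xx_ne : beqL (evalP 133 matGens [0, 0]) (idP 133) = false := by
  decide +kernel

end CfsgLib.HNxyz
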