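import Cfsg.Prelude.Def_Spor_HN
import Cfsg.Agent.Lib.HNxyz.Letters
import Cfsg.Agent.Lib.HNxyz.MatCheck
import Mathlib.LinearAlgebra.Matrix.GeneralLinearGroup.Defs

/-!
# A representation of degree 133 modulo eleven of the presented Harada–Norton group
-/

set_option autoImplicit false
set_option maxRecDepth 100000
set_option maxHeartbeats 400000
set_option linter.constructorNameAsVariable false

namespace CfsgLib.HNxyz

open Cfsg.Spor ModEleven

attribute [local irreducible] matGens evalP matWords

/-- The letter of a generator. -/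
def genLetter : HN.Gen → ℕ
  | .x => 0
  | .y => 2
  | .z => 4
  | .t => 6

/-- The letter of the inverse of a letter. -/
def invLetter : ℕ → ℕ
  | 0 => 1
  | 2 => 3
  | 4 => 5
  | 6 => 7
  | g => g

/-- The letter of a syllable. -/
def sylLetter (p : HN.Gen × Bool) : ℕ := if p.2 then genLetter p.1 else invLetter (genLetter p.1)

/-- The set of relators. -/
abbrev hnRels : Set (FreeGroup HN.Gen) := coxRelators HN.edges ∪ {r | r ∈ HN.extra}

theorem hn_words :
    ((HN.extra.take 10).map fun r => r.toWord.map sylLetter) = xyzRels ∧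
    ((HN.extra.all fun r => matWords.contains (r.toWord.map sylLetter)) = true) ∧
    (([[0, 1], [1, 0], [2, 3], [3, 2], [4, 4], [6, 7], [7, 6]] : List (List ℕ)).all
      fun w => matWords.contains w) = true := by
  decide +kernel

/-- The matrix of a letter. -/
noncomputable def lm (g : ℕ) : Matrix (Fin 133) (Fin 133) (ZMod 11) := genMat 133 (matGens.getD g [])

theorem lm_five : lm 5 = lm 4 := by
  unfold lm matGens
  simp only [List.getD_cons_succ, List.getD_cons_zero]

theorem mat_hid : idP 133 = (idL 133).map pk := eq_of_beqL mat_id_ok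

theorem matWords_spec {w : List ℕ} (hw : w ∈ matWords) : (w.map lm).prod = 1 := by
  have h : ((w.all fun g => Nat.blt g 8) && beqL (evalP 133 matGens w) (idP 133)) = true := by
    unfold matWords at hw
    simp only [List.mem_append] at hw
    rcases hw with ((hw | hw) | hw) | hw
    · exact List.all_eq_true.1 matWords0_ok w hw
    · exact List.all_eq_true.1 matWords1_ok w hw
    · exact List.all_eq_true.1 matWords2_ok w hw
    · exact List.all_eq_true.1 matWords3_ok w hw
  simp only [Bool.and_eq_true, List.all_eq_true, Nat.blt_eq] at h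
  exact prod_eq_one mat_hid
    (fun g hg => List.all_eq_true.1 matGens_ok g (List.mem_range.2 (h.1 g hg))) h.2

attribute [local irreducible] lm

theorem pair_mul {w : List ℕ}
    (hw : w ∈ ([[0, 1], [1, 0], [2, 3], [3, 2], [4, 4], [6, 7], [7, 6]] : List (List ℕ))) :
    (w.map lm).prod = 1 :=
  matWords_spec (List.contains_iff_mem.1 (List.all_eq_true.1 hn_words.2.2 w hw))

theorem pair_two {g h : ℕ}
    (hw : [g, h] ∈ ([[0, 1], [1, 0], [2, 3], [3, 2], [4, 4], [6, 7], [7, 6]] : List (List ℕ))) :
    lm g * lm h = 1 := by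
  have e := pair_mul hw
  rwa [List.map_cons, List.map_cons, List.map_nil, List.prod_cons, List.prod_cons, List.prod_nil,
    mul_one] at e

theorem lm_inv : ∀ x : HN.Gen,
    lm (genLetter x) * lm (invLetter (genLetter x)) = 1 ∧
      lm (invLetter (genLetter x)) * lm (genLetter x) = 1
  | .x => ⟨pair_two (by simp [genLetter, invLetter]) , pair_two (by simp [genLetter, invLetter])⟩
  | .y => ⟨pair_two (by simp [genLetter, invLetter]), pair_two (by simp [genLetter, invLetter])⟩
  | .z => by
    show lm 4 * lm 5 = 1 ∧ lm 5 * lm 4 = 1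
    rw [lm_five]
    exact ⟨pair_two (by simp [genLetter, invLetter]), pair_two (by simp [genLetter, invLetter])⟩
  | .t => ⟨pair_two (by simp [genLetter, invLetter]), pair_two (by simp [genLetter, invLetter])⟩

/-- The unit of a generator. -/
noncomputable def lu (x : HN.Gen) : (Matrix (Fin 133) (Fin 133) (ZMod 11))ˣ :=
  ⟨lm (genLetter x), lm (invLetter (genLetter x)), (lm_inv x).1, (lm_inv x).2⟩

theorem lift_val (L : List (HN.Gen × Bool)) :
    ((FreeGroup.lift lu (FreeGroup.mk L) : (Matrix (Fin 133) (Fin 133) (ZMod 11))ˣ) :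
        Matrix (Fin 133) (Fin 133) (ZMod 11)) = ((L.map sylLetter).map lm).prod := by
  induction L with
  | nil =>
    rw [← FreeGroup.one_eq_mk, map_one, Units.val_one, List.map_nil, List.map_nil, List.prod_nil]
  | cons p L ih =>
    obtain ⟨x, b⟩ := p
    rw [show FreeGroup.mk ((x, b) :: L) = FreeGroup.mk [(x, b)] * FreeGroup.mk L from rfl, map_mul,
      Units.val_mul, ih, List.map_cons, List.map_cons, List.prod_cons]
    refine congrArg (fun m => m * _) ?_
    cases b
    · rw [show FreeGroup.mk [(x, false)] = (FreeGroup.of x)⁻¹ from rfl, map_inv,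
        FreeGroup.lift_apply_of]
      simp only [lu, sylLetter, Bool.false_eq_true, if_false, Units.inv_mk]
    · rw [show FreeGroup.mk [(x, true)] = FreeGroup.of x from rfl, FreeGroup.lift_apply_of]
      simp only [lu, sylLetter, if_true]

theorem rels_lift : ∀ r ∈ hnRels, FreeGroup.lift lu r = 1 := by
  intro r hr
  have hr' : r ∈ HN.extra := by
    rcases hr with ⟨x, hx, -⟩ | hr
    · exact absurd hx (by simp [coxNodes, HN.edges])
    · exact hr
  refine Units.ext ?_
  rw [← FreeGroup.mk_toWord (x := r), lift_val, Units.val_one]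
  exact matWords_spec (List.contains_iff_mem.1 (List.all_eq_true.1 hn_words.2.1 r hr'))

/-- The representation. -/
noncomputable def rho : Cfsg.Spor.HN →* (Matrix (Fin 133) (Fin 133) (ZMod 11))ˣ :=
  PresentedGroup.toGroup rels_lift

theorem rho_of (x : HN.Gen) : rho (PresentedGroup.of x) = lu x := PresentedGroup.toGroup.of _

/-- The square of x is not trivial. -/
theorem x_sq_ne :
    (PresentedGroup.of HN.Gen.x : Cfsg.Spor.HN) * PresentedGroup.of HN.Gen.x ≠ 1 := by
  intro h
  have h' := congrArg (fun g => (rho g : Matrix (Fin 133) (Fin 133) (ZMod 11))) h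
  simp only [map_mul, rho_of, map_one, Units.val_mul, Units.val_one] at h'
  change lm 0 * lm 0 = 1 at h'
  have hok : ∀ g ∈ ([0, 0] : List ℕ), okGen 133 (matGens.getD g []) = true := fun g hg =>
    List.all_eq_true.1 matGens_ok g (List.mem_range.2 (by simp at hg; omega))
  obtain ⟨e1, e2, e3, e4⟩ := eval_spec matGens mat_hid [0, 0] hok
  have e5 : toMat 133 (evalL 133 matGens [0, 0]) = toMat 133 (idL 133) := by
    rw [e4, toMat_idL, ← h']
    unfold lm
    simp
  have key : evalL 133 matGens [0, 0] = idL 133 := by
    refine List.ext_getElem (by rw [e3]; simp [idL]) fun i h1 h2 => ?_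
    obtain ⟨l1, b1⟩ := e2 _ (List.getElem_mem h1)
    obtain ⟨l2, b2⟩ := idL_good (n := 133) _ (List.getElem_mem h2)
    refine List.ext_getElem (l1.trans l2.symm) fun j j1 j2 => ?_
    have hi : i < 133 := by rw [← e3]; exact h1
    have hj : j < 133 := by rw [← l1]; exact j1
    have e := congrFun (congrFun e5 ⟨i, hi⟩) ⟨j, hj⟩
    simp only [toMat, Matrix.of_apply] at e
    rw [List.getD_eq_getElem _ [] h1, List.getD_eq_getElem _ [] h2, List.getD_eq_getElem _ 0 j1,
      List.getD_eq_getElem _ 0 j2] at e
    have a1 := b1 _ (List.getElem_mem j1)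
    have a2 := b2 _ (List.getElem_mem j2)
    have := congrArg ZMod.val e
    rwa [ZMod.val_natCast, ZMod.val_natCast, Nat.mod_eq_of_lt a1, Nat.mod_eq_of_lt a2] at this
  have := xx_ne
  rw [e1, key, ← mat_hid] at this
  have hb : ∀ l : List ℕ, beqL l l = true := by
    intro l
    induction l with
    | nil => rfl
    | cons a l ih => simp [beqL, ih]
  rw [hb] at this
  exact absurd this (by decide)

/-- The three generators satisfy the relations. -/
theorem hn_xyz : XYZRels (PresentedGroup.of HN.Gen.x : Cfsg.Spor.HN) (PresentedGroup.of HN.Gen.y)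
    (PresentedGroup.of HN.Gen.z) := by
  set a : Cfsg.Spor.HN := PresentedGroup.of HN.Gen.x
  set b : Cfsg.Spor.HN := PresentedGroup.of HN.Gen.y
  set c : Cfsg.Spor.HN := PresentedGroup.of HN.Gen.z
  have hmk : ∀ r ∈ HN.extra, PresentedGroup.mk hnRels r = 1 := fun r hr =>
    PresentedGroup.mk_eq_one_iff.2 (Subgroup.subset_normalClosure (Or.inr hr))
  intro w hw
  obtain ⟨hmap, -, -⟩ := hn_words
  obtain ⟨r, hr, hrw⟩ := List.mem_map.1
    (hmap.symm ▸ hw : w ∈ (HN.extra.take 10).map fun r => r.toWord.map sylLetter)
  have key : ∀ L : List (HN.Gen × Bool), (∀ g ∈ L.map sylLetter, g < 6) →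
      PresentedGroup.mk hnRels (FreeGroup.mk L) = evalW (elt a b c) (L.map sylLetter) := by
    intro L
    induction L with
    | nil => intro _; rw [← FreeGroup.one_eq_mk, map_one]; rfl
    | cons p L ih =>
      intro hL
      obtain ⟨x, s⟩ := p
      rw [show FreeGroup.mk ((x, s) :: L) = FreeGroup.mk [(x, s)] * FreeGroup.mk L from rfl, map_mul,
        ih (fun g hg => hL g (List.mem_cons_of_mem _ hg)), List.map_cons, evalW_cons]
      congr 1
      have hlt := hL (sylLetter (x, s)) List.mem_cons_self
      cases s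
      · rw [show FreeGroup.mk [(x, false)] = (FreeGroup.of x)⁻¹ from rfl, map_inv]
        cases x <;> first | rfl | simp [sylLetter, genLetter, invLetter] at hlt
      · rw [show FreeGroup.mk [(x, true)] = FreeGroup.of x from rfl]
        cases x <;> first | rfl | simp [sylLetter, genLetter] at hlt
  have hlt : ∀ g ∈ r.toWord.map sylLetter, g < 6 := by
    rw [hrw]
    have hall : (xyzRels.all fun v => v.all fun g => Nat.blt g 6) = true := by decide +kernel
    intro g hg
    exact Nat.ble_eq.mp (List.all_eq_true.1 (List.all_eq_true.1 hall w hw) g hg) 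
  have e := key r.toWord hlt
  rw [FreeGroup.mk_toWord, hmk r (List.mem_of_mem_take hr), hrw] at e
  exact e.symm

end CfsgLib.HNxyz
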