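import Cfsg.Agent.Lib.HNxyz.PairedOrbit
import Cfsg.Agent.Lib.HNxyz.CertFour

/-!
# The check of `certFour` (generated)
-/

set_option autoImplicit false
set_option maxRecDepth 100000

namespace CfsgLib.HNxyz

open CfsgLib.PresCert

theorem certFour_shape : shapeOk certFour = true := by decide +kernel

theorem certFour_block0 : Paired.block certFour partner 0 = true := by decide +kernel

theorem certFour_valid : Paired.Valid certFour partner where
  shape := certFour_shape
  slots b hb := by
    have h : 1000 * 1 ≥ certFour.N := by decide
    have hb' : b < 1 := by omega
    interval_cases b
    · exact certFour_block0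

end CfsgLib.HNxyz
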