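import Cfsg.Agent.Lib.HNxyz.PairedOrbit
import Cfsg.Agent.Lib.HNxyz.CertLow

/-!
# The check of `certLow` (generated)
-/

set_option autoImplicit false
set_option maxRecDepth 100000

namespace CfsgLib.HNxyz

open CfsgLib.PresCert

theorem certLow_shape : shapeOk certLow = true := by decide +kernel

theorem certLow_block0 : Paired.block certLow partner 0 = true := by decide +kernel

theorem certLow_valid : Paired.Valid certLow partner where
  shape := certLow_shape
  slots b hb := by
    have h : 1000 * 1 ≥ certLow.N := by decide
    have hb' : b < 1 := by omega
    interval_cases b
    · exact certLow_block0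

/-- The words under which the live nodes are closed. -/
def certLowClosing : List (List ℕ) := [[2], [3], [0, 2, 2, 2, 0], [1, 3, 3, 3, 1], [0, 2, 2, 2, 0, 3], [2, 1, 3, 3, 3, 1], [0, 2, 2, 2, 0], [1, 3, 3, 3, 1]]

theorem certLow_closed0 : closedBlock certLow certLowClosing 0 = true := by decide +kernel

theorem certLow_orbit : OrbitCert certLow certLowClosing where
  valid := certLow_valid
  words := by decide
  closed b hb := by
    have h : 1000 * 1 ≥ certLow.n := by decide
    have hb' : b < 1 := by omega
    interval_cases b
    · exact certLow_closed0

end CfsgLib.HNxyz
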