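import Cfsg.Agent.Lib.HNxyz.PairedOrbit
import Cfsg.Agent.Lib.HNxyz.CertMiddle

/-!
# The check of `certMiddle` (generated)
-/

set_option autoImplicit false
set_option maxRecDepth 100000

namespace CfsgLib.HNxyz

open CfsgLib.PresCert

theorem certMiddle_shape : shapeOk certMiddle = true := by decide +kernel

theorem certMiddle_block0 : Paired.block certMiddle partner 0 = true := by decide +kernel

theorem certMiddle_block1 : Paired.block certMiddle partner 1 = true := by decide +kernel

theorem certMiddle_block2 : Paired.block certMiddle partner 2 = true := by decide +kernel

theorem certMiddle_block3 : Paired.block certMiddle partner 3 = true := by decide +kernel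

theorem certMiddle_block4 : Paired.block certMiddle partner 4 = true := by decide +kernel

theorem certMiddle_block5 : Paired.block certMiddle partner 5 = true := by decide +kernel

theorem certMiddle_block6 : Paired.block certMiddle partner 6 = true := by decide +kernel

theorem certMiddle_block7 : Paired.block certMiddle partner 7 = true := by decide +kernel

theorem certMiddle_block8 : Paired.block certMiddle partner 8 = true := by decide +kernel

theorem certMiddle_block9 : Paired.block certMiddle partner 9 = true := by decide +kernel

theorem certMiddle_block10 : Paired.block certMiddle partner 10 = true := by decide +kernel

theorem certMiddle_block11 : Paired.block certMiddle partner 11 = true := by decide +kernel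

theorem certMiddle_block12 : Paired.block certMiddle partner 12 = true := by decide +kernel

theorem certMiddle_block13 : Paired.block certMiddle partner 13 = true := by decide +kernel

theorem certMiddle_block14 : Paired.block certMiddle partner 14 = true := by decide +kernel

theorem certMiddle_block15 : Paired.block certMiddle partner 15 = true := by decide +kernel

theorem certMiddle_block16 : Paired.block certMiddle partner 16 = true := by decide +kernel

theorem certMiddle_valid : Paired.Valid certMiddle partner where
  shape := certMiddle_shape
  slots b hb := by
    have h : 1000 * 17 ≥ certMiddle.N := by decide
    have hb' : b < 17 := by omega
    interval_cases b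
    · exact certMiddle_block0
    · exact certMiddle_block1
    · exact certMiddle_block2
    · exact certMiddle_block3
    · exact certMiddle_block4
    · exact certMiddle_block5
    · exact certMiddle_block6
    · exact certMiddle_block7
    · exact certMiddle_block8
    · exact certMiddle_block9
    · exact certMiddle_block10
    · exact certMiddle_block11
    · exact certMiddle_block12
    · exact certMiddle_block13
    · exact certMiddle_block14
    · exact certMiddle_block15
    · exact certMiddle_block16

/-- The words under which the live nodes are closed. -/
def certMiddleClosing : List (List ℕ) := [[0], [2]]

theorem certMiddle_closed0 : closedBlock certMiddle certMiddleClosing 0 = true := by decide +kernel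

theorem certMiddle_closed1 : closedBlock certMiddle certMiddleClosing 1 = true := by decide +kernel

theorem certMiddle_closed2 : closedBlock certMiddle certMiddleClosing 2 = true := by decide +kernel

theorem certMiddle_closed3 : closedBlock certMiddle certMiddleClosing 3 = true := by decide +kernel

theorem certMiddle_closed4 : closedBlock certMiddle certMiddleClosing 4 = true := by decide +kernel

theorem certMiddle_closed5 : closedBlock certMiddle certMiddleClosing 5 = true := by decide +kernel

theorem certMiddle_closed6 : closedBlock certMiddle certMiddleClosing 6 = true := by decide +kernel

theorem certMiddle_orbit : OrbitCert certMiddle certMiddleClosing where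
  valid := certMiddle_valid
  words := by decide
  closed b hb := by
    have h : 1000 * 7 ≥ certMiddle.n := by decide
    have hb' : b < 7 := by omega
    interval_cases b
    · exact certMiddle_closed0
    · exact certMiddle_closed1
    · exact certMiddle_closed2
    · exact certMiddle_closed3
    · exact certMiddle_closed4
    · exact certMiddle_closed5
    · exact certMiddle_closed6

end CfsgLib.HNxyz
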