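import Cfsg.Agent.Lib.HNxyz.PairedOrbit
import Cfsg.Agent.Lib.HNxyz.CertTop

/-!
# The check of `certTop` (generated)
-/

set_option autoImplicit false
set_option maxRecDepth 100000

namespace CfsgLib.HNxyz

open CfsgLib.PresCert

theorem certTop_shape : shapeOk certTop = true := by decide +kernel

theorem certTop_block0 : Paired.block certTop partner 0 = true := by decide +kernel

theorem certTop_block1 : Paired.block certTop partner 1 = true := by decide +kernel

theorem certTop_block2 : Paired.block certTop partner 2 = true := by decide +kernel

theorem certTop_block3 : Paired.block certTop partner 3 = true := by decide +kernel

theorem certTop_block4 : Paired.block certTop partner 4 = true := by decide +kernel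

theorem certTop_block5 : Paired.block certTop partner 5 = true := by decide +kernel

theorem certTop_block6 : Paired.block certTop partner 6 = true := by decide +kernel

theorem certTop_block7 : Paired.block certTop partner 7 = true := by decide +kernel

theorem certTop_block8 : Paired.block certTop partner 8 = true := by decide +kernel

theorem certTop_block9 : Paired.block certTop partner 9 = true := by decide +kernel

theorem certTop_block10 : Paired.block certTop partner 10 = true := by decide +kernel

theorem certTop_block11 : Paired.block certTop partner 11 = true := by decide +kernel

theorem certTop_block12 : Paired.block certTop partner 12 = true := by decide +kernel

theorem certTop_block13 : Paired.block certTop partner 13 = true := by decide +kernel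

theorem certTop_valid : Paired.Valid certTop partner where
  shape := certTop_shape
  slots b hb := by
    have h : 1000 * 14 ≥ certTop.N := by decide
    have hb' : b < 14 := by omega
    interval_cases b
    · exact certTop_block0
    · exact certTop_block1
    · exact certTop_block2
    · exact certTop_block3
    · exact certTop_block4
    · exact certTop_block5
    · exact certTop_block6
    · exact certTop_block7
    · exact certTop_block8
    · exact certTop_block9
    · exact certTop_block10
    · exact certTop_block11
    · exact certTop_block12
    · exact certTop_block13

/-- The words under which the live nodes are closed. -/
def certTopClosing : List (List ℕ) := [[0], [2], [4]]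

theorem certTop_closed0 : closedBlock certTop certTopClosing 0 = true := by decide +kernel

theorem certTop_orbit : OrbitCert certTop certTopClosing where
  valid := certTop_valid
  words := by decide
  closed b hb := by
    have h : 1000 * 1 ≥ certTop.n := by decide
    have hb' : b < 1 := by omega
    interval_cases b
    · exact certTop_closed0

end CfsgLib.HNxyz
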