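import Cfsg.Agent.Lib.HNxyz.Letters
import Cfsg.Agent.Lib.HNxyz.CertFourCheck
import Cfsg.Agent.Lib.HNxyz.CertCentralCheck
import Cfsg.Agent.Lib.HNxyz.CertLowCheck
import Cfsg.Agent.Lib.HNxyz.CertMiddleCheck
import Cfsg.Agent.Lib.HNxyz.CertTopCheck

/-!
# The order of a group satisfying the relations in x, y, z
-/

set_option autoImplicit false
set_option maxRecDepth 100000

namespace CfsgLib.HNxyz

open CfsgLib.PresCert

variable {M : Type*} [Group M] {a b c : M}

/-- The first six relators, those in x and y. -/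
def xyRels : List (List ℕ) := xyzRels.take 6

theorem entries_checks :
    entriesOk certFour xyRels [] certFourHints = true ∧
    entriesOk certCentral xyRels [] certCentralHints = true ∧
    entriesOk certLow (xyRels ++ [[0, 0]]) [[2], [3]] certLowHints = true ∧
    entriesOk certMiddle (xyRels ++ [[0, 0]]) certLowClosing certMiddleHints = true ∧
    entriesOk certTop (xyzRels ++ [[0, 0]])
      [[0], [1], [2], [3], [0, 2, 0, 0, 0], [1, 1, 1, 3, 1], [1, 1, 2, 2, 1, 1, 1],
        [0, 0, 0, 3, 3, 0, 0]] certTopHints = true := by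
  decide +kernel

theorem walk_checks :
    endsAt certFour (certFour.rm - 1) (walk certFour (certFour.rm - 1) 0 [0, 0, 0, 0]) 0 = true ∧
    endsAt certCentral (certCentral.rm - 1)
      (walk certCentral (certCentral.rm - 1) 0 [0, 0, 2, 1, 1, 3]) 0 = true := by
  decide +kernel

theorem sizes :
    certFour.ng = 4 ∧ certCentral.ng = 4 ∧ certLow.ng = 4 ∧ certMiddle.ng = 4 ∧ certTop.ng = 6 ∧
    certLow.n = 20 ∧ certMiddle.n = 6300 ∧ certTop.n = 352 := by
  decide +kernel

theorem act_rel (h : XYZRels a b c) {w : List ℕ} (hw : w ∈ xyzRels) : act (gen3 a b c) w = 1 := by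
  rw [act_gen3, h w hw, inv_one]

theorem act_xyRel (h : XYZRels a b c) {w : List ℕ} (hw : w ∈ xyRels) : act (gen3 a b c) w = 1 :=
  act_rel h (List.mem_of_mem_take hw)

theorem pow_four (h : XYZRels a b c) : a * a * a * a = 1 := by
  obtain ⟨e, -⟩ := entries_checks
  have H : Paired.PairHyp certFour partner (gen3 a b c) ((1 : M) : M ⧸ (⊥ : Subgroup M)) :=
    pairHyp_of_entries (fun g hg => gen3_partner a b c g (by rw [sizes.1] at hg; omega))
      (fun w hw => act_xyRel h hw) (fun w hw => absurd hw List.not_mem_nil) e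
  have := eq_one_of_walk certFour_valid H (w := [0, 0, 0, 0]) (by decide) walk_checks.1
  rw [act_gen3, inv_eq_one] at this
  simpa [evalW, elt, mul_assoc] using this

theorem sq_comm_y (h : XYZRels a b c) : a * a * b = b * (a * a) := by
  obtain ⟨-, e, -⟩ := entries_checks
  have H : Paired.PairHyp certCentral partner (gen3 a b c) ((1 : M) : M ⧸ (⊥ : Subgroup M)) :=
    pairHyp_of_entries (fun g hg => gen3_partner a b c g (by rw [sizes.2.1] at hg; omega))
      (fun w hw => act_xyRel h hw) (fun w hw => absurd hw List.not_mem_nil) e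
  have := eq_one_of_walk certCentral_valid H (w := [0, 0, 2, 1, 1, 3]) (by decide) walk_checks.2
  rw [act_gen3, inv_eq_one] at this
  have e' : a * a * b * a⁻¹ * a⁻¹ * b⁻¹ = 1 := by simpa [evalW, elt, mul_assoc] using this
  calc a * a * b = (a * a * b * a⁻¹ * a⁻¹ * b⁻¹) * (b * (a * a)) := by group
    _ = b * (a * a) := by rw [e', one_mul]

theorem z_sq (h : XYZRels a b c) : c * c = 1 := by
  have := h [4, 4] (by decide)
  simpa [evalW, elt] using this

theorem sq_comm_z (h : XYZRels a b c) : a * a * c = c * (a * a) := by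
  have h1 : c * a * c * a = 1 := by
    have := h [4, 0, 4, 0] (by decide)
    simpa [evalW, elt, mul_assoc] using this
  have hc : c⁻¹ = c := inv_eq_of_mul_eq_one_right (z_sq h)
  have h2 : c * a * c = a⁻¹ := eq_inv_of_mul_eq_one_left h1
  have h4 : a⁻¹ * a⁻¹ = a * a := by
    have := pow_four h
    rw [← mul_inv_rev]
    exact inv_eq_of_mul_eq_one_right (by rwa [← mul_assoc])
  calc a * a * c = (c * a * c) * (c * a * c) * c := by rw [h2, h4]
    _ = c * a * (c * c) * a * (c * c) := by group
    _ = c * (a * a) := by rw [z_sq h, mul_one, mul_one, mul_assoc]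

/-- With x an involution the generated group has order at most 352 · 6300 · 120. -/
theorem bound_of_sq (h : XYZRels a b c) (ha : a * a = 1) (htop : Subgroup.closure {a, b, c} = ⊤) :
    Finite M ∧ Nat.card M ≤ 266112000 := by
  obtain ⟨-, -, eL, eM, eT⟩ := entries_checks
  obtain ⟨-, -, gL, gM, gT, nL, nM, nT⟩ := sizes
  have hrel7 : ∀ w ∈ xyzRels ++ [[0, 0]], act (gen3 a b c) w = 1 := by
    intro w hw
    rcases List.mem_append.1 hw with h' | h'
    · exact act_rel h h'
    · rw [List.mem_singleton.1 h', act_gen3, inv_eq_one]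
      simpa [evalW, elt] using ha
  have hrel6 : ∀ w ∈ xyRels ++ [[0, 0]], act (gen3 a b c) w = 1 := fun w hw =>
    hrel7 w (by
      rcases List.mem_append.1 hw with h' | h'
      · exact List.mem_append_left _ (List.mem_of_mem_take h')
      · exact List.mem_append_right _ h')
  -- the powers of y
  have hb6 : b ^ 6 = 1 := by
    have := h [2, 2, 2, 2, 2, 2] (by decide)
    simpa [evalW, elt, pow_succ, mul_assoc] using this
  set Y := Subgroup.zpowers b with hY
  have hYfin : Finite Y := by
    rw [hY]
    exact finite_zpowers.2 (isOfFinOrder_iff_pow_eq_one.2 ⟨6, by norm_num, hb6⟩)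
  have hYcard : Nat.card Y ≤ 6 := by
    rw [hY, Nat.card_zpowers]
    exact orderOf_le_of_pow_eq_one (by norm_num) hb6
  have hY' : ∀ w ∈ ([[2], [3]] : List (List ℕ)), act (gen3 a b c) w ∈ Y := by
    intro w hw
    rw [hY, Subgroup.zpowers_eq_closure]
    refine act_mem_closure a b c fun g hg => ?_
    have : g = 2 ∨ g = 3 := by
      fin_cases hw <;> simp at hg <;> omega
    rcases this with rfl | rfl
    · exact Subgroup.subset_closure rfl
    · exact inv_mem (Subgroup.subset_closure rfl)
  -- the group of y and xy³x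
  obtain ⟨fE, cE⟩ := card_le certLow_orbit (pairHyp_of_entries
    (fun g hg => gen3_partner a b c g (by omega)) hrel6 hY' eL)
  -- the group of x and y
  obtain ⟨fB, cB⟩ := card_le certMiddle_orbit (pairHyp_of_entries
    (K := genGrp certLowClosing (gen3 a b c))
    (fun g hg => gen3_partner a b c g (by omega)) hrel6
    (fun w hw => Subgroup.subset_closure ⟨w, hw, rfl⟩) eM)
  have hB : ∀ g, g < 4 → elt a b c g ∈ genGrp certMiddleClosing (gen3 a b c) := by
    have h0 : a⁻¹ ∈ genGrp certMiddleClosing (gen3 a b c) :=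
      Subgroup.subset_closure ⟨[0], by decide, by simp [act_cons, act_nil, gen3, elt]⟩
    have h2 : b⁻¹ ∈ genGrp certMiddleClosing (gen3 a b c) :=
      Subgroup.subset_closure ⟨[2], by decide, by simp [act_cons, act_nil, gen3, elt]⟩
    intro g hg
    interval_cases g
    · exact inv_mem_iff.1 h0
    · exact h0
    · exact inv_mem_iff.1 h2
    · exact h2
  -- the whole group
  obtain ⟨fP, cP⟩ := card_le certTop_orbit (pairHyp_of_entries
    (K := genGrp certMiddleClosing (gen3 a b c))
    (fun g hg => gen3_partner a b c g (by omega)) hrel7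
    (fun w hw => by
      have hlt : ∀ g ∈ w, g < 4 := by
        fin_cases hw <;> simp
      rw [act_gen3]
      refine inv_mem (Subgroup.list_prod_mem _ fun m hm => ?_)
      obtain ⟨g, hg, rfl⟩ := List.mem_map.1 hm
      exact hB g (hlt g hg)) eT)
  have hfull : genGrp certTopClosing (gen3 a b c) = ⊤ := by
    rw [eq_top_iff, ← htop, Subgroup.closure_le]
    rintro m (rfl | rfl | rfl)
    · exact inv_mem_iff.1 (Subgroup.subset_closure ⟨[0], by decide, by simp [act_cons, act_nil, gen3, elt]⟩)
    · exact inv_mem_iff.1 (Subgroup.subset_closure ⟨[2], by decide, by simp [act_cons, act_nil, gen3, elt]⟩)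
    · exact inv_mem_iff.1 (Subgroup.subset_closure ⟨[4], by decide, by simp [act_cons, act_nil, gen3, elt]⟩)
  rw [hfull] at fP cP
  rw [Subgroup.card_top] at cP
  rw [nL] at cE
  rw [nM] at cB
  rw [nT] at cP
  refine ⟨Finite.of_equiv _ Subgroup.topEquiv.toEquiv, ?_⟩
  calc Nat.card M ≤ _ := cP
    _ ≤ 352 * (6300 * (20 * 6)) := Nat.mul_le_mul_left _ (cB.trans (Nat.mul_le_mul_left _
        (cE.trans (Nat.mul_le_mul_left _ hYcard))))
    _ = 266112000 := by norm_num

/-- Groups generated by elements with the relations are finite of order at most 532224000. -/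
theorem bound (h : XYZRels a b c) (htop : Subgroup.closure {a, b, c} = ⊤) :
    Finite M ∧ Nat.card M ≤ 532224000 := by
  set Z := Subgroup.zpowers (a * a) with hZ
  have hcen : Z ≤ Subgroup.center M := by
    rw [hZ, Subgroup.zpowers_le, Subgroup.mem_center_iff]
    intro g
    have hg : g ∈ Subgroup.closure {a, b, c} := htop ▸ Subgroup.mem_top g
    induction hg using Subgroup.closure_induction with
    | mem g hg =>
      rcases hg with rfl | rfl | rfl
      · rw [mul_assoc]
      · exact (sq_comm_y h).symm
      · exact (sq_comm_z h).symm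
    | one => simp
    | mul g g' _ _ e e' => rw [mul_assoc, e', ← mul_assoc, e, mul_assoc]
    | inv g _ e => exact (Commute.inv_left e).eq
  haveI : Z.Normal := ⟨fun n hn g => by
    rw [Subgroup.mem_center_iff.1 (hcen hn) g, mul_inv_cancel_right]
    exact hn⟩
  have hsq : (a * a) ^ 2 = 1 := by rw [pow_two, ← mul_assoc, pow_four h]
  have hZfin : Finite Z := by
    rw [hZ]
    exact finite_zpowers.2 (isOfFinOrder_iff_pow_eq_one.2 ⟨2, by norm_num, hsq⟩)
  have hZcard : Nat.card Z ≤ 2 := by
    rw [hZ, Nat.card_zpowers]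
    exact orderOf_le_of_pow_eq_one (by norm_num) hsq
  let q := QuotientGroup.mk' Z
  have hqa : q a * q a = 1 := by
    rw [← map_mul]
    exact (QuotientGroup.eq_one_iff _).2 (Subgroup.mem_zpowers _)
  have hqtop : Subgroup.closure {q a, q b, q c} = ⊤ := by
    have e : (Subgroup.closure {a, b, c}).map q = ⊤ := by
      rw [htop]
      exact Subgroup.map_top_of_surjective q (QuotientGroup.mk'_surjective Z)
    rwa [MonoidHom.map_closure, Set.image_insert_eq, Set.image_insert_eq,
      Set.image_singleton] at e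
  obtain ⟨fQ, cQ⟩ := bound_of_sq (h.map q) hqa hqtop
  refine ⟨Finite.of_equiv _ (Subgroup.groupEquivQuotientProdSubgroup (s := Z)).symm, ?_⟩
  rw [Subgroup.card_eq_card_quotient_mul_card_subgroup Z]
  calc Nat.card (M ⧸ Z) * Nat.card Z ≤ 266112000 * 2 := Nat.mul_le_mul cQ hZcard
    _ = 532224000 := by norm_num

end CfsgLib.HNxyz
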