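import Mathlib.Data.List.Basic

/-!
# The three permutations of the hundred points (generated)
-/

set_option autoImplicit false

namespace CfsgLib.HNxyz

/-- The permutations of the six letters, eight bits for each image. -/
def permCodes : List ℕ :=
  [0x62633d040d121448564c5013315b1e0e36403e59460c075a433f0f5c3c4f3a284b112c524a51614722452f2a32531d030b3757213905084124381c441a00182b1b3b300201553529232717251910095d585e421649545f4e3306152d4d0a2e6034201f26,
   0x62633d040d121448564c5013315b1e0e36403e59460c075a433f0f5c3c4f3a284b112c524a51614722452f2a32531d030b3757213905084124381c441a00182b1b3b300201553529232717251910095d585e421649545f4e3306152d4d0a2e6034201f26,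
   0x4943455f4b42633f404d6246614447414e484a604c281b4f33225d2d1f533b2a3c275a1a19541e3d37212958242c31503432231d1c52362e563a20385e2f305751352b55395925263e5c5b17180f1016031112150c14090a070e04050108060d0b130200,
   0x5d5957506027491a19411e38242b203e462e23344c535a4f5f51635255586156625e545b5c1b3c43452a1f283b2d22334b323525262c48362144394e421c1d37314a3a29473d302f4d403f171814100e02111215160a040f030c0d060b05080913010700,
   0x626361605f545d52564f5058575b515e535c55595a424d46433f4940444c45474b4e41484a1e3d28223a1c2332361d2e2d3731212934332c241b2f3c1a26182b383b30201f3e35392a27192517100914130e0c160f120d110806150b070a030405020100,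
   0x626361605f545d52564f5058575b515e535c55595a424d46433f4940444c45474b4e41484a1e3d28223a1c2332361d2e2d3731212934332c241b2f3c1a26182b383b30201f3e35392a27192517100914130e0c160f120d110806150b070a030405020100]

/-- Transpositions giving a letter. -/
def swapsX : List (ℕ × ℕ) :=
  [(0, 38), (1, 31), (2, 32), (3, 52), (4, 96), (5, 46), (6, 10), (7, 77), (8, 45), (9, 21), (11, 51), (12, 78), (13, 95), (14, 84), (15, 73), (16, 22), (17, 66), (18, 94), (19, 88), (20, 93), (23, 25), (24, 37), (26, 39), (27, 35), (28, 41), (29, 53), (30, 85), (33, 48), (34, 59), (36, 43), (40, 68), (42, 56), (44, 65), (47, 57), (49, 87), (50, 55), (54, 83), (58, 69), (60, 71), (61, 97), (62, 81), (63, 74), (64, 82), (67, 75), (70, 79), (72, 92), (76, 90), (80, 89), (86, 91), (98, 99)]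

/-- Transpositions giving a letter. -/
def swapsY : List (ℕ × ℕ) :=
  [(1, 2), (2, 19), (3, 11), (4, 13), (5, 6), (6, 8), (7, 19), (9, 13), (10, 14), (11, 19), (12, 14), (14, 20), (15, 20), (16, 21), (17, 18), (20, 22), (23, 24), (25, 91), (26, 92), (27, 62), (28, 38), (29, 37), (30, 89), (31, 57), (32, 85), (33, 43), (34, 53), (35, 81), (36, 87), (37, 48), (38, 47), (39, 94), (40, 56), (41, 85), (42, 58), (43, 86), (44, 46), (45, 54), (46, 82), (49, 81), (51, 52), (52, 80), (53, 81), (54, 82), (55, 87), (56, 88), (57, 85), (58, 86), (59, 87), (60, 61), (61, 89), (62, 84), (63, 91), (64, 92), (65, 90), (66, 94), (67, 89), (68, 86), (69, 87), (70, 83), (71, 85), (72, 82), (73, 93), (74, 81), (75, 80), (76, 79), (77, 84), (78, 88), (80, 96), (83, 88), (84, 90), (87, 97), (89, 98), (91, 92), (93, 99), (95, 96)]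

/-- Transpositions giving a letter. -/
def swapsZ : List (ℕ × ℕ) :=
  [(3, 5), (6, 10), (8, 11), (9, 21), (12, 17), (14, 18), (16, 22), (24, 37), (26, 39), (27, 42), (28, 57), (29, 53), (30, 62), (33, 48), (34, 59), (35, 56), (36, 43), (40, 60), (41, 47), (45, 51), (46, 52), (50, 55), (63, 74), (64, 72), (66, 78), (67, 75), (68, 71), (70, 76), (79, 90), (80, 89), (81, 85), (82, 92), (84, 94), (86, 91), (98, 99)]

/-- Words for the two generators of the simple group. -/
def baseWords : List (List ℕ) :=
  [[2, 0, 2, 4, 3, 3, 0, 3, 4, 3, 0, 2, 2, 2, 4, 3, 0, 2, 4, 2, 2],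
   [0, 3, 0, 4, 2, 2, 2, 0, 4, 3, 0, 3, 4, 3, 0, 4, 2]]

end CfsgLib.HNxyz
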