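import Cfsg.Agent.Lib.HNxyz.Letters
import Cfsg.Agent.Lib.HNxyz.PermData
import Cfsg.Agent.Lib.Tails.HSCover

/-!
# Three permutations of the hundred points satisfying the relations
-/

set_option autoImplicit false
set_option maxRecDepth 100000
set_option maxHeartbeats 400000

namespace CfsgLib.HNxyz

open CfsgLib.Golay CfsgLib.TailsData

/-- The coded permutations. -/
noncomputable abbrev pops : Bsgs.Ops (Equiv.Perm (Fin 100)) (Fin 100) := CfsgLib.Schur.Tails.HS.ops

/-- The code of a letter. -/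
def codeOf (g : ℕ) : ℕ := permCodes.getD g 0

/-- The permutation of a code. -/
noncomputable abbrev pmOf (A : ℕ) : Equiv.Perm (Fin 100) := pops.val A

theorem pmOf_eq (A : ℕ) : pmOf A = permOf (Equiv.refl (Fin 100)) (PackPerm.toL 100 A) := rfl

/-- The image of x. -/
noncomputable def px : Equiv.Perm (Fin 100) := pmOf (codeOf 0)

/-- The image of y. -/
noncomputable def py : Equiv.Perm (Fin 100) := pmOf (codeOf 2)

/-- The image of z. -/
noncomputable def pz : Equiv.Perm (Fin 100) := pmOf (codeOf 4)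

/-- The code of a word. -/
noncomputable def codeW : List ℕ → ℕ
  | [] => pops.one
  | g :: w => pops.mul (codeOf g) (codeW w)

theorem code_checks :
    ((List.range 6).all fun g => pops.ok (codeOf g)) = true ∧
    pops.mul (codeOf 0) (codeOf 1) = pops.one ∧
    pops.mul (codeOf 2) (codeOf 3) = pops.one ∧
    pops.mul (codeOf 4) (codeOf 5) = pops.one ∧
    (xyzRels.all fun w => (w.all fun g => Nat.blt g 6) &&
      Nat.beq (codeW w) (pops.one)) = true ∧
    (baseWords.all fun w => w.all fun g => Nat.blt g 6) = true ∧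
    baseWords.map codeW = hsBase ∧
    ([0, 2, 4].all fun g => HS.autOk (PackPerm.toL 100 (codeOf g))) = true ∧
    ((List.range 100).all fun i => Nat.beq i 0 || !(Nat.beq (PackPerm.getP (codeOf 2) i) i &&
      Nat.beq (PackPerm.getP (codeW [0, 2, 2, 2, 0]) i) i)) = true ∧
    PackPerm.getP (codeOf 2) 0 = 0 ∧ PackPerm.getP (codeW [0, 2, 2, 2, 0]) 0 = 0 := by
  decide +kernel

theorem codeOf_ok {g : ℕ} (hg : g < 6) : pops.ok (codeOf g) = true :=
  List.all_eq_true.1 code_checks.1 g (List.mem_range.2 hg)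

/-- The two notations for the permutation of a code. -/
theorem pmOf_apply {A : ℕ} (hA : pops.ok A = true) (i : Fin 100) :
    (pmOf A i).val = PackPerm.getP A i.val :=
  CfsgLib.Schur.Tails.HS.permC_apply (n := 100) hA i

theorem pmOf_one : pmOf (pops.one) = 1 := pops.val_one

theorem pmOf_mul {A B : ℕ} (hA : pops.ok A = true) (hB : pops.ok B = true) :
    pmOf (pops.mul A B) = pmOf A * pmOf B := pops.val_mul A B hA hB

theorem pmOf_inv {A B : ℕ} (hA : pops.ok A = true) (hB : pops.ok B = true)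
    (h : pops.mul A B = pops.one) : (pmOf A)⁻¹ = pmOf B :=
  inv_eq_of_mul_eq_one_right (by rw [← pmOf_mul hA hB, h, pmOf_one])

theorem elt_code {g : ℕ} (hg : g < 6) : elt px py pz g = pmOf (codeOf g) := by
  obtain ⟨-, h1, h3, h5, -⟩ := code_checks
  interval_cases g
  · rfl
  · exact pmOf_inv (codeOf_ok (by norm_num)) (codeOf_ok (by norm_num)) h1
  · rfl
  · exact pmOf_inv (codeOf_ok (by norm_num)) (codeOf_ok (by norm_num)) h3
  · rfl
  · exact pmOf_inv (codeOf_ok (by norm_num)) (codeOf_ok (by norm_num)) h5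

theorem codeW_spec : ∀ {w : List ℕ}, (∀ g ∈ w, g < 6) →
    pops.ok (codeW w) = true ∧ pmOf (codeW w) = evalW (elt px py pz) w
  | [], _ => ⟨pops.ok_one, pmOf_one⟩
  | g :: w, h => by
    obtain ⟨e1, e2⟩ := codeW_spec fun a ha => h a (List.mem_cons_of_mem _ ha)
    have hg := h g List.mem_cons_self
    refine ⟨pops.ok_mul _ _ (codeOf_ok hg) e1, ?_⟩
    rw [codeW, pmOf_mul (codeOf_ok hg) e1, e2, evalW_cons, elt_code hg]

theorem perm_rels : XYZRels px py pz := by
  intro w hw
  obtain ⟨-, -, -, -, h, -⟩ := code_checks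
  have := List.all_eq_true.1 h w hw
  simp only [Bool.and_eq_true, List.all_eq_true, Nat.blt_eq, Nat.beq_eq] at this
  rw [← (codeW_spec this.1).2, this.2, pmOf_one]

theorem mem_graph : px ∈ HS.graphAut ∧ py ∈ HS.graphAut ∧ pz ∈ HS.graphAut := by
  obtain ⟨-, -, -, -, -, -, -, h, -⟩ := code_checks
  simp only [List.all_eq_true, List.mem_cons, List.not_mem_nil, or_false] at h
  refine ⟨?_, ?_, ?_⟩
  · rw [px, pmOf_eq]; exact HS.permOf_mem (h 0 (Or.inl rfl))
  · rw [py, pmOf_eq]; exact HS.permOf_mem (h 2 (Or.inr (Or.inl rfl)))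
  · rw [pz, pmOf_eq]; exact HS.permOf_mem (h 4 (Or.inr (Or.inr rfl)))

/-- The product of listed transpositions. -/
def swapProd (L : List (ℕ × ℕ)) : Equiv.Perm (Fin 100) :=
  (L.map fun p => Equiv.swap (Fin.ofNat 100 p.1) (Fin.ofNat 100 p.2)).prod

theorem swap_checks :
    (∀ i : Fin 100, (swapProd swapsX i).val = PackPerm.getP (codeOf 0) i.val) ∧
    (∀ i : Fin 100, (swapProd swapsY i).val = PackPerm.getP (codeOf 2) i.val) ∧
    (∀ i : Fin 100, (swapProd swapsZ i).val = PackPerm.getP (codeOf 4) i.val) := by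
  refine ⟨?_, ?_, ?_⟩ <;> decide +kernel

theorem swap_shapes :
    (∀ p ∈ swapsX, Fin.ofNat 100 p.1 ≠ Fin.ofNat 100 p.2) ∧ swapsX.length = 50 ∧
    (∀ p ∈ swapsY, Fin.ofNat 100 p.1 ≠ Fin.ofNat 100 p.2) ∧ swapsY.length = 76 ∧
    (∀ p ∈ swapsZ, Fin.ofNat 100 p.1 ≠ Fin.ofNat 100 p.2) ∧ swapsZ.length = 35 := by
  decide +kernel

theorem sign_swapProd {L : List (ℕ × ℕ)} (hne : ∀ p ∈ L, Fin.ofNat 100 p.1 ≠ Fin.ofNat 100 p.2) :
    Equiv.Perm.sign (swapProd L) = (-1) ^ L.length := by
  rw [swapProd, map_list_prod, List.prod_eq_pow_card _ (-1)]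
  · rw [List.length_map, List.length_map]
  · intro u hu
    obtain ⟨g, hg, rfl⟩ := List.mem_map.1 hu
    obtain ⟨p, hp, rfl⟩ := List.mem_map.1 hg
    exact Equiv.Perm.sign_swap (hne p hp)

theorem eq_swapProd {A : ℕ} (hA : pops.ok A = true) {L : List (ℕ × ℕ)}
    (h : ∀ i : Fin 100, (swapProd L i).val = PackPerm.getP A i.val) : pmOf A = swapProd L :=
  Equiv.ext fun i => Fin.ext (by rw [h i]; exact pmOf_apply hA i)

theorem px_mem : px ∈ HS.hsGroup := by
  refine HS.mem_hsGroup.2 ⟨mem_graph.1, ?_⟩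
  rw [px, eq_swapProd (codeOf_ok (by norm_num)) swap_checks.1,
    sign_swapProd swap_shapes.1, swap_shapes.2.1]
  decide

theorem py_mem : py ∈ HS.hsGroup := by
  refine HS.mem_hsGroup.2 ⟨mem_graph.2.1, ?_⟩
  rw [py, eq_swapProd (codeOf_ok (by norm_num)) swap_checks.2.1,
    sign_swapProd swap_shapes.2.2.1, swap_shapes.2.2.2.1]
  decide

theorem pz_not_mem : pz ∉ HS.hsGroup := by
  intro h
  have := (HS.mem_hsGroup.1 h).2
  rw [pz, eq_swapProd (codeOf_ok (by norm_num)) swap_checks.2.2,
    sign_swapProd swap_shapes.2.2.2.2.1, swap_shapes.2.2.2.2.2] at this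
  exact absurd this (by decide)

theorem hs_le_closure : HS.hsGroup ≤ Subgroup.closure {px, py, pz} := by
  rw [← CfsgLib.Schur.Tails.HS.range_proj]
  rintro _ ⟨⟨g, hg⟩, rfl⟩
  show g.1 ∈ Subgroup.closure {px, py, pz}
  induction hg using Subgroup.closure_induction with
  | mem g hg =>
    obtain ⟨i, hi, rfl⟩ := hg
    show pmOf (CfsgLib.Schur.Tails.HS.baseC i) ∈ _
    obtain ⟨-, -, -, -, -, hlt, hmap, -⟩ := code_checks
    have hi' : i < baseWords.length := by
      rw [← List.length_map codeW, hmap, CfsgLib.Schur.Tails.HS.base_ok.2]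
      exact hi
    have e : CfsgLib.Schur.Tails.HS.baseC i = codeW baseWords[i] := by
      rw [CfsgLib.Schur.Tails.HS.baseC, ← hmap, List.getD_eq_getElem _ _ (by simpa using hi'),
        List.getElem_map]
    have hw : ∀ g ∈ baseWords[i], g < 6 := by
      simp only [List.all_eq_true, Nat.blt_eq] at hlt
      exact hlt _ (List.getElem_mem hi')
    rw [e, (codeW_spec hw).2]
    refine Subgroup.list_prod_mem _ fun m hm => ?_
    obtain ⟨g, hg, rfl⟩ := List.mem_map.1 hm
    have hg6 := hw g hg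
    interval_cases g
    · exact Subgroup.subset_closure (show px ∈ ({px, py, pz} : Set _) by simp)
    · exact inv_mem (Subgroup.subset_closure (show px ∈ ({px, py, pz} : Set _) by simp))
    · exact Subgroup.subset_closure (show py ∈ ({px, py, pz} : Set _) by simp)
    · exact inv_mem (Subgroup.subset_closure (show py ∈ ({px, py, pz} : Set _) by simp))
    · exact Subgroup.subset_closure (show pz ∈ ({px, py, pz} : Set _) by simp)
    · exact inv_mem (Subgroup.subset_closure (show pz ∈ ({px, py, pz} : Set _) by simp))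
  | one => exact one_mem _
  | mul a b _ _ ha hb => exact mul_mem ha hb
  | inv a _ ha => exact inv_mem ha

/-- A permutation commuting with the group is trivial. -/
theorem centralises_trivial {f : Equiv.Perm (Fin 100)} (h : ∀ g ∈ HS.hsGroup, f * g = g * f) : f = 1 := by
  obtain ⟨-, -, -, -, -, -, -, -, hfix, h2, ht⟩ := code_checks
  have hlt : ∀ g ∈ ([0, 2, 2, 2, 0] : List ℕ), g < 6 := by decide
  obtain ⟨okt, et⟩ := codeW_spec hlt
  have htmem : pmOf (codeW [0, 2, 2, 2, 0]) ∈ HS.hsGroup := by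
    rw [et]
    simp only [evalW, List.map_cons, List.map_nil, List.prod_cons, List.prod_nil, mul_one, elt]
    exact mul_mem px_mem (mul_mem py_mem (mul_mem py_mem (mul_mem py_mem px_mem)))
  have key : ∀ {A : ℕ}, pops.ok A = true → pmOf A ∈ HS.hsGroup →
      PackPerm.getP A 0 = 0 → PackPerm.getP A (f 0).val = (f 0).val := by
    intro A hA hm h0
    have e0 : pmOf A 0 = 0 :=
      Fin.ext ((pmOf_apply hA 0).trans h0)
    have e := congrArg (fun q : Equiv.Perm (Fin 100) => q 0) (h _ hm)
    simp only [Equiv.Perm.mul_apply, e0] at e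
    rw [← pmOf_apply hA, ← e]
  have k1 := key (codeOf_ok (by norm_num)) py_mem h2
  have k2 := key okt htmem ht
  have f0 : f 0 = 0 := by
    simp only [List.all_eq_true, List.mem_range, Bool.or_eq_true, Bool.not_eq_true',
      Nat.beq_eq] at hfix
    rcases hfix (f 0).val (f 0).isLt with e | e
    · exact Fin.ext e
    · rw [k1, k2] at e
      simp at e
  haveI := HS.hs_pretransitive
  refine Equiv.ext fun i => ?_
  obtain ⟨g, hg⟩ := MulAction.exists_smul_eq HS.hsGroup (0 : Fin 100) i
  have hg' : g.val 0 = i := hg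
  have e := congrArg (fun q : Equiv.Perm (Fin 100) => q 0) (h _ g.2)
  simp only [Equiv.Perm.mul_apply, f0, hg'] at e
  simpa using e

end CfsgLib.HNxyz
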