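import Cfsg.Prelude.Def_SporadicB
import Cfsg.Agent.Lib.HNxyz.Bound
import Cfsg.Agent.Lib.HNxyz.Perms
import Cfsg.Agent.Lib.Tails.HSThm

/-!
# Groups with the relations that map onto the automorphism group of the graph on hundred points

Such a group has a normal subgroup of index two which is a double cover of the simple group.
-/

set_option autoImplicit false
set_option maxRecDepth 100000
set_option linter.style.haveILetI false

namespace CfsgLib.HNxyz

open CfsgLib.Golay Subgroup
open scoped commutatorElement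

theorem px_sq_code : pops.mul (codeOf 0) (codeOf 0) = pops.one := by decide +kernel

theorem px_sq : px * px = 1 := by
  rw [px, ← pmOf_mul (codeOf_ok (by norm_num)) (codeOf_ok (by norm_num)), px_sq_code, pmOf_one]

theorem hs_center : Subgroup.center ↥HS.hsGroup = ⊥ := by
  have := HS.hs_simple
  refine (IsSimpleGroup.eq_bot_or_eq_top_of_normal (center ↥HS.hsGroup) inferInstance).resolve_right
    fun h => ?_
  have hp := CfsgLib.Schur.Tails.HS.hs_perfect
  rw [show commutator ↥HS.hsGroup = ⊥ from (commutator_eq_bot_iff_center_eq_top _).2 h] at hp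
  have h1 := congrArg (fun K : Subgroup ↥HS.hsGroup => Nat.card K) hp
  simp only [card_bot, card_top, HS.card_hsGroup] at h1
  norm_num at h1

/-- A perfect group of order at most six is trivial. -/
theorem card_one_of_perfect {G : Type*} [Group G] [Finite G] (hG : commutator G = ⊤)
    (hc : Nat.card G ≤ 6) : Nat.card G = 1 := by
  by_contra hne
  have hpos : 0 < Nat.card G := Nat.card_pos
  have hcomm : ∀ {Q : Type _} [Group Q] (q : G →* Q), (∀ u v : Q, u * v = v * u) → ∀ g, q g = 1 := by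
    intro Q _ q hQ g
    have hg : g ∈ commutator G := hG ▸ mem_top g
    have hle : commutator G ≤ q.ker := by
      rw [_root_.commutator_def, commutator_le]
      intro u _ v _
      rw [MonoidHom.mem_ker, map_commutatorElement, commutatorElement_eq_one_iff_mul_comm]
      exact hQ _ _
    exact hle hg
  have hab : (∀ u v : G, u * v = v * u) → False := fun h =>
    hne (Nat.card_eq_one_iff_unique.2
      ⟨⟨fun u v => (hcomm (MonoidHom.id G) h u).trans (hcomm (MonoidHom.id G) h v).symm⟩, inferInstance⟩)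
  have hprime : ∀ p : ℕ, p.Prime → Nat.card G = p → False := fun p hp he => by
    haveI := Fact.mk hp
    have := isCyclic_of_prime_card he
    exact hab fun u v => (IsCyclic.commGroup (α := G)).mul_comm u v
  have hcases : Nat.card G = 2 ∨ Nat.card G = 3 ∨ Nat.card G = 4 ∨ Nat.card G = 5 ∨ Nat.card G = 6 := by
    omega
  rcases hcases with h | h | h | h | h
  · exact hprime 2 Nat.prime_two h
  · exact hprime 3 Nat.prime_three h
  · haveI := Fact.mk Nat.prime_two
    exact hab fun u v => IsPGroup.commutative_of_card_eq_prime_sq (p := 2) (by rw [h]; rfl) u v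
  · exact hprime 5 (by norm_num) h
  · haveI := Fact.mk Nat.prime_three
    obtain ⟨g, hg⟩ := exists_prime_orderOf_dvd_card' (G := G) 3 (by rw [h]; norm_num)
    have hi : (zpowers g).index = 2 := by
      have := (zpowers g).card_mul_index
      rw [Nat.card_zpowers, hg, h] at this
      omega
    haveI := normal_of_index_eq_two hi
    haveI := Fact.mk Nat.prime_two
    have := isCyclic_of_prime_card (p := 2) (α := G ⧸ zpowers g) hi
    have hall : ∀ u : G, u ∈ zpowers g := fun u => (QuotientGroup.eq_one_iff u).1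
      (hcomm (QuotientGroup.mk' (zpowers g))
        (fun u v => (IsCyclic.commGroup (α := G ⧸ zpowers g)).mul_comm u v) u)
    rw [show zpowers g = ⊤ from (eq_top_iff' _).2 hall, index_top] at hi
    exact absurd hi (by norm_num)

/-- The situation: generators with the relations and a map onto the permutations. -/
structure Data (M : Type) [Group M] where
  /-- the first generator -/
  a : M
  /-- the second generator -/
  b : M
  /-- the third generator -/
  c : M
  rels : XYZRels a b c
  top : closure {a, b, c} = ⊤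
  /-- the map -/
  φ : M →* Equiv.Perm (Fin 100)
  map_a : φ a = px
  map_b : φ b = py
  map_c : φ c = pz
  sq_ne : a * a ≠ 1

namespace Data

variable {M : Type} [Group M] (D : Data M)

theorem finite (D : Data M) : Finite M := (bound D.rels D.top).1

theorem range_eq : D.φ.range = HS.graphAut := by
  have hr : D.φ.range = closure {px, py, pz} := by
    rw [MonoidHom.range_eq_map, ← D.top, MonoidHom.map_closure, Set.image_insert_eq,
      Set.image_insert_eq, Set.image_singleton, D.map_a, D.map_b, D.map_c]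
  have hle : D.φ.range ≤ HS.graphAut := by
    rw [hr, closure_le]
    rintro p (rfl | rfl | rfl)
    · exact mem_graph.1
    · exact mem_graph.2.1
    · exact mem_graph.2.2
  have hge : HS.hsGroup ≤ D.φ.range := hr ▸ hs_le_closure
  refine eq_of_le_of_card_ge hle ?_
  obtain ⟨k, hk⟩ := card_dvd_of_le hge
  have hd := card_dvd_of_le hle
  rw [hk, HS.card_hsGroup, HS.card_graphAut, show (88704000 : ℕ) = 44352000 * 2 from rfl] at hd
  have hk2 : k ∣ 2 := (mul_dvd_mul_iff_left (show (44352000 : ℕ) ≠ 0 by norm_num)).1 hd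
  rcases (Nat.dvd_prime Nat.prime_two).1 hk2 with rfl | rfl
  · exfalso
    have he : HS.hsGroup = D.φ.range := eq_of_le_of_card_ge hge (by rw [hk, mul_one])
    exact pz_not_mem (he ▸ ⟨D.c, D.map_c⟩)
  · rw [hk, HS.card_hsGroup, HS.card_graphAut]

/-- The subgroup of index two. -/
def N : Subgroup M := HS.hsGroup.comap D.φ

theorem index_N : D.N.index = 2 := by
  have hle : HS.hsGroup ≤ D.φ.range := D.range_eq ▸ fun g hg => (HS.mem_hsGroup.1 hg).1
  have h : Nat.card (HS.hsGroup.subgroupOf D.φ.range) * (HS.hsGroup.subgroupOf D.φ.range).index =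
      Nat.card D.φ.range := card_mul_index _
  rw [Nat.card_congr (subgroupOfEquivOfLe hle).toEquiv, HS.card_hsGroup, D.range_eq,
    HS.card_graphAut] at h
  rw [N, index_comap, relIndex]
  rw [D.range_eq]
  omega

theorem normal_N : D.N.Normal := normal_of_index_eq_two D.index_N

theorem mem_a : D.a ∈ D.N := by rw [N, mem_comap, D.map_a]; exact px_mem

theorem mem_b : D.b ∈ D.N := by rw [N, mem_comap, D.map_b]; exact py_mem

theorem not_mem_c : D.c ∉ D.N := by rw [N, mem_comap, D.map_c]; exact pz_not_mem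

theorem ker_le_N : D.φ.ker ≤ D.N := fun g hg => by
  rw [N, mem_comap, MonoidHom.mem_ker.1 hg]
  exact one_mem _

theorem card_ker : Nat.card D.φ.ker ≤ 6 := by
  have h := card_eq_card_quotient_mul_card_subgroup D.φ.ker
  rw [Nat.card_congr (QuotientGroup.quotientKerEquivRange D.φ).toEquiv, D.range_eq,
    HS.card_graphAut] at h
  have := (bound D.rels D.top).2
  omega

theorem relations_abelian {Q : Type*} [Group Q] {A B C : Q} (h : XYZRels A B C)
    (hAB : Commute A B) : A = 1 ∧ B = 1 ∧ C * C = 1 := by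
  have r1 := h _ (show [2, 2, 2, 2, 2, 2] ∈ xyzRels by decide)
  have r2 := h _ (show [0, 0, 2, 0, 0, 3] ∈ xyzRels by decide)
  have r4 := h _ (show [1, 2, 2, 0, 2, 2, 2, 1, 2, 2, 0, 2, 2, 2, 1, 2, 2, 0, 2, 2, 2] ∈ xyzRels by
    decide)
  have r5 := h _ (show [0, 2, 0, 2, 0, 2, 0, 2, 0, 2, 0, 2, 0, 2, 0, 2] ∈ xyzRels by decide)
  have r7 := h _ (show [4, 4] ∈ xyzRels by decide)
  have r8 := h _ (show [4, 0, 4, 0] ∈ xyzRels by decide)
  have r10 := h _ (show [4, 3, 1, 3, 1, 3, 3, 3, 4, 2, 2, 2, 0, 2, 0, 2, 0, 3, 1, 3, 1, 3, 3, 3, 4,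
    2, 2, 2, 0, 2, 0, 2, 0, 3, 1, 3, 1, 3, 3, 3, 4, 2, 2, 2, 0, 2, 0, 2, 0] ∈ xyzRels by decide)
  have b6 : B ^ 6 = 1 := by simpa [evalW, elt, pow_succ, mul_assoc] using r1
  have a4 : A ^ 4 = 1 := by
    have : A * (A * (B * (A * (A * B⁻¹)))) = 1 := by simpa [evalW, elt] using r2
    calc A ^ 4 = A * (A * ((B * B⁻¹) * (A * A))) := by simp [pow_succ, mul_assoc]
      _ = A * (A * (B * (A * (A * B⁻¹)))) := by
        congr 2
        rw [mul_assoc, mul_right_inj, ← mul_assoc A A B⁻¹]
        exact ((hAB.mul_left hAB).inv_right).eq.symm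
      _ = 1 := this
  have b15 : (A⁻¹ * (B ^ 2 * (A * B ^ 3))) ^ 3 = 1 := by
    simpa [evalW, elt, pow_succ, mul_assoc] using r4
  have e4 : A⁻¹ * (B ^ 2 * (A * B ^ 3)) = B ^ 5 := by
    rw [← mul_assoc (B ^ 2), ← (hAB.pow_right 2).eq, mul_assoc, inv_mul_cancel_left, ← pow_add]
  rw [e4, ← pow_mul] at b15
  have b3 : B ^ 3 = 1 := by
    rw [show (5 * 3 : ℕ) = 6 + 6 + 3 from rfl, pow_add, pow_add, b6, one_mul, one_mul] at b15
    exact b15
  have ab8 : (A * B) ^ 8 = 1 := by simpa [evalW, elt, pow_succ, mul_assoc] using r5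
  rw [hAB.mul_pow, show (8 : ℕ) = 4 + 4 from rfl, pow_add, a4, one_mul, one_mul] at ab8
  have hB : B = 1 := by
    rw [show (4 + 4 : ℕ) = 3 + 3 + 2 from rfl, pow_add, pow_add, b3, one_mul, one_mul] at ab8
    rwa [show (3 : ℕ) = 2 + 1 from rfl, pow_add, ab8, one_mul, pow_one] at b3
  have hCC : C * C = 1 := by simpa [evalW, elt] using r7
  have hCA : C * (A * (C * A)) = 1 := by simpa [evalW, elt] using r8
  have key : C * ((A * A)⁻¹ * C * (A * A) * A) ^ 3 = 1 := by
    subst hB
    simpa [evalW, elt, pow_succ, mul_assoc] using r10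
  have hAA : (A * A)⁻¹ = A * A := by
    rw [inv_eq_iff_mul_eq_one]
    simpa [pow_succ, mul_assoc] using a4
  have hcac : C * A * C = A⁻¹ := eq_inv_of_mul_eq_one_left (by simpa [mul_assoc] using hCA)
  have hcen : (A * A)⁻¹ * C * (A * A) = C := by
    have e : C * (A * A) * C = (A * A)⁻¹ := by
      calc C * (A * A) * C = (C * A * C) * (C * A * C) := by
            simp only [mul_assoc]; rw [← mul_assoc C C, hCC, one_mul]
        _ = (A * A)⁻¹ := by rw [hcac, mul_inv_rev]
    rw [hAA] at e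
    calc (A * A)⁻¹ * C * (A * A) = (C * (A * A) * C) * C * (A * A) := by rw [e, hAA]
      _ = C * ((A * A) * (A * A)) := by simp only [mul_assoc]; rw [← mul_assoc C C, hCC, one_mul]
      _ = C := by rw [inv_eq_iff_mul_eq_one.1 hAA, mul_one]
  rw [hcen] at key
  refine ⟨?_, hB, hCC⟩
  calc A = C * (C * A) * (C * (A * (C * A))) := by rw [hCA, mul_one, ← mul_assoc, hCC, one_mul]
    _ = C * (C * A) ^ 3 := by simp [pow_succ, mul_assoc]
    _ = 1 := key

theorem perfect : ⁅D.N, D.N⁆ = D.N := by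
  haveI := D.normal_N
  refine le_antisymm (commutator_le_self _) fun n hn => ?_
  set q := QuotientGroup.mk' ⁅D.N, D.N⁆
  have hAB : Commute (q D.a) (q D.b) := by
    rw [commute_iff_eq, ← commutatorElement_eq_one_iff_mul_comm, ← map_commutatorElement]
    exact (QuotientGroup.eq_one_iff _).2 (commutator_mem_commutator D.mem_a D.mem_b)
  obtain ⟨hA, hB, hC⟩ := relations_abelian (D.rels.map q) hAB
  have hall : ∀ m : M, q m = 1 ∨ q m = q D.c := by
    intro m
    have hm : m ∈ closure {D.a, D.b, D.c} := D.top ▸ mem_top m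
    induction hm using closure_induction with
    | mem g hg =>
      rcases hg with rfl | rfl | rfl
      · exact Or.inl hA
      · exact Or.inl hB
      · exact Or.inr rfl
    | one => exact Or.inl (map_one q)
    | mul g g' _ _ e e' =>
      rw [map_mul]
      rcases e with e | e <;> rcases e' with e' | e' <;> rw [e, e'] <;> simp [hC]
    | inv g _ e =>
      rw [map_inv]
      rcases e with e | e <;> rw [e]
      · exact Or.inl inv_one
      · exact Or.inr (inv_eq_of_mul_eq_one_right hC)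
  rcases hall n with e | e
  · exact (QuotientGroup.eq_one_iff n).1 e
  · refine absurd ?_ D.not_mem_c
    have hd : n⁻¹ * D.c ∈ D.N := commutator_le_self _ (QuotientGroup.eq.1 e)
    simpa using mul_mem hn hd

theorem perfect' : commutator ↥D.N = ⊤ :=
  map_injective D.N.subtype_injective <| by
    rw [map_subtype_commutator, D.perfect, ← MonoidHom.range_eq_map, range_subtype]

/-- The map onto the simple group. -/
def σ : ↥D.N →* ↥HS.hsGroup := (D.φ.comp D.N.subtype).codRestrict HS.hsGroup fun n => n.2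

theorem mem_ker_σ {n : ↥D.N} : n ∈ D.σ.ker ↔ D.φ n.1 = 1 := by
  rw [MonoidHom.mem_ker]
  exact Subtype.ext_iff

theorem σ_surjective : Function.Surjective D.σ := by
  rintro ⟨g, hg⟩
  have : g ∈ D.φ.range := D.range_eq ▸ (HS.mem_hsGroup.1 hg).1
  obtain ⟨m, rfl⟩ := this
  exact ⟨⟨m, hg⟩, rfl⟩

theorem card_N : 44352000 ≤ Nat.card D.N := by
  haveI := D.finite
  rw [← HS.card_hsGroup]
  exact Nat.card_le_card_of_surjective D.σ D.σ_surjective

theorem σ_kernel_central : D.σ.ker ≤ center ↥D.N := by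
  haveI := D.finite
  haveI := HS.hs_simple
  let S := D.φ.ker
  let κ : ↥D.N →* Equiv.Perm ↥S :=
    (MulAction.toPermHom (MulAut ↥S) ↥S).comp (MulAut.conjNormal.comp D.N.subtype)
  have hκ : ∀ (n : ↥D.N) (s : ↥S), ((κ n s : ↥S) : M) = n.1 * s.1 * n.1⁻¹ := fun n s => rfl
  have hperm : Nat.card (Equiv.Perm ↥S) ≤ 720 := by
    rw [Nat.card_perm]
    exact (Nat.factorial_le D.card_ker).trans (by decide)
  have hk := card_eq_card_quotient_mul_card_subgroup κ.ker
  rw [Nat.card_congr (QuotientGroup.quotientKerEquivRange κ).toEquiv] at hk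
  have himg : (κ.ker.map D.σ).Normal := Subgroup.Normal.map inferInstance _ D.σ_surjective
  rcases IsSimpleGroup.eq_bot_or_eq_top_of_normal _ himg with h | h
  · exfalso
    have hle : κ.ker ≤ D.σ.ker := (Subgroup.map_eq_bot_iff _).1 h
    have hc : Nat.card κ.ker ≤ 6 := by
      refine le_trans ?_ D.card_ker
      refine Nat.card_le_card_of_injective
        (fun n => (⟨n.1.1, D.mem_ker_σ.1 (hle n.2)⟩ : ↥S)) ?_
      intro u v e
      exact Subtype.ext (Subtype.ext (congrArg (fun s : ↥S => s.1) e))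
    have hr : Nat.card κ.range ≤ 720 := (card_le_card_group _).trans hperm
    have := Nat.mul_le_mul hr hc
    have := D.card_N
    omega
  · have hr : Nat.card κ.range ≤ 6 := by
      refine le_trans ?_ D.card_ker
      refine Nat.card_le_card_of_surjective
        (fun s : ↥S => (⟨κ ⟨s.1, D.ker_le_N s.2⟩, ⟨_, rfl⟩⟩ : ↥κ.range)) ?_
      rintro ⟨_, n, rfl⟩
      obtain ⟨l, hl, hln⟩ := (h ▸ mem_top (D.σ n) : D.σ n ∈ κ.ker.map D.σ)
      have hs : l⁻¹ * n ∈ D.σ.ker := by rw [MonoidHom.mem_ker, map_mul, map_inv, hln, inv_mul_cancel]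
      refine ⟨⟨(l⁻¹ * n).1, D.mem_ker_σ.1 hs⟩, Subtype.ext ?_⟩
      show κ (l⁻¹ * n) = κ n
      rw [map_mul, map_inv, MonoidHom.mem_ker.1 hl, inv_one, one_mul]
    have hp : commutator ↥κ.range = ⊤ := by
      rw [eq_top_iff, ← map_top_of_surjective _ κ.rangeRestrict_surjective, ← D.perfect',
        _root_.commutator_def, _root_.commutator_def, map_commutator]
      exact commutator_mono le_top le_top
    have h1 := card_one_of_perfect hp hr
    intro s hs
    rw [mem_center_iff]
    intro n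
    have hn : κ n = 1 := by
      have := (Nat.card_eq_one_iff_unique.1 h1).1
      exact congrArg Subtype.val (Subsingleton.elim (⟨κ n, ⟨n, rfl⟩⟩ : ↥κ.range) 1)
    have e := hκ n ⟨s.1, D.mem_ker_σ.1 hs⟩
    rw [hn] at e
    refine Subtype.ext ?_
    show n.1 * s.1 = s.1 * n.1
    exact eq_mul_inv_iff_mul_eq.1 e |>.symm

theorem ker_eq : Nat.card D.σ.ker = 2 ∧ D.a * D.a ∈ D.φ.ker := by
  haveI := D.finite
  have hmem : D.a * D.a ∈ D.φ.ker := by rw [MonoidHom.mem_ker, map_mul, D.map_a, px_sq]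
  obtain ⟨-, hdvd⟩ := CfsgLib.Schur.Tails.HS.bound D.σ
    ⟨D.σ_surjective, D.σ_kernel_central, by rw [D.perfect']; exact le_top⟩
  refine ⟨((Nat.dvd_prime Nat.prime_two).1 hdvd).resolve_left fun h => ?_, hmem⟩
  have hs : (⟨D.a * D.a, D.ker_le_N hmem⟩ : ↥D.N) ∈ D.σ.ker := D.mem_ker_σ.2 hmem
  rw [eq_bot_of_card_eq _ h, mem_bot] at hs
  exact D.sq_ne (congrArg Subtype.val hs)

theorem center_eq : center ↥D.N = D.σ.ker := by
  refine le_antisymm (fun n hn => ?_) D.σ_kernel_central
  rw [MonoidHom.mem_ker, ← mem_bot, ← hs_center, mem_center_iff]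
  intro g
  obtain ⟨m, rfl⟩ := D.σ_surjective g
  rw [← map_mul, ← map_mul, mem_center_iff.1 hn m]

theorem double_cover : D.N.Normal ∧ D.N.index = 2 ∧
    Cfsg.IsNonsplitDoubleCover ↥D.N Cfsg.Spor.HS := by
  haveI := D.finite
  refine ⟨D.normal_N, D.index_N, ?_, ?_, ?_⟩
  · rw [D.center_eq]; exact D.ker_eq.1
  · obtain ⟨e⟩ := CfsgLib.Leech.HSVec.sporHS_equiv
    exact ⟨((QuotientGroup.quotientMulEquivOfEq D.center_eq).trans
      (QuotientGroup.quotientKerEquivOfSurjective D.σ D.σ_surjective)).trans e.symm⟩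
  · intro L hL
    have hLtop : L = ⊤ := by
      rw [eq_top_iff, ← D.perfect', _root_.commutator_def, commutator_le]
      intro u _ v _
      have hu : u ∈ center ↥D.N ⊔ L := hL.sup_eq_top.symm ▸ mem_top u
      have hv : v ∈ center ↥D.N ⊔ L := hL.sup_eq_top.symm ▸ mem_top v
      obtain ⟨z, hz, l, hl, rfl⟩ := mem_sup_of_normal_left.1 hu
      obtain ⟨z', hz', l', hl', rfl⟩ := mem_sup_of_normal_left.1 hv
      have e1 : ∀ g, g * z = z * g := mem_center_iff.1 hz
      have e2 : ∀ g, g * z' = z' * g := mem_center_iff.1 hz'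
      have : ⁅z * l, z' * l'⁆ = ⁅l, l'⁆ := by
        simp only [commutatorElement_def, mul_inv_rev]
        calc z * l * (z' * l') * (l⁻¹ * z⁻¹) * (l'⁻¹ * z'⁻¹)
            = z * (l * z') * l' * l⁻¹ * (z⁻¹ * l'⁻¹) * z'⁻¹ := by simp only [mul_assoc]
          _ = z * z' * (l * l' * l⁻¹) * (l'⁻¹ * z⁻¹) * z'⁻¹ := by
            rw [e2 l, ← (Commute.inv_right (e1 l'⁻¹)).eq]
            simp only [mul_assoc]
          _ = z * z' * (l * l' * l⁻¹ * l'⁻¹) * (z⁻¹ * z'⁻¹) := by simp only [mul_assoc]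
          _ = l * l' * l⁻¹ * l'⁻¹ := by
            rw [mul_assoc z z', ← e2 (l * l' * l⁻¹ * l'⁻¹), ← mul_assoc z, ← e1]
            have : z⁻¹ * z'⁻¹ = z'⁻¹ * z⁻¹ := by rw [← mul_inv_rev, ← mul_inv_rev, e1 z']
            rw [this]
            simp [mul_assoc]
      rw [this]
      exact L.mul_mem (L.mul_mem (L.mul_mem hl hl') (L.inv_mem hl)) (L.inv_mem hl')
    have hd := hL.disjoint
    rw [hLtop, disjoint_top] at hd
    have h2 : Nat.card (center ↥D.N) = 2 := by rw [D.center_eq]; exact D.ker_eq.1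
    rw [hd, card_bot] at h2
    exact absurd h2 (by norm_num)

theorem injective {H : Type*} [Group H] (ψ : M →* H) (hψ : ψ (D.a * D.a) ≠ 1)
    (hd : D.φ.ker ⊓ ψ.ker = ⊥) : Function.Injective ψ := by
  haveI := D.finite
  haveI := HS.hs_simple
  haveI := D.normal_N
  rw [← MonoidHom.ker_eq_bot_iff]
  have hKN : ∀ g, g ∈ ψ.ker → g ∈ D.N → g = 1 := by
    let K : Subgroup ↥D.N := ψ.ker.subgroupOf D.N
    have himg : (K.map D.σ).Normal := Subgroup.Normal.map inferInstance _ D.σ_surjective
    rcases IsSimpleGroup.eq_bot_or_eq_top_of_normal _ himg with h | h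
    · intro g hg hgN
      have : (⟨g, hgN⟩ : ↥D.N) ∈ D.σ.ker := (Subgroup.map_eq_bot_iff _).1 h (mem_subgroupOf.2 hg)
      have hg' : g ∈ D.φ.ker ⊓ ψ.ker := ⟨D.mem_ker_σ.1 this, hg⟩
      rwa [hd, mem_bot] at hg'
    · exfalso
      have hle : commutator ↥D.N ≤ K := by
        rw [_root_.commutator_def, commutator_le]
        intro u _ v _
        obtain ⟨k, hk, hku⟩ := (h ▸ mem_top (D.σ u) : D.σ u ∈ K.map D.σ)
        have hs : k⁻¹ * u ∈ D.σ.ker := by
          rw [MonoidHom.mem_ker, map_mul, map_inv, hku, inv_mul_cancel]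
        have hc := mem_center_iff.1 (D.σ_kernel_central hs) v
        show ⁅u, v⁆ ∈ ψ.ker.subgroupOf D.N
        rw [mem_subgroupOf, MonoidHom.mem_ker]
        have hk' : ψ k.1 = 1 := hk
        have hc' := congrArg (fun w : ↥D.N => ψ w.1) hc
        simp only [Subgroup.coe_mul, Subgroup.coe_inv, map_mul, map_inv, hk', inv_one, one_mul] at hc'
        show ψ ⁅u.1, v.1⁆ = 1
        rw [map_commutatorElement, commutatorElement_eq_one_iff_mul_comm]
        exact hc'.symm
      have ha : (⟨D.a, D.mem_a⟩ : ↥D.N) ∈ K := hle (D.perfect' ▸ mem_top _)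
      have ha' : ψ D.a = 1 := ha
      exact hψ (by rw [map_mul, ha', one_mul])
  rw [eq_bot_iff]
  intro k hk
  rw [mem_bot]
  refine hKN k hk (D.ker_le_N ?_)
  rw [MonoidHom.mem_ker]
  refine centralises_trivial fun g hg => ?_
  obtain ⟨⟨n, hn⟩, hσ⟩ := D.σ_surjective ⟨g, hg⟩
  have hng : D.φ n = g := congrArg Subtype.val hσ
  have hcomm : k * n * k⁻¹ * n⁻¹ = 1 := by
    refine hKN _ ?_ ?_
    · rw [mul_assoc, mul_assoc]
      exact mul_mem hk (mul_assoc n k⁻¹ n⁻¹ ▸ (MonoidHom.normal_ker ψ).conj_mem _ (inv_mem hk) n)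
    · exact mul_mem (D.normal_N.conj_mem n hn k) (inv_mem hn)
  have he : k * n = n * k := mul_inv_eq_iff_eq_mul.1 (mul_inv_eq_one.1 hcomm)
  rw [← hng, ← map_mul, ← map_mul, he]

end Data

end CfsgLib.HNxyz
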