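import Mathlib.GroupTheory.Subgroup.Center
import Mathlib.Tactic.Group

/-!
# Central elements in the relations of the last generator of the Harada–Norton group
-/

set_option autoImplicit false

namespace CfsgLib.HNxyz.CentralWord

open Subgroup

variable {E : Type*} [Group E]

theorem comm_of_center {k : E} (hk : k ∈ center E) (g : E) : Commute k g := (mem_center_iff.1 hk g).symm

theorem conj_pow_central {k Y T : E} (hk : k ∈ center E) (h : Y⁻¹ * T * Y = T * k) :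
    ∀ n : ℕ, (Y ^ n)⁻¹ * T * Y ^ n = T * k ^ n
  | 0 => by simp
  | n + 1 => by
    calc (Y ^ (n + 1))⁻¹ * T * Y ^ (n + 1)
        = Y⁻¹ * ((Y ^ n)⁻¹ * T * Y ^ n) * Y := by rw [pow_succ]; group
      _ = Y⁻¹ * T * (k ^ n * Y) := by rw [conj_pow_central hk h n]; group
      _ = (Y⁻¹ * T * Y) * k ^ n := by rw [((comm_of_center hk Y).pow_left n).eq]; group
      _ = T * k ^ (n + 1) := by rw [h, pow_succ', mul_assoc]

/-- The commutator of a lift of t with a lift of y. -/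
theorem comm_eq_one {k Y T : E} (hk : k ∈ center E) (h : Y⁻¹ * T * Y = T * k) (hT : T ^ 5 = 1)
    (hY : Y ^ 6 = 1) : k = 1 := by
  have h5 : k ^ 5 = 1 := by
    have e : (Y⁻¹ * T * Y) ^ 5 = Y⁻¹ * T ^ 5 * Y := by simp [pow_succ, mul_assoc]
    rw [h, ((comm_of_center hk T).symm).mul_pow, hT, one_mul, mul_one, inv_mul_cancel] at e
    exact e
  have h6 := conj_pow_central hk h 6
  rw [hY, inv_one, one_mul, mul_one] at h6
  have h6' : k ^ 6 = 1 := mul_eq_left.1 h6.symm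
  rwa [pow_succ, h5, one_mul] at h6'

/-- The conjugate of a lift of t by a lift of x. -/
theorem conj_eq {k X T : E} (hk : k ∈ center E) (h : X⁻¹ * T * X * T ^ 2 = k)
    (hk5 : T ^ 5 = k ^ 2) : k = 1 := by
  have e : X⁻¹ * T * X = k * (T ^ 2)⁻¹ := by rw [← h]; group
  have e5 : (X⁻¹ * T * X) ^ 5 = X⁻¹ * T ^ 5 * X := by simp [pow_succ, mul_assoc]
  rw [e, (comm_of_center hk _).mul_pow, hk5,
    show X⁻¹ * k ^ 2 * X = k ^ 2 by rw [mul_assoc, ((comm_of_center hk X).pow_left 2).eq]; group,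
    inv_pow, ← pow_mul, show (2 * 5 : ℕ) = 5 * 2 from rfl, pow_mul, hk5, ← pow_mul,
    mul_inv_eq_iff_eq_mul, ← pow_add] at e5
  refine mul_left_cancel (a := k ^ 5) ?_
  rw [mul_one, ← pow_succ]
  exact e5.symm

/-- The square of a lift of z. -/
theorem sq_eq_one {μ Z T : E} (hμ : μ ∈ center E) (hZ : Z ^ 2 = μ) (h : (Z * T) ^ 3 = μ)
    (h' : (Z * T⁻¹) ^ 3 = μ) : μ = 1 := by
  have hZi : Z⁻¹ = Z * μ⁻¹ := by rw [← hZ]; group
  have e : (Z * T⁻¹)⁻¹ = (T * Z) * μ⁻¹ := by rw [mul_inv_rev, inv_inv, hZi, mul_assoc]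
  have e3 : ((T * Z) * μ⁻¹) ^ 3 = μ⁻¹ := by rw [← e, inv_pow, h']
  rw [((comm_of_center (inv_mem hμ) _).symm).mul_pow] at e3
  have c : (T * Z) ^ 3 = μ := by
    have : (T * Z) ^ 3 = Z⁻¹ * (Z * T) ^ 3 * Z := by simp [pow_succ, mul_assoc]
    rw [this, h, mul_assoc, (comm_of_center hμ Z).eq, inv_mul_cancel_left]
  rw [c] at e3
  have : μ * (μ⁻¹) ^ 3 * μ ^ 2 = μ⁻¹ * μ ^ 2 := by rw [e3]
  calc μ = μ⁻¹ * μ ^ 2 := by group
    _ = μ * (μ⁻¹) ^ 3 * μ ^ 2 := this.symm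
    _ = 1 := by group

end CfsgLib.HNxyz.CentralWord
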