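import Mathlib.Data.Nat.Bitwise
import Mathlib.Data.Matrix.Mul
import Mathlib.Data.ZMod.Basic
import Mathlib.Algebra.BigOperators.Fin
import Mathlib.Tactic.Ring
import Mathlib.Tactic.LinearCombination

/-!
# Checked products of matrices modulo eleven

Rows are packed in slots of 32 bits and the left factors are sparse; as for the prime thirteen in
`Lib/FiRep`, with the constants of the prime eleven.
-/

set_option autoImplicit false

namespace CfsgLib.HNxyz.ModEleven

open Matrix

/-- The width of a slot. -/
abbrev slotB : ℕ := 4294967296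

/-- A packed row. -/
def pk : List ℕ → ℕ
  | [] => 0
  | a :: l => a + slotB * pk l

/-- Fourteen low bits in each slot. -/
def mask : ℕ → ℕ
  | 0 => 0
  | n + 1 => 16383 + slotB * mask n

/-- Reduction of all slots modulo eleven. -/
def red (n x : ℕ) : ℕ := x - 11 * (((x * 23832) >>> 18) &&& mask n)

/-- A sparse row times a packed matrix. -/
def dotP : List (ℕ × ℕ) → List ℕ → ℕ
  | [], _ => 0
  | (s, v) :: r, Y =>
    match Y.drop s with
    | [] => 0
    | y :: t => v * y + dotP r t

/-- A sparse matrix times a packed matrix. -/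
def mulP (n : ℕ) (g : List (List (ℕ × ℕ))) (Y : List ℕ) : List ℕ := g.map fun r => red n (dotP r Y)

/-- The packed identity. -/
def idP (n : ℕ) : List ℕ := (List.range n).map fun i => slotB ^ i

/-- The packed value of a word. -/
def evalP (n : ℕ) (G : List (List (List (ℕ × ℕ)))) (w : List ℕ) : List ℕ :=
  w.foldr (fun g Y => mulP n (G.getD g []) Y) (idP n)

/-- Equality of lists of numbers. -/
def beqL : List ℕ → List ℕ → Bool
  | [], [] => true
  | a :: l, b :: m => Nat.beq a b && beqL l m
  | _, _ => false

/-- Sum of two rows. -/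
def addL : List ℕ → List ℕ → List ℕ
  | a :: l, b :: m => (a + b) :: addL l m
  | _, _ => []

/-- A sparse row times a matrix given by rows. -/
def dotL (n : ℕ) : List (ℕ × ℕ) → List (List ℕ) → List ℕ
  | [], _ => List.replicate n 0
  | (s, v) :: r, Y =>
    match Y.drop s with
    | [] => List.replicate n 0
    | y :: t => addL (y.map (v * ·)) (dotL n r t)

/-- The sum of the entries of a sparse row. -/
def rowSum : List (ℕ × ℕ) → ℕ
  | [] => 0
  | (_, v) :: r => v + rowSum r

/-- All rows have small sums. -/
def okGen (n : ℕ) (g : List (List (ℕ × ℕ))) : Bool :=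
  Nat.beq g.length n && g.all fun r => Nat.ble (rowSum r) 1638

/-- A sparse matrix times a matrix given by rows, reduced. -/
def mulL (n : ℕ) (g : List (List (ℕ × ℕ))) (Y : List (List ℕ)) : List (List ℕ) :=
  g.map fun r => (dotL n r Y).map (· % 11)

theorem pk_replicate (n : ℕ) : pk (List.replicate n 0) = 0 := by
  induction n with
  | zero => rfl
  | succ n ih => rw [List.replicate_succ, pk, ih, mul_zero, add_zero]

theorem pk_smul (v : ℕ) (l : List ℕ) : pk (l.map (v * ·)) = v * pk l := by
  induction l with
  | nil => rfl
  | cons a l ih => simp only [List.map_cons, pk, ih]; ring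

theorem pk_addL (l m : List ℕ) (h : l.length = m.length) : pk (addL l m) = pk l + pk m := by
  induction l generalizing m with
  | nil => cases m with
    | nil => rfl
    | cons b m => simp at h
  | cons a l ih => cases m with
    | nil => simp at h
    | cons b m => simp only [addL, pk, ih m (by simpa using h)]; ring

theorem length_addL (l m : List ℕ) (h : l.length = m.length) : (addL l m).length = m.length := by
  induction l generalizing m with
  | nil => cases m with
    | nil => rfl
    | cons b m => simp at h
  | cons a l ih => cases m with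
    | nil => simp at h
    | cons b m => simp [addL, ih m (by simpa using h)]

theorem getD_addL (l m : List ℕ) (h : l.length = m.length) (j : ℕ) :
    (addL l m).getD j 0 = l.getD j 0 + m.getD j 0 := by
  induction l generalizing m j with
  | nil => cases m with
    | nil => simp [addL]
    | cons b m => simp at h
  | cons a l ih => cases m with
    | nil => simp at h
    | cons b m => cases j with
      | zero => simp [addL]
      | succ j => simpa [addL] using ih m (by simpa using h) j

/-- Rows of length `n` with entries below eleven. -/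
def Good (n : ℕ) (Y : List (List ℕ)) : Prop := ∀ y ∈ Y, y.length = n ∧ ∀ a ∈ y, a < 11

variable {n : ℕ}

theorem Good.drop {Y : List (List ℕ)} (hY : Good n Y) (s : ℕ) : Good n (Y.drop s) :=
  fun y hy => hY y (List.drop_subset s Y hy)

theorem dot_spec : ∀ (r : List (ℕ × ℕ)) (Y : List (List ℕ)), Good n Y →
    (dotL n r Y).length = n ∧ (∀ a ∈ dotL n r Y, a ≤ 10 * rowSum r) ∧
      dotP r (Y.map pk) = pk (dotL n r Y) := by
  intro r
  induction r with
  | nil => intro Y _; simp [dotL, dotP, pk_replicate]
  | cons x r ih =>
    obtain ⟨s, v⟩ := x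
    intro Y hY
    cases h : Y.drop s with
    | nil =>
      simp only [dotL, dotP, ← List.map_drop, h, List.map_nil]
      simp [pk_replicate]
    | cons y t =>
      have hd := h ▸ hY.drop s
      obtain ⟨hl, hy⟩ := hd y (List.mem_cons_self ..)
      obtain ⟨i1, i2, i3⟩ := ih t fun z hz => hd z (List.mem_cons_of_mem _ hz)
      simp only [dotL, dotP, ← List.map_drop, h, List.map_cons]
      have he : (y.map (v * ·)).length = (dotL n r t).length := by simp [hl, i1]
      refine ⟨by rw [length_addL _ _ he, i1], ?_, by rw [pk_addL _ _ he, pk_smul, i3]⟩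
      intro a ha
      obtain ⟨j, hj, rfl⟩ := List.getElem_of_mem ha
      rw [← List.getD_eq_getElem _ 0 hj, getD_addL _ _ he]
      rw [length_addL _ _ he] at hj
      have e1 : (y.map (v * ·)).getD j 0 ≤ v * 10 := by
        have hjy : j < y.length := by omega
        rw [List.getD_eq_getElem _ 0 (by simpa using hjy), List.getElem_map]
        exact Nat.mul_le_mul le_rfl (Nat.le_of_lt_succ (hy _ (List.getElem_mem _)))
      have e2 : (dotL n r t).getD j 0 ≤ 10 * rowSum r := by
        rw [List.getD_eq_getElem _ 0 hj]
        exact i2 _ (List.getElem_mem _)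
      simp only [rowSum]
      omega

theorem pk_map_ge : ∀ l : List ℕ, pk (l.map fun a => 11 * (a / 11)) + pk (l.map (· % 11)) = pk l := by
  intro l
  induction l with
  | nil => rfl
  | cons a l ih =>
    simp only [List.map_cons, pk]
    have := Nat.div_add_mod a 11
    linear_combination slotB * ih + this

set_option maxRecDepth 100000 in
theorem quot_slots : ∀ l : List ℕ, (∀ a ∈ l, a < 16384) →
    ((pk l * 23832) >>> 18) &&& mask l.length = pk (l.map (· / 11)) := by
  intro l
  induction l with
  | nil => intro _; simp [pk, mask]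
  | cons a l ih =>
    intro h
    have ha : a < 16384 := h a (List.mem_cons_self ..)
    have ih' := ih fun b hb => h b (List.mem_cons_of_mem _ hb)
    rw [Nat.shiftRight_eq_div_pow] at ih' ⊢
    simp only [List.map_cons, pk, List.length_cons, mask]
    set T := pk l * 23832
    have hx : (a + slotB * pk l) * 23832 / 2 ^ 18 = a * 23832 / 2 ^ 18 + 2 ^ 14 * T := by
      rw [show (a + slotB * pk l) * 23832 = a * 23832 + 2 ^ 18 * (2 ^ 14 * T) by
        simp only [T, slotB]; ring]
      rw [Nat.add_mul_div_left _ _ (by norm_num)]
    rw [hx, show slotB = 2 ^ 32 from rfl]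
    set c := a * 23832 / 2 ^ 18 with hc
    have hca : c = a / 11 := by omega
    set x := c + 2 ^ 14 * T
    set y := 16383 + 2 ^ 32 * mask l.length
    rw [← Nat.mod_add_div (x &&& y) (2 ^ 32)]
    congr 1
    · rw [Nat.and_mod_two_pow, show y % 2 ^ 32 = 2 ^ 14 - 1 by simp only [y]; omega,
        Nat.and_two_pow_sub_one_eq_mod, Nat.mod_mod_of_dvd _ ⟨2 ^ 18, by norm_num⟩]
      simp only [x]
      omega
    · congr 1
      rw [← ih', ← Nat.shiftRight_eq_div_pow, Nat.shiftRight_and_distrib, Nat.shiftRight_eq_div_pow,
        Nat.shiftRight_eq_div_pow]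
      congr 1
      · simp only [x]; omega
      · simp only [y]; omega

theorem red_spec (l : List ℕ) (hl : l.length = n) (h : ∀ a ∈ l, a < 16384) :
    red n (pk l) = pk (l.map (· % 11)) := by
  subst hl
  rw [red, quot_slots l h]
  have h1 := pk_map_ge l
  have h2 : pk (l.map fun a => 11 * (a / 11)) = 11 * pk (l.map (· / 11)) := by
    rw [← pk_smul, List.map_map]; rfl
  omega

theorem mul_spec {g : List (List (ℕ × ℕ))} (hg : okGen n g = true) {Y : List (List ℕ)} (hY : Good n Y) :
    mulP n g (Y.map pk) = (mulL n g Y).map pk ∧ Good n (mulL n g Y) ∧ (mulL n g Y).length = n := by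
  simp only [okGen, Bool.and_eq_true, List.all_eq_true, Nat.beq_eq, Nat.ble_eq] at hg
  refine ⟨?_, ?_, by rw [mulL, List.length_map]; exact hg.1⟩
  · simp only [mulP, mulL, List.map_map]
    refine List.map_congr_left fun r hr => ?_
    obtain ⟨i1, i2, i3⟩ := dot_spec r Y hY
    show red n (dotP r (Y.map pk)) = pk ((dotL n r Y).map (· % 11))
    rw [i3, red_spec _ i1]
    intro a ha
    have := i2 a ha
    have := hg.2 r hr
    omega
  · intro y hy
    obtain ⟨r, -, rfl⟩ := List.mem_map.1 hy
    refine ⟨by rw [List.length_map]; exact (dot_spec r Y hY).1, fun a ha => ?_⟩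
    obtain ⟨b, -, rfl⟩ := List.mem_map.1 ha
    exact Nat.mod_lt _ (by norm_num)

/-- The coefficient of a sparse row. -/
def coef : List (ℕ × ℕ) → ℕ → ZMod 11
  | [], _ => 0
  | (s, v) :: r, k => if k < s then 0 else if k = s then (v : ZMod 11) else coef r (k - s - 1)

/-- The matrix of a list of rows. -/
def toMat (n : ℕ) (Y : List (List ℕ)) : Matrix (Fin n) (Fin n) (ZMod 11) :=
  Matrix.of fun i j => (((Y.getD i.val []).getD j.val 0 : ℕ) : ZMod 11)

/-- The matrix of sparse rows. -/
def genMat (n : ℕ) (g : List (List (ℕ × ℕ))) : Matrix (Fin n) (Fin n) (ZMod 11) :=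
  Matrix.of fun i k => coef (g.getD i.val []) k.val

theorem dot_entry (j : ℕ) : ∀ (r : List (ℕ × ℕ)) (Y : List (List ℕ)), Good n Y →
    (((dotL n r Y).getD j 0 : ℕ) : ZMod 11) =
      ∑ k ∈ Finset.range Y.length, coef r k * (((Y.getD k []).getD j 0 : ℕ) : ZMod 11) := by
  intro r
  induction r with
  | nil => intro Y _; simp [dotL, coef, List.getD_eq_getElem?_getD, List.getElem?_replicate]; split_ifs <;> simp
  | cons x r ih =>
    obtain ⟨s, v⟩ := x
    intro Y hY
    cases h : Y.drop s with
    | nil =>
      have hs : Y.length ≤ s := List.drop_eq_nil_iff.1 h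
      rw [Finset.sum_eq_zero]
      · simp [dotL, h, List.getD_eq_getElem?_getD, List.getElem?_replicate]; split_ifs <;> simp
      · intro k hk
        rw [coef, if_pos (by simp at hk; omega), zero_mul]
    | cons y t =>
      have hd := h ▸ hY.drop s
      obtain ⟨hl, -⟩ := hd y (List.mem_cons_self ..)
      have ht : Good n t := fun z hz => hd z (List.mem_cons_of_mem _ hz)
      have hlen : Y.length = s + (t.length + 1) := by
        have := congrArg List.length h
        simp at this
        omega
      have hget : ∀ k, Y.getD (s + k) [] = (y :: t).getD k [] := fun k => by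
        rw [← h, List.getD_eq_getElem?_getD, List.getD_eq_getElem?_getD, List.getElem?_drop]
      simp only [dotL, h]
      rw [getD_addL _ _ (by simp [hl, (dot_spec r t ht).1]), Nat.cast_add, ih t ht, hlen,
        Finset.sum_range_add, Finset.sum_range_succ', Finset.sum_eq_zero (s := Finset.range s)
          (fun k hk => by rw [coef, if_pos (Finset.mem_range.1 hk), zero_mul]), zero_add]
      rw [add_comm]
      congr 1
      · refine Finset.sum_congr rfl fun k _ => ?_
        rw [coef, if_neg (by omega), if_neg (by omega), hget, List.getD_cons_succ,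
          show s + (k + 1) - s - 1 = k by omega]
      · rw [coef, if_neg (by omega), if_pos (by omega), hget, List.getD_cons_zero]
        by_cases hj : j < y.length
        · rw [List.getD_eq_getElem _ 0 (by simpa using hj), List.getD_eq_getElem _ 0 hj,
            List.getElem_map, Nat.cast_mul]
        · rw [List.getD_eq_default _ _ (by simpa using hj), List.getD_eq_default _ _ (by omega)]
          simp

theorem toMat_mul {g : List (List (ℕ × ℕ))} (hg : okGen n g = true) {Y : List (List ℕ)} (hY : Good n Y)
    (hYl : Y.length = n) : toMat n (mulL n g Y) = genMat n g * toMat n Y := by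
  have hgl : g.length = n := by
    simp only [okGen, Bool.and_eq_true, Nat.beq_eq] at hg
    exact hg.1
  ext i j
  have hi : i.val < g.length := by rw [hgl]; exact i.isLt
  have hi' : i.val < (mulL n g Y).length := by rw [mulL, List.length_map]; exact hi
  simp only [toMat, genMat, Matrix.mul_apply, Matrix.of_apply]
  rw [List.getD_eq_getElem _ [] hi', List.getD_eq_getElem _ [] hi]
  simp only [mulL, List.getElem_map]
  have hd := (dot_spec g[i.val] Y hY).1
  rw [List.getD_eq_getElem _ 0 (by simp [hd]), List.getElem_map, ZMod.natCast_mod,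
    ← List.getD_eq_getElem _ 0 (by rw [hd]; exact j.isLt), dot_entry _ _ _ hY, hYl,
    Finset.sum_range fun k => coef g[i.val] k * (((Y.getD k []).getD j.val 0 : ℕ) : ZMod 11)]

theorem eq_of_beqL : ∀ {l m : List ℕ}, beqL l m = true → l = m
  | [], [], _ => rfl
  | [], _ :: _, h => by simp [beqL] at h
  | _ :: _, [], h => by simp [beqL] at h
  | a :: l, b :: m, h => by
    simp only [beqL, Bool.and_eq_true, Nat.beq_eq] at h
    rw [h.1, eq_of_beqL h.2]

theorem pk_inj : ∀ {l m : List ℕ}, l.length = m.length → (∀ a ∈ l, a < 11) → (∀ a ∈ m, a < 11) →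
    pk l = pk m → l = m
  | [], [], _, _, _, _ => rfl
  | [], _ :: _, h, _, _, _ => by simp at h
  | _ :: _, [], h, _, _, _ => by simp at h
  | a :: l, b :: m, h, hl, hm, e => by
    have ha := hl a (List.mem_cons_self ..)
    have hb := hm b (List.mem_cons_self ..)
    simp only [pk, slotB] at e
    rw [show a = b by omega, pk_inj (by simpa using h) (fun x hx => hl x (List.mem_cons_of_mem _ hx))
      (fun x hx => hm x (List.mem_cons_of_mem _ hx)) (by omega)]

/-- The identity by rows. -/
def idL (n : ℕ) : List (List ℕ) := (List.range n).map fun i => (List.range n).map fun j => if i = j then 1 else 0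

theorem idL_good : Good n (idL n) := by
  intro y hy
  obtain ⟨i, -, rfl⟩ := List.mem_map.1 hy
  refine ⟨by simp, fun a ha => ?_⟩
  obtain ⟨j, -, rfl⟩ := List.mem_map.1 ha
  split_ifs <;> norm_num

theorem toMat_idL : toMat n (idL n) = 1 := by
  ext i j
  simp [toMat, idL, Matrix.one_apply, Fin.ext_iff]

/-- The value of a word by rows. -/
def evalL (n : ℕ) (G : List (List (List (ℕ × ℕ)))) (w : List ℕ) : List (List ℕ) :=
  w.foldr (fun g Y => mulL n (G.getD g []) Y) (idL n)

theorem eval_spec (G : List (List (List (ℕ × ℕ)))) (hid : idP n = (idL n).map pk) :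
    ∀ w : List ℕ, (∀ g ∈ w, okGen n (G.getD g []) = true) →
      evalP n G w = (evalL n G w).map pk ∧ Good n (evalL n G w) ∧ (evalL n G w).length = n ∧
        toMat n (evalL n G w) = (w.map fun g => genMat n (G.getD g [])).prod := by
  intro w
  induction w with
  | nil =>
    intro _
    exact ⟨hid, idL_good, by simp [evalL, idL], by simpa [evalL] using toMat_idL⟩
  | cons g w ih =>
    intro h
    obtain ⟨e1, e2, e3, e4⟩ := ih fun x hx => h x (List.mem_cons_of_mem _ hx)
    have hg := h g (List.mem_cons_self ..)
    obtain ⟨m1, m2, m3⟩ := mul_spec hg e2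
    refine ⟨?_, m2, m3, ?_⟩
    · show mulP n (G.getD g []) (evalP n G w) = _
      rw [e1]; exact m1
    · show toMat n (mulL n (G.getD g []) (evalL n G w)) = _
      rw [toMat_mul hg e2 e3, e4, List.map_cons, List.prod_cons]

/-- A checked relation holds between the matrices. -/
theorem prod_eq_one {G : List (List (List (ℕ × ℕ)))} (hid : idP n = (idL n).map pk) {w : List ℕ}
    (hw : ∀ g ∈ w, okGen n (G.getD g []) = true) (h : beqL (evalP n G w) (idP n) = true) :
    (w.map fun g => genMat n (G.getD g [])).prod = 1 := by
  obtain ⟨e1, e2, e3, e4⟩ := eval_spec G hid w hw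
  have he := eq_of_beqL h
  rw [e1, hid] at he
  rw [← e4, show evalL n G w = idL n from ?_, toMat_idL]
  refine List.ext_getElem (by rw [e3]; simp [idL]) fun i h1 h2 => ?_
  have hi : pk ((evalL n G w)[i]) = pk ((idL n)[i]) := by
    have := congrArg (fun l : List ℕ => l.getD i 0) he
    rwa [List.getD_eq_getElem _ 0 (show i < ((evalL n G w).map pk).length by simpa using h1),
      List.getD_eq_getElem _ 0 (show i < ((idL n).map pk).length by simpa using h2),
      List.getElem_map, List.getElem_map] at this
  obtain ⟨l1, b1⟩ := e2 _ (List.getElem_mem h1)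
  obtain ⟨l2, b2⟩ := idL_good _ (List.getElem_mem h2)
  exact pk_inj (l1.trans l2.symm) b1 b2 hi

end CfsgLib.HNxyz.ModEleven
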