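import Cfsg.Agent.Lib.HNxyz.Split
import Cfsg.Agent.Lib.HNxyz.CentralWord
import Cfsg.Prelude.Def_KGroupFacts

/-!
# Every finite stem extension of the presented Harada–Norton group is trivial
-/

set_option autoImplicit false
set_option maxRecDepth 100000
set_option linter.style.haveILetI false
set_option linter.constructorNameAsVariable false

namespace CfsgLib.HNxyz.Split

open Cfsg.Spor Subgroup CentralWord
open scoped commutatorElement

local notation "PD" => Cfsg.Agent.S1708.pairData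
local notation "pj" => Cfsg.Agent.S1708.first

variable {E : Type} [Group E] [Finite E] (σ : E →* Cfsg.Spor.HN)

theorem zCount_table : (List.range 10).map (fun i => zCount (xyzRels.getD i [])) =
    [0, 0, 0, 0, 0, 0, 2, 2, 0, 4] := by
  decide +kernel

theorem words_tail : (HN.extra.drop 10).map (fun r => r.toWord.map sylLetter) =
    [[6, 6, 6, 6, 6], [1, 6, 0, 6, 6], [7, 3, 6, 2], [4, 6, 4, 6, 4, 6]] := by
  decide +kernel

/-- The eight letters. -/
def elt8 {M : Type*} [Group M] (a b c d : M) (i : ℕ) : M :=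
  if i = 6 then d else if i = 7 then d⁻¹ else elt a b c i

/-- The values of the generators. -/
def genVal {M : Type*} [Group M] (a b c d : M) : HN.Gen → M
  | .x => a
  | .y => b
  | .z => c
  | .t => d

theorem lift_letters {M : Type*} [Group M] (a b c d : M) (r : FreeGroup HN.Gen) :
    FreeGroup.lift (genVal a b c d) r = evalW (elt8 a b c d) (r.toWord.map sylLetter) := by
  conv_lhs => rw [← FreeGroup.mk_toWord (x := r)]
  rw [FreeGroup.lift_mk, evalW, List.map_map]
  refine congrArg List.prod (List.map_congr_left fun p _ => ?_)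
  obtain ⟨g, b⟩ := p
  cases g <;> cases b <;> rfl

theorem evalW_elt8 {M : Type*} [Group M] (a b c d : M) {w : List ℕ} (h : ∀ g ∈ w, g < 6) :
    evalW (elt8 a b c d) w = evalW (elt a b c) w := by
  refine congrArg List.prod (List.map_congr_left fun g hg => ?_)
  have := h g hg
  rw [elt8, if_neg (by omega), if_neg (by omega)]

theorem rel_one {r : FreeGroup HN.Gen} (hr : r ∈ HN.extra) :
    FreeGroup.lift (fun g => (PresentedGroup.of g : Cfsg.Spor.HN)) r = 1 := by
  have h : FreeGroup.lift (fun g => (PresentedGroup.of g : Cfsg.Spor.HN)) = PresentedGroup.mk hnRels := by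
    ext g
    rw [FreeGroup.lift_apply_of]
    rfl
  rw [h]
  exact PresentedGroup.one_of_mem (Set.mem_union_right _ hr)

theorem hn_tail : (PresentedGroup.of HN.Gen.t : Cfsg.Spor.HN) ^ 5 = 1 ∧
    (PresentedGroup.of HN.Gen.x : Cfsg.Spor.HN)⁻¹ * PresentedGroup.of HN.Gen.t * PresentedGroup.of HN.Gen.x *
      PresentedGroup.of HN.Gen.t ^ 2 = 1 ∧
    (PresentedGroup.of HN.Gen.t : Cfsg.Spor.HN)⁻¹ * (PresentedGroup.of HN.Gen.y)⁻¹ * PresentedGroup.of HN.Gen.t *
      PresentedGroup.of HN.Gen.y = 1 ∧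
    ((PresentedGroup.of HN.Gen.z : Cfsg.Spor.HN) * PresentedGroup.of HN.Gen.t) ^ 3 = 1 := by
  refine ⟨?_, ?_, ?_, ?_⟩
  · have := rel_one (show HN.t ^ 5 ∈ HN.extra by simp [HN.extra])
    simpa using this
  · have := rel_one (show (HN.x⁻¹ * HN.t * HN.x) * (HN.t ^ 2) ∈ HN.extra by simp [HN.extra])
    simpa using this
  · have := rel_one (show HN.t⁻¹ * HN.y⁻¹ * HN.t * HN.y ∈ HN.extra by simp [HN.extra])
    simpa using this
  · have := rel_one (show (HN.z * HN.t) ^ 3 ∈ HN.extra by simp [HN.extra])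
    simpa using this

/-- A section of a stem extension. -/
theorem exists_section (hs : Function.Surjective σ) (hc : σ.ker ≤ center E) :
    ∃ f : Cfsg.Spor.HN →* E, ∀ g, σ (f g) = g := by
  set X := lift σ hs ⟨(PD).a, (PD).mem_a⟩
  set Y := lift σ hs ⟨(PD).b, (PD).mem_b⟩
  have hX : σ X = PresentedGroup.of HN.Gen.x := σ_lift σ hs _
  have hY : σ Y = PresentedGroup.of HN.Gen.y := σ_lift σ hs _
  obtain ⟨Z₀, hZ₀⟩ := hs (pj (PD).c)
  obtain ⟨T₀, hT₀⟩ := hs (PresentedGroup.of HN.Gen.t)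
  obtain ⟨ht5, htx, hty, hzt⟩ := hn_tail
  have hcen : ∀ g, σ g = 1 → g ∈ center E := fun g hg => hc hg
  have hpjc : pj (PD).c = (PresentedGroup.of HN.Gen.z : Cfsg.Spor.HN) := rfl
  -- the lift of t
  have k1c : T₀ ^ 5 ∈ center E := hcen _ (by rw [map_pow, hT₀, ht5])
  have k2c : X⁻¹ * T₀ * X * T₀ ^ 2 ∈ center E :=
    hcen _ (by rw [map_mul, map_mul, map_mul, map_inv, map_pow, hX, hT₀, htx])
  set k1 := T₀ ^ 5 with hk1
  set k2 := X⁻¹ * T₀ * X * T₀ ^ 2 with hk2
  set m := k1 * (k2 ^ 2)⁻¹ with hmd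
  have hm : m ∈ center E := mul_mem k1c (inv_mem (pow_mem k2c 2))
  set T := T₀ * m with hTd
  have hσm : σ m = 1 := by
    rw [hmd, map_mul, map_inv, hk1, hk2]
    simp only [map_pow, map_mul, map_inv, hX, hT₀, ht5, htx, one_pow, inv_one, mul_one]
  have hT : σ T = PresentedGroup.of HN.Gen.t := by rw [hTd, map_mul, hT₀, hσm, mul_one]
  have hk2' : X⁻¹ * T * X * T ^ 2 = k2 * m ^ 3 := by
    have c := comm_of_center hm
    rw [hTd, ((c T₀).symm).mul_pow]
    calc X⁻¹ * (T₀ * m) * X * (T₀ ^ 2 * m ^ 2)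
        = X⁻¹ * T₀ * (m * X) * T₀ ^ 2 * m ^ 2 := by group
      _ = X⁻¹ * T₀ * X * (m * T₀ ^ 2) * m ^ 2 := by rw [(c X).eq]; group
      _ = k2 * m ^ 3 := by rw [(c (T₀ ^ 2)).eq, hk2]; group
  have hT5' : T ^ 5 = (X⁻¹ * T * X * T ^ 2) ^ 2 := by
    rw [hk2', hTd, ((comm_of_center hm T₀).symm).mul_pow, ← hk1,
      ((comm_of_center hm k2).symm.pow_right 3).mul_pow, ← pow_mul,
      show k1 = m * k2 ^ 2 by rw [hmd]; group,
      ((comm_of_center hm (k2 ^ 2))).eq, mul_assoc, ← pow_succ']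
  have hkc : X⁻¹ * T * X * T ^ 2 ∈ center E := by rw [hk2']; exact mul_mem k2c (pow_mem hm 3)
  have hTX : X⁻¹ * T * X * T ^ 2 = 1 := conj_eq hkc rfl hT5'
  have hT5 : T ^ 5 = 1 := by rw [hT5', hTX, one_pow]
  have hY6 : Y ^ 6 = 1 := by
    have h := rel_value σ hs hc hZ₀ (w := [2, 2, 2, 2, 2, 2]) (m := 0) (by decide) (by decide)
    simpa [evalW, letE, elt, pow_succ, mul_assoc] using h
  have hTY : T⁻¹ * Y⁻¹ * T * Y = 1 := by
    refine comm_eq_one (Y := Y) (T := T) (hcen _ ?_) (by simp only [mul_assoc, mul_inv_cancel_left]) hT5 hY6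
    rw [map_mul, map_mul, map_mul, map_inv, map_inv, hT, hY, hty]
  -- the lift of z
  have kz : Z₀ ^ 2 ∈ center E := hcen _ (by
    rw [map_pow, hZ₀, ← map_pow, pow_two, z_sq (PD).rels, map_one])
  have kt : (Z₀ * T) ^ 3 ∈ center E := hcen _ (by rw [map_pow, map_mul, hZ₀, hT, hpjc, hzt])
  set q := Z₀ ^ 2 * ((Z₀ * T) ^ 3)⁻¹ with hqd
  have hq : q ∈ center E := mul_mem kz (inv_mem kt)
  have hσq : σ q = 1 := by
    have h2 : pj (PD).c ^ 2 = 1 := by rw [← map_pow, pow_two, z_sq (PD).rels, map_one]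
    rw [hqd, map_mul, map_inv, map_pow, map_pow, map_mul, hZ₀, hT, h2, hpjc, hzt, inv_one, mul_one]
  set Z := Z₀ * q with hZd
  have hZ : σ Z = pj (PD).c := by rw [hZd, map_mul, hZ₀, hσq, mul_one]
  have hμ : Z ^ 2 ∈ center E := by
    rw [hZd, ((comm_of_center hq Z₀).symm).mul_pow]; exact mul_mem kz (pow_mem hq 2)
  have hμ' : (Z * T) ^ 3 = Z ^ 2 := by
    have e : Z * T = Z₀ * T * q := by rw [hZd, mul_assoc, (comm_of_center hq T).eq, ← mul_assoc]
    rw [e, ((comm_of_center hq (Z₀ * T)).symm).mul_pow, hZd, ((comm_of_center hq Z₀).symm).mul_pow,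
      show Z₀ ^ 2 = q * (Z₀ * T) ^ 3 from (inv_mul_cancel_right _ _).symm, (comm_of_center hq ((Z₀ * T) ^ 3)).eq, mul_assoc,
      ← pow_succ']
  have hX2 : Commute (X * X) Z := by
    let a2 : ↥(PD).N := ⟨(PD).a, (PD).mem_a⟩ * ⟨(PD).a, (PD).mem_a⟩
    have e : X * X = lift σ hs a2 := (lift_mul σ hs hc _ _).symm
    have h := conj_lift σ hs hc hZ a2
    have hv : (⟨(PD).c * a2.1 * ((PD).c)⁻¹, (PD).normal_N.conj_mem a2.1 a2.2 _⟩ : ↥(PD).N) = a2 := by
      refine Subtype.ext ?_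
      show (PD).c * ((PD).a * (PD).a) * ((PD).c)⁻¹ = (PD).a * (PD).a
      rw [← sq_comm_z (PD).rels, mul_inv_cancel_right]
    rw [hv, ← e, mul_inv_eq_iff_eq_mul] at h
    exact h.symm
  have hμ'' : (Z * T⁻¹) ^ 3 = Z ^ 2 := by
    have e1 : X⁻¹ * T * X = (T ^ 2)⁻¹ := eq_inv_of_mul_eq_one_left hTX
    have e2 : (X * X)⁻¹ * T * (X * X) = T⁻¹ := by
      calc (X * X)⁻¹ * T * (X * X) = X⁻¹ * (X⁻¹ * T * X) * X := by group
        _ = ((X⁻¹ * T * X) ^ 2)⁻¹ := by nth_rewrite 1 [e1]; simp [pow_succ, mul_assoc]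
        _ = T ^ 5 * T⁻¹ := by rw [e1]; group
        _ = T⁻¹ := by rw [hT5, one_mul]
    have e3 : Z * T⁻¹ = (X * X)⁻¹ * (Z * T) * (X * X) := by
      rw [← e2]
      calc Z * ((X * X)⁻¹ * T * (X * X)) = (Z * (X * X)⁻¹) * T * (X * X) := by group
        _ = ((X * X)⁻¹ * Z) * T * (X * X) := by rw [(hX2.inv_left).eq]
        _ = _ := by group
    rw [e3, show ((X * X)⁻¹ * (Z * T) * (X * X)) ^ 3 = (X * X)⁻¹ * (Z * T) ^ 3 * (X * X) by
      simp [pow_succ, mul_assoc], hμ', mul_assoc, (comm_of_center hμ (X * X)).eq, inv_mul_cancel_left]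
  have hZ2 : Z ^ 2 = 1 := sq_eq_one hμ rfl hμ' hμ''
  have hxyz : XYZRels X Y Z := by
    intro w hw
    obtain ⟨i, hi, rfl⟩ := List.getElem_of_mem hw
    have ht := congrArg (fun l : List ℤ => l.getD i 0) zCount_table
    have hlen : xyzRels.length = 10 := rfl
    simp only [List.getD_eq_getElem?_getD, List.getElem?_map, List.getElem?_range (show i < 10 by omega),
      Option.map_some, Option.getD_some, List.getElem?_eq_getElem hi] at ht
    have hev : ∃ m : ℤ, zCount xyzRels[i] = 2 * m := by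
      rw [ht]
      have h10 : i < 10 := by omega
      interval_cases i <;> first | exact ⟨0, rfl⟩ | exact ⟨1, rfl⟩ | exact ⟨2, rfl⟩
    obtain ⟨k, hk⟩ := hev
    show evalW (letE σ hs Z) _ = 1
    rw [rel_value σ hs hc hZ (List.getElem_mem hi) hk, hZ2, one_zpow]
  have hrels : ∀ r ∈ hnRels, FreeGroup.lift (genVal X Y Z T) r = 1 := by
    rintro r (hr | hr)
    · obtain ⟨u, hu, -⟩ := hr
      simp [coxNodes, HN.edges] at hu
    · rw [lift_letters _ _ _ _]
      have hw : r.toWord.map sylLetter ∈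
          xyzRels ++ (HN.extra.drop 10).map (fun r => r.toWord.map sylLetter) := by
        rw [← hn_words.1, ← List.map_append, List.take_append_drop]
        exact List.mem_map_of_mem hr
      rcases List.mem_append.1 hw with hw | hw
      · rw [evalW_elt8 _ _ _ _ ?_]
        · exact hxyz _ hw
        · have h : xyzRels.all (fun w => w.all fun g => decide (g < 6)) = true := by decide +kernel
          exact fun g hg => of_decide_eq_true (List.all_eq_true.1 (List.all_eq_true.1 h _ hw) g hg)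
      · rw [words_tail] at hw
        simp only [List.mem_cons, List.not_mem_nil, or_false] at hw
        rcases hw with e | e | e | e <;> rw [e]
        · simpa [evalW, elt8, elt, pow_succ, mul_assoc] using hT5
        · simpa [evalW, elt8, elt, pow_succ, mul_assoc] using hTX
        · simpa [evalW, elt8, elt, mul_assoc] using hTY
        · simpa [evalW, elt8, elt, pow_succ, mul_assoc] using hμ'.trans hZ2
  refine ⟨PresentedGroup.toGroup hrels, fun g => ?_⟩
  have h : σ.comp (PresentedGroup.toGroup hrels) = MonoidHom.id Cfsg.Spor.HN := by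
    refine PresentedGroup.ext fun u => ?_
    rw [MonoidHom.comp_apply, PresentedGroup.toGroup.of, MonoidHom.id_apply]
    cases u
    exacts [hX, hY, hZ.trans hpjc, hT]
  exact DFunLike.congr_fun h g

/-- Finite stem extensions are trivial. -/
theorem stem_trivial (hσ : Cfsg.IsStemExtension σ) : σ.ker = ⊥ := by
  obtain ⟨hs, hc, hd⟩ := hσ
  obtain ⟨f, hf⟩ := exists_section σ hs hc
  have hsplit : ∀ g : E, ∃ h : Cfsg.Spor.HN, ∃ k ∈ center E, g = k * f h := fun g =>
    ⟨σ g, g * (f (σ g))⁻¹, hc (by rw [MonoidHom.mem_ker, map_mul, map_inv, hf, mul_inv_cancel]),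
      by group⟩
  have hle : commutator E ≤ f.range := by
    rw [_root_.commutator_def, commutator_le]
    intro u _ v _
    obtain ⟨a, k, hk, rfl⟩ := hsplit u
    obtain ⟨b, l, hl, rfl⟩ := hsplit v
    refine ⟨⁅a, b⁆, ?_⟩
    rw [map_commutatorElement]
    have hk1' := comm_of_center hk
    have hl1' := comm_of_center hl
    have e1 : ∀ w : E, ⁅k * f a, w⁆ = ⁅f a, w⁆ := fun w => by
      rw [commutatorElement_def, commutatorElement_def, mul_inv_rev]
      symm
      calc f a * w * (f a)⁻¹ * w⁻¹ = (k * k⁻¹) * (f a * w * (f a)⁻¹ * w⁻¹) := by group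
        _ = k * (k⁻¹ * (f a * w * (f a)⁻¹)) * w⁻¹ := by group
        _ = k * ((f a * w * (f a)⁻¹) * k⁻¹) * w⁻¹ := by rw [((hk1' _).inv_left).eq]
        _ = k * f a * w * ((f a)⁻¹ * k⁻¹) * w⁻¹ := by group
    have e2 : ∀ w : E, ⁅w, l * f b⁆ = ⁅w, f b⁆ := fun w => by
      rw [commutatorElement_def, commutatorElement_def, mul_inv_rev]
      symm
      calc w * f b * w⁻¹ * (f b)⁻¹ = (l * (w * f b * w⁻¹) * (f b)⁻¹) * l⁻¹ := by
            rw [mul_assoc l, (hl1' (w * f b * w⁻¹ * (f b)⁻¹)).eq, mul_inv_cancel_right]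
        _ = w * (l * f b) * w⁻¹ * ((f b)⁻¹ * l⁻¹) := by
            rw [← mul_assoc w l, ← (hl1' w).eq]; group
    rw [e1, e2]
  rw [eq_bot_iff]
  intro g hg
  obtain ⟨h, rfl⟩ := hle (hd hg)
  rw [MonoidHom.mem_ker, hf] at hg
  rw [mem_bot, hg, map_one]

/-- The multiplier is trivial as soon as the group is finite. -/
theorem multiplier_of_finite [Finite Cfsg.Spor.HN] : Cfsg.HasCyclicSchurMultiplier Cfsg.Spor.HN 1 := by
  refine ⟨⟨Cfsg.Spor.HN, inferInstance, inferInstance, MonoidHom.id _,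
    ⟨Function.surjective_id, ?_, ?_⟩, ?_⟩, fun Γ _ _ τ hτ => ?_⟩
  · intro g hg
    rw [show g = 1 from hg]
    exact one_mem _
  · intro g hg
    rw [show g = 1 from hg]
    exact one_mem _
  · haveI : Unique ↥(MonoidHom.id Cfsg.Spor.HN).ker := ⟨⟨1⟩, fun g => Subtype.ext g.2⟩
    haveI : Unique (Multiplicative (ZMod 1)) := Unique.mk' _
    exact ⟨MulEquiv.ofUnique⟩
  · have h := stem_trivial τ hτ
    refine ⟨1, fun g => ⟨1, ?_⟩⟩
    have hg : g.1 ∈ (⊥ : Subgroup Γ) := h ▸ g.2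
    exact Subtype.ext (mem_bot.1 hg).symm

end CfsgLib.HNxyz.Split
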