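import Cfsg.Agent.Lib.PresCert.Paired

/-!
# Orbit bounds from certificates with paired letters

The live nodes of a certificate are closed under some words: this bounds the group they generate.
-/

set_option autoImplicit false

namespace CfsgLib.HNxyz

open CfsgLib.PresCert

/-- The inverse letter: the partner in the pair. -/
def partner (g : ℕ) : ℕ := if g % 2 = 0 then g + 1 else g - 1

variable (D : Data)

/-- The live nodes are closed under the given words. -/
structure OrbitCert (S : List (List ℕ)) : Prop where
  valid : Paired.Valid D partner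
  words : S.all (fun w => w.all fun g => Nat.blt g D.ng) = true
  closed : ∀ b, 1000 * b < D.n → closedBlock D S b = true

variable {D} {M X : Type*} [Group M] [MulAction M X] {gen : ℕ → M} {x₀ : X}

theorem word_closed {S : List (List ℕ)} (V : OrbitCert D S)
    (H : Paired.PairHyp D partner gen x₀) {i : ℕ} (hi : i < D.n) {w : List ℕ} (hw : w ∈ S) :
    ∃ j < D.n, act gen w • phi D gen x₀ (liveAt D i) = phi D gen x₀ (liveAt D j) := by
  have hb := V.closed (i / 1000) (by omega)
  simp only [closedBlock, List.all_eq_true, List.mem_range, Bool.or_eq_true,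
    Bool.not_eq_true'] at hb
  have h' := hb (i % 1000) (Nat.mod_lt _ (by norm_num))
  rw [Nat.div_add_mod] at h'
  have h2 := (h'.resolve_left fun e => by
    have : Nat.blt i D.n = true := by rw [Nat.blt_eq]; exact hi
    rw [this] at e
    exact Bool.noConfusion e) w hw
  have hlt := V.words
  simp only [List.all_eq_true, Nat.blt_eq] at hlt
  simp only [closedAt] at h2
  have hB := Paired.below_top V.valid H
  cases hs : walk D (D.rm - 1) (liveAt D i) w with
  | none => rw [hs] at h2; simp at h2
  | some f =>
    rw [hs] at h2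
    simp only [Bool.and_eq_true, Nat.blt_eq, Nat.beq_eq] at h2
    exact ⟨_, h2.1, by rw [walk_sound hB (hlt w hw) hs, h2.2, root_sound hB]⟩

theorem orbit_subset {S : List (List ℕ)} (V : OrbitCert D S)
    (H : Paired.PairHyp D partner gen x₀) {m : M} (hm : m ∈ genGrp S gen) :
    ∃ j < D.n, m • x₀ = phi D gen x₀ (liveAt D j) := by
  obtain ⟨-, -, -, -, h0, hn, -⟩ := shape_spec V.valid.shape
  have hperm : ∀ w ∈ S, ∀ i < D.n, ∃ j < D.n,
      (act gen w)⁻¹ • phi D gen x₀ (liveAt D i) = phi D gen x₀ (liveAt D j) := by
    intro w hw i hi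
    classical
    let P := (Finset.range D.n).image fun i => phi D gen x₀ (liveAt D i)
    have hmaps : P.image (act gen w • ·) = P := by
      refine Finset.eq_of_subset_of_card_le (fun q hq => ?_) ?_
      · obtain ⟨p, hp, rfl⟩ := Finset.mem_image.1 hq
        obtain ⟨a, ha, rfl⟩ := Finset.mem_image.1 hp
        obtain ⟨j, hj, e⟩ := word_closed V H (Finset.mem_range.1 ha) hw
        exact Finset.mem_image.2 ⟨j, Finset.mem_range.2 hj, e.symm⟩
      · rw [Finset.card_image_of_injective _ (MulAction.injective _)]
    have hmem : phi D gen x₀ (liveAt D i) ∈ P :=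
      Finset.mem_image_of_mem _ (Finset.mem_range.2 hi)
    rw [← hmaps] at hmem
    obtain ⟨p, hp, e⟩ := Finset.mem_image.1 hmem
    obtain ⟨j, hj, rfl⟩ := Finset.mem_image.1 hp
    exact ⟨j, Finset.mem_range.1 hj, by rw [← e, inv_smul_smul]⟩
  suffices h : ∀ i < D.n, ∃ j < D.n,
      m • phi D gen x₀ (liveAt D i) = phi D gen x₀ (liveAt D j) by
    obtain ⟨j, hj, e⟩ := h 0 hn
    rw [h0, phi_zero] at e
    exact ⟨j, hj, e⟩
  induction hm using Subgroup.closure_induction_left with
  | one => exact fun i hi => ⟨i, hi, one_smul _ _⟩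
  | mul_left s hs m' _ ih =>
    obtain ⟨w, hw, rfl⟩ := hs
    intro i hi
    obtain ⟨j, hj, e⟩ := ih i hi
    obtain ⟨k, hk, e'⟩ := word_closed V H hj hw
    exact ⟨k, hk, by rw [mul_smul, e, e']⟩
  | inv_mul_cancel s hs m' _ ih =>
    obtain ⟨w, hw, rfl⟩ := hs
    intro i hi
    obtain ⟨j, hj, e⟩ := ih i hi
    obtain ⟨k, hk, e'⟩ := hperm w hw j hj
    exact ⟨k, hk, by rw [mul_smul, e, e']⟩

/-- The group generated by the words is covered by `n` cosets of the subgroup. -/
theorem card_le {K : Subgroup M} [Finite K] {gen : ℕ → M} {W : List (List ℕ)}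
    (V : OrbitCert D W) (H : Paired.PairHyp D partner gen ((1 : M) : M ⧸ K)) :
    Finite (genGrp W gen) ∧ Nat.card (genGrp W gen) ≤ D.n * Nat.card K := by
  set S := genGrp W gen with hS
  let F : Fin D.n × K → M := fun p => (phi D gen ((1 : M) : M ⧸ K) (liveAt D p.1)).out * (p.2 : M)
  have hcov : ∀ m ∈ S, m ∈ Set.range F := by
    intro m hm
    obtain ⟨j, hj, e⟩ := orbit_subset V H hm
    rw [MulAction.Quotient.smul_coe, smul_eq_mul, mul_one] at e
    set q := phi D gen ((1 : M) : M ⧸ K) (liveAt D j) with hq
    have : q.out⁻¹ * m ∈ K := by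
      rw [← QuotientGroup.eq, QuotientGroup.out_eq', e]
    exact ⟨(⟨j, hj⟩, ⟨_, this⟩), by simp [F, ← hq]⟩
  let f : S → Fin D.n × K := fun m => (hcov m m.2).choose
  have hf : Function.Injective f := by
    intro a b h
    have ha := (hcov a a.2).choose_spec
    have hb := (hcov b b.2).choose_spec
    exact Subtype.ext (ha.symm.trans ((congrArg F h).trans hb))
  refine ⟨Finite.of_injective f hf, ?_⟩
  calc Nat.card S ≤ Nat.card (Fin D.n × K) := Nat.card_le_card_of_injective f hf
    _ = D.n * Nat.card K := by rw [Nat.card_prod, Nat.card_fin]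

/-- The whole word of a certificate entry. -/
def entry (D : Data) (r : ℕ) : List ℕ :=
  (wordAt D r).1 ++ (if (wordAt D r).2.1 < D.ng then [(wordAt D r).2.1] else []) ++ (wordAt D r).2.2

/-- The word of the inverse. -/
def invW (w : List ℕ) : List ℕ := (w.map partner).reverse

/-- The unmarked words are rotations of relators or of their inverses, as hinted; the marked words
are among the subgroup words. -/
def entriesOk (D : Data) (rels subs : List (List ℕ)) (hints : List (ℕ × ℕ × Bool)) : Bool :=
  rels.all (fun v => v.all fun g => Nat.blt g D.ng) &&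
  (List.range D.nrel).all (fun r =>
    let h := hints.getD r (0, 0, false)
    let v := rels.getD h.1 []
    decide (entry D r = (if h.2.2 then invW v else v).rotate h.2.1)) &&
  (List.range (16 * D.words.length)).all fun r =>
    Nat.blt r D.nrel || decide (entry D r = []) || subs.any fun v => decide (entry D r = v)

theorem act_invW {ng : ℕ} (hinv : ∀ g, g < ng → gen g * gen (partner g) = 1) :
    ∀ {w : List ℕ}, (∀ g ∈ w, g < ng) → act gen (invW w) = (act gen w)⁻¹
  | [], _ => by simp [invW, act_nil]
  | g :: w, hw => by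
    rw [invW, List.map_cons, List.reverse_cons, act_append, act_cons, act_cons, act_nil, one_mul,
      mul_inv_rev, show gen (partner g) = (gen g)⁻¹ from
        eq_inv_of_mul_eq_one_right (hinv g (hw g (by simp)))]
    congr 1
    exact act_invW hinv fun a ha => hw a (by simp [ha])

/-- The hypotheses from the checks, for the action on the cosets of a subgroup. -/
theorem pairHyp_of_entries {K : Subgroup M} {rels subs : List (List ℕ)}
    {hints : List (ℕ × ℕ × Bool)} (hinv : ∀ g, g < D.ng → gen g * gen (partner g) = 1)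
    (hrels : ∀ w ∈ rels, act gen w = 1) (hsubs : ∀ w ∈ subs, act gen w ∈ K)
    (h : entriesOk D rels subs hints = true) :
    Paired.PairHyp D partner gen ((1 : M) : M ⧸ K) := by
  simp only [entriesOk, Bool.and_eq_true, List.all_eq_true, Nat.blt_eq, List.mem_range,
    Bool.or_eq_true, decide_eq_true_eq, List.any_eq_true] at h
  obtain ⟨⟨hl, h1⟩, h2⟩ := h
  have fix : ∀ m ∈ K, m • ((1 : M) : M ⧸ K) = ((1 : M) : M ⧸ K) := fun m hm => by
    rw [MulAction.Quotient.smul_coe, smul_eq_mul, mul_one, QuotientGroup.eq, mul_one]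
    exact inv_mem hm
  refine ⟨hinv, fun r hr x => ?_, fun r hr => ?_⟩
  · have key : act gen (entry D r) = 1 := by
      rw [h1 r hr]
      refine act_rotate ?_ _
      set v := rels.getD (hints.getD r (0, 0, false)).1 [] with hv
      have hv' : act gen v = 1 ∧ ∀ g ∈ v, g < D.ng := by
        by_cases hlt : (hints.getD r (0, 0, false)).1 < rels.length
        · rw [hv, List.getD_eq_getElem _ _ hlt]
          exact ⟨hrels _ (List.getElem_mem hlt), hl _ (List.getElem_mem hlt)⟩
        · rw [hv, List.getD_eq_default _ _ (Nat.le_of_not_lt hlt)]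
          exact ⟨act_nil gen, fun g hg => absurd hg List.not_mem_nil⟩
      split_ifs
      · rw [act_invW hinv hv'.2, hv'.1, inv_one]
      · exact hv'.1
    rw [← entry, key, one_smul]
  · show act gen (entry D r) • _ = _
    by_cases ht : r < 16 * D.words.length
    · rcases h2 r ht with (e | e) | ⟨v, hv, e⟩
      · omega
      · rw [e, act_nil, one_smul]
      · rw [e]; exact fix _ (hsubs v hv)
    · have e : wordAt D r = ([], D.ng, []) := by
        rw [wordAt, List.getD_eq_default _ _ (show D.words.length ≤ r / 16 by omega)]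
        rfl
      simp [entry, e, act_nil]

/-- The subgroup with one point: a closed walk is a relation. -/
theorem eq_one_of_walk {gen : ℕ → M} (V : Paired.Valid D partner)
    (H : Paired.PairHyp D partner gen ((1 : M) : M ⧸ (⊥ : Subgroup M))) {w : List ℕ}
    (hw : ∀ g ∈ w, g < D.ng)
    (h : endsAt D (D.rm - 1) (walk D (D.rm - 1) 0 w) 0 = true) : act gen w = 1 := by
  have e := Paired.word_fix V H hw h
  rw [MulAction.Quotient.smul_coe, smul_eq_mul, mul_one, QuotientGroup.eq, mul_one] at e
  simpa using Subgroup.mem_bot.1 e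

end CfsgLib.HNxyz
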