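import Cfsg.Agent.S1708
import Cfsg.Prelude.Def_SporadicB
import Mathlib.Tactic.Group

/-!
# Central extensions restricted to the subgroup generated by x, y, z

A stem extension of the presented group splits over the perfect double cover inside ⟨x, y, z⟩, so
every relator in x, y, z lifts to a power of the square of a lift of z.
-/

set_option autoImplicit false
set_option maxRecDepth 100000
set_option linter.style.haveILetI false

namespace CfsgLib.HNxyz.Split

open CfsgLib.Golay Subgroup
open scoped commutatorElement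

/-- The group of pairs. -/
abbrev PM : Type := ↥(closure Cfsg.Agent.S1708.trio)

local notation "PD" => Cfsg.Agent.S1708.pairData
local notation "pj" => Cfsg.Agent.S1708.first

variable {E : Type} [Group E] (σ : E →* Cfsg.Spor.HN)

/-- The preimage of the double cover. -/
noncomputable def pre : Subgroup E := ((PD).N.map pj).comap σ

/-- Its derived subgroup. -/
noncomputable def core : Subgroup E := ⁅pre σ, pre σ⁆

theorem core_le : core σ ≤ pre σ := commutator_le_self _

theorem map_core (hs : Function.Surjective σ) : (core σ).map σ = (PD).N.map pj := by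
  rw [core, map_commutator, pre, map_comap_eq_self_of_surjective hs, ← map_commutator,
    Data.perfect]

theorem core_perfect (hs : Function.Surjective σ) (hc : σ.ker ≤ center E) :
    ⁅core σ, core σ⁆ = core σ := by
  refine le_antisymm (commutator_le_self _) ?_
  have hsplit : ∀ u ∈ pre σ, ∃ q ∈ core σ, ∃ k ∈ center E, u = k * q := by
    intro u hu
    have h1 : σ u ∈ (core σ).map σ := (map_core σ hs).symm ▸ hu
    obtain ⟨q, hq, e⟩ := h1
    refine ⟨q, hq, u * q⁻¹, hc ?_, by group⟩
    rw [MonoidHom.mem_ker, map_mul, map_inv, e, mul_inv_cancel]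
  refine (le_of_eq (show core σ = ⁅pre σ, pre σ⁆ from rfl)).trans (commutator_le.2 ?_)
  intro u hu v hv
  obtain ⟨q, hq, k, hk, rfl⟩ := hsplit u hu
  obtain ⟨r, hr, l, hl, rfl⟩ := hsplit v hv
  have hk' : ∀ g, g * k = k * g := mem_center_iff.1 hk
  have hl' : ∀ g, g * l = l * g := mem_center_iff.1 hl
  have : ⁅k * q, l * r⁆ = ⁅q, r⁆ := by
    rw [commutatorElement_def, commutatorElement_def]
    calc k * q * (l * r) * (k * q)⁻¹ * (l * r)⁻¹
        = k * (q * l) * r * q⁻¹ * k⁻¹ * (r⁻¹ * l⁻¹) := by simp only [mul_inv_rev, mul_assoc]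
      _ = (k * l) * (q * r * q⁻¹) * k⁻¹ * (r⁻¹ * l⁻¹) := by rw [hl' q]; simp only [mul_assoc]
      _ = (q * r * q⁻¹) * (k * l) * k⁻¹ * (r⁻¹ * l⁻¹) := by
        rw [show k * l * (q * r * q⁻¹) = q * r * q⁻¹ * (k * l) from
          ((mem_center_iff.1 (mul_mem hk hl)) _).symm]
      _ = q * r * q⁻¹ * l * (r⁻¹ * l⁻¹) := by
        rw [show k * l = l * k from (hk' l).symm]; group
      _ = q * r * q⁻¹ * (r⁻¹ * l) * l⁻¹ := by rw [hl' r⁻¹]; simp only [mul_assoc]
      _ = q * r * q⁻¹ * r⁻¹ := by group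
  rw [this]
  exact commutator_mem_commutator hq hr

/-- The map of the core onto the double cover. -/
noncomputable def down (hs : Function.Surjective σ) : ↥(core σ) →* ↥(PD).N :=
  ((PD).N.equivMapOfInjective pj Cfsg.Agent.S1708.first_injective).symm.toMonoidHom.comp
    ((σ.comp (core σ).subtype).codRestrict ((PD).N.map pj) fun g => map_core σ hs ▸ mem_map_of_mem σ g.2)

theorem down_spec (hs : Function.Surjective σ) (g : ↥(core σ)) : pj (down σ hs g : PM) = σ g := by
  have h := Subgroup.coe_equivMapOfInjective_apply (PD).N pj Cfsg.Agent.S1708.first_injective (down σ hs g)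
  rw [← h]
  simp [down]

theorem down_surjective (hs : Function.Surjective σ) : Function.Surjective (down σ hs) := by
  intro n
  have h : pj n.1 ∈ (core σ).map σ := (map_core σ hs).symm ▸ mem_map_of_mem pj n.2
  obtain ⟨g, hg, e⟩ := h
  exact ⟨⟨g, hg⟩, Subtype.ext (Cfsg.Agent.S1708.first_injective ((down_spec σ hs _).trans e))⟩

theorem down_ker (hs : Function.Surjective σ) (g : ↥(core σ)) (hg : down σ hs g = 1) : σ g = 1 := by
  rw [← down_spec σ hs g, hg, OneMemClass.coe_one, map_one]

theorem core_perfect' (hs : Function.Surjective σ) (hc : σ.ker ≤ center E) :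
    commutator ↥(core σ) = ⊤ :=
  map_injective (core σ).subtype_injective <| by
    rw [map_subtype_commutator, core_perfect σ hs hc, ← MonoidHom.range_eq_map, range_subtype]

theorem down_injective [Finite E] (hs : Function.Surjective σ) (hc : σ.ker ≤ center E) :
    Function.Injective (down σ hs) := by
  haveI := (PD).finite
  let τ : ↥(core σ) →* ↥HS.hsGroup := (PD).σ.comp (down σ hs)
  have hcent : τ.ker ≤ center ↥(core σ) := by
    intro g hg
    rw [MonoidHom.mem_ker, MonoidHom.comp_apply] at hg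
    have hgc : down σ hs g ∈ center ↥(PD).N := (PD).σ_kernel_central (MonoidHom.mem_ker.2 hg)
    have hk : ∀ h : ↥(core σ), (⁅g.1, h.1⁆ : E) ∈ center E := by
      intro h
      refine hc ?_
      have e : down σ hs ⁅g, h⁆ = 1 := by
        rw [map_commutatorElement, commutatorElement_eq_one_iff_mul_comm]
        exact (mem_center_iff.1 hgc _).symm
      exact down_ker σ hs ⁅g, h⁆ e
    let f : ↥(core σ) →* ↥(center E) :=
      { toFun := fun h => ⟨_, hk h⟩
        map_one' := Subtype.ext (commutatorElement_one_right _)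
        map_mul' := fun u v => Subtype.ext (by
          have hc' := mem_center_iff.1 (hk v)
          show ⁅g.1, u.1 * v.1⁆ = ⁅g.1, u.1⁆ * ⁅g.1, v.1⁆
          have e : ⁅g.1, u.1 * v.1⁆ = ⁅g.1, u.1⁆ * (u.1 * ⁅g.1, v.1⁆ * (u.1)⁻¹) := by
            simp only [commutatorElement_def]; group
          rw [e, hc' u.1, mul_assoc, mul_inv_cancel, mul_one]) }
    have hle : commutator ↥(core σ) ≤ f.ker := by
      rw [_root_.commutator_def, commutator_le]
      intro u _ v _
      rw [MonoidHom.mem_ker, map_commutatorElement, commutatorElement_eq_one_iff_mul_comm]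
      exact Subtype.ext (mem_center_iff.1 (f v).2 _)
    rw [mem_center_iff]
    intro h
    have h1 : f h = 1 := hle (core_perfect' σ hs hc ▸ mem_top h)
    have h2 : ⁅g.1, h.1⁆ = 1 := congrArg Subtype.val h1
    exact Subtype.ext (commutatorElement_eq_one_iff_mul_comm.1 h2).symm
  have hstem : Cfsg.IsStemExtension τ :=
    ⟨(PD).σ_surjective.comp (down_surjective σ hs), hcent, by rw [core_perfect' σ hs hc]; exact le_top⟩
  obtain ⟨-, hdvd⟩ := CfsgLib.Schur.Tails.HS.bound τ hstem
  let f : ↥τ.ker →* ↥(PD).σ.ker :=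
    ((down σ hs).comp τ.ker.subtype).codRestrict _ fun g => g.2
  have hfs : Function.Surjective f := by
    rintro ⟨n, hn⟩
    obtain ⟨g, rfl⟩ := down_surjective σ hs n
    exact ⟨⟨g, hn⟩, rfl⟩
  have hle : Nat.card ↥τ.ker ≤ Nat.card ↥(PD).σ.ker := by
    rw [(PD).ker_eq.1]
    exact Nat.le_of_dvd (by norm_num) hdvd
  have hfb : Function.Bijective f := (Nat.bijective_iff_surjective_and_card f).2
    ⟨hfs, le_antisymm hle (Nat.card_le_card_of_surjective f hfs)⟩
  refine (injective_iff_map_eq_one _).2 fun g hg => ?_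
  have hgk : g ∈ τ.ker := by rw [MonoidHom.mem_ker, MonoidHom.comp_apply, hg, map_one]
  have : (⟨g, hgk⟩ : ↥τ.ker) = 1 := hfb.1 (Subtype.ext (hg.trans (map_one f ▸ rfl)))
  exact congrArg Subtype.val this

/-- The canonical lift of an element of the double cover. -/
noncomputable def lift (hs : Function.Surjective σ) (n : ↥(PD).N) : E :=
  (Function.surjInv (down_surjective σ hs) n).1

theorem lift_mem (hs : Function.Surjective σ) (n : ↥(PD).N) : lift σ hs n ∈ core σ :=
  (Function.surjInv (down_surjective σ hs) n).2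

theorem σ_lift (hs : Function.Surjective σ) (n : ↥(PD).N) : σ (lift σ hs n) = pj n.1 := by
  rw [lift, ← down_spec σ hs, Function.surjInv_eq (down_surjective σ hs)]

theorem lift_unique [Finite E] (hs : Function.Surjective σ) (hc : σ.ker ≤ center E) {g : E}
    (hg : g ∈ core σ) {n : ↥(PD).N} (h : σ g = pj n.1) : g = lift σ hs n := by
  have e : down σ hs ⟨g, hg⟩ = down σ hs (Function.surjInv (down_surjective σ hs) n) := by
    rw [Function.surjInv_eq (down_surjective σ hs)]
    exact Subtype.ext (Cfsg.Agent.S1708.first_injective ((down_spec σ hs _).trans h))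
  exact congrArg Subtype.val (down_injective σ hs hc e)

theorem lift_mul [Finite E] (hs : Function.Surjective σ) (hc : σ.ker ≤ center E) (m n : ↥(PD).N) :
    lift σ hs (m * n) = lift σ hs m * lift σ hs n :=
  (lift_unique σ hs hc (mul_mem (lift_mem σ hs m) (lift_mem σ hs n))
    (by rw [map_mul, σ_lift, σ_lift, Subgroup.coe_mul, map_mul])).symm

theorem core_conj {h : E} {m : PM} (hh : σ h = pj m) {g : E} (hg : g ∈ core σ) :
    h * g * h⁻¹ ∈ core σ := by
  have hpre : (pre σ).map (MulAut.conj h).toMonoidHom ≤ pre σ := by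
    rintro _ ⟨u, hu, rfl⟩
    obtain ⟨n, hn, e⟩ := hu
    exact ⟨m * n * m⁻¹, (PD).normal_N.conj_mem n hn m, by
      simp [MulEquiv.coe_toMonoidHom, MulAut.conj_apply, map_mul, map_inv, e, hh]⟩
  have h1 : (core σ).map (MulAut.conj h).toMonoidHom ≤ core σ := by
    rw [core, map_commutator]
    exact commutator_mono hpre hpre
  exact h1 ⟨g, hg, rfl⟩

theorem conj_lift [Finite E] (hs : Function.Surjective σ) (hc : σ.ker ≤ center E) {h : E} {m : PM}
    (hh : σ h = pj m) (n : ↥(PD).N) :
    h * lift σ hs n * h⁻¹ = lift σ hs ⟨m * n.1 * m⁻¹, (PD).normal_N.conj_mem n.1 n.2 m⟩ :=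
  lift_unique σ hs hc (core_conj σ hh (lift_mem σ hs n))
    (by rw [map_mul, map_mul, map_inv, σ_lift, hh, map_mul, map_mul, map_inv])

/-- The letters in a lift of x, y, z. -/
noncomputable def letE (hs : Function.Surjective σ) (Z : E) : ℕ → E :=
  elt (lift σ hs ⟨(PD).a, (PD).mem_a⟩) (lift σ hs ⟨(PD).b, (PD).mem_b⟩) Z

/-- The exponent of z in a word. -/
def zCount : List ℕ → ℤ
  | [] => 0
  | g :: w => (if g = 4 then 1 else if g = 5 then -1 else 0) + zCount w

theorem letter_split [Finite E] (hs : Function.Surjective σ) (hc : σ.ker ≤ center E) {Z : E}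
    (hZ : σ Z = pj (PD).c) : ∀ w : List ℕ, (∀ g ∈ w, g < 6) → ∃ n : ↥(PD).N,
      evalW (letE σ hs Z) w = lift σ hs n * Z ^ zCount w ∧
      evalW (elt (PD).a (PD).b (PD).c) w = n.1 * (PD).c ^ zCount w := by
  intro w
  induction w with
  | nil =>
    intro _
    refine ⟨1, ?_, by simp [evalW_nil, zCount]⟩
    have : (1 : E) = lift σ hs 1 := lift_unique σ hs hc (one_mem _) (by simp)
    simp [evalW_nil, zCount, ← this]
  | cons g w ih =>
    intro hw
    obtain ⟨n, e1, e2⟩ := ih fun x hx => hw x (List.mem_cons_of_mem _ hx)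
    have hg := hw g (List.mem_cons_self ..)
    have hinN : ∀ m : ↥(PD).N, ∃ n' : ↥(PD).N,
        lift σ hs m * (lift σ hs n * Z ^ zCount w) = lift σ hs n' * Z ^ (0 + zCount w) ∧
        m.1 * (n.1 * (PD).c ^ zCount w) = n'.1 * (PD).c ^ (0 + zCount w) := fun m =>
      ⟨m * n, by rw [lift_mul σ hs hc, zero_add, mul_assoc],
        by rw [zero_add, Subgroup.coe_mul, mul_assoc]⟩
    have hinv : ∀ m : ↥(PD).N, (lift σ hs m)⁻¹ = lift σ hs m⁻¹ := fun m =>
      lift_unique σ hs hc (inv_mem (lift_mem σ hs m))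
        (by rw [map_inv, σ_lift, Subgroup.coe_inv, map_inv])
    have hz : ∀ k : ℤ, σ (Z ^ k) = pj ((PD).c ^ k) := fun k => by rw [map_zpow, hZ, map_zpow]
    have hout : ∀ k : ℤ, ∃ n' : ↥(PD).N,
        Z ^ k * (lift σ hs n * Z ^ zCount w) = lift σ hs n' * Z ^ (k + zCount w) ∧
        (PD).c ^ k * (n.1 * (PD).c ^ zCount w) = n'.1 * (PD).c ^ (k + zCount w) := fun k =>
      ⟨⟨(PD).c ^ k * n.1 * ((PD).c ^ k)⁻¹, (PD).normal_N.conj_mem n.1 n.2 _⟩,
        by rw [← conj_lift σ hs hc (hz k) n, zpow_add]; group,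
        by rw [zpow_add]; group⟩
    rw [evalW_cons, evalW_cons, e1, e2, zCount]
    rcases g with _ | _ | _ | _ | _ | _ | g
    · simpa [letE, elt] using hinN ⟨(PD).a, (PD).mem_a⟩
    · obtain ⟨n', a1, a2⟩ := hinN (⟨(PD).a, (PD).mem_a⟩)⁻¹
      exact ⟨n', by simpa [letE, elt, hinv] using a1, by simpa [elt] using a2⟩
    · simpa [letE, elt] using hinN ⟨(PD).b, (PD).mem_b⟩
    · obtain ⟨n', a1, a2⟩ := hinN (⟨(PD).b, (PD).mem_b⟩)⁻¹
      exact ⟨n', by simpa [letE, elt, hinv] using a1, by simpa [elt] using a2⟩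
    · simpa [letE, elt] using hout 1
    · simpa [letE, elt] using hout (-1)
    · omega

/-- A relator in x, y, z lifts to a power of the square of the lift of z. -/
theorem rel_value [Finite E] (hs : Function.Surjective σ) (hc : σ.ker ≤ center E) {Z : E}
    (hZ : σ Z = pj (PD).c) {w : List ℕ} (hw : w ∈ xyzRels) {m : ℤ} (hm : zCount w = 2 * m) :
    evalW (letE σ hs Z) w = (Z ^ 2) ^ m := by
  have hlt : ∀ g ∈ w, g < 6 := by
    have h : xyzRels.all (fun w => w.all fun g => decide (g < 6)) = true := by decide +kernel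
    exact fun g hg => of_decide_eq_true (List.all_eq_true.1 (List.all_eq_true.1 h w hw) g hg)
  obtain ⟨n, e1, e2⟩ := letter_split σ hs hc hZ w hlt
  rw [(PD).rels w hw, hm, zpow_mul] at e2
  have hcc : (PD).c ^ (2 : ℤ) = 1 := by rw [zpow_two]; exact z_sq (PD).rels
  rw [hcc, one_zpow, mul_one] at e2
  have hn : n = 1 := Subtype.ext e2.symm
  have h1 : (1 : E) = lift σ hs 1 := lift_unique σ hs hc (one_mem _) (by simp)
  rw [e1, hn, ← h1, one_mul, hm, zpow_mul]
  norm_num [zpow_two, pow_two]

end CfsgLib.HNxyz.Split
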